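import Cfsg.Agent.MK.S7.Cov
import Cfsg.Agent.MK.S7.X22D
import Cfsg.Agent.MK.T.A
import Cfsg.Agent.TAB.F22.Cov

/-!
# MK, `3.Fi22` : sixteen faithful characters of odd degree (helper16)

Let `r ψ` be the mean value of `ψ` on the elements of order `16`.  Then `r ψ` is an integer of the parity of the degree,
the squares add up to `16`, and the enumeration of the short vectors of the dual lattice excludes `|r ψ| ≥ 2`.
-/

set_option autoImplicit false
set_option maxRecDepth 100000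
set_option exponentiation.threshold 5000

namespace Cfsg.Agent.MK.S7.X22

open Cfsg Finset Cfsg.Agent.TAB.Cov Cfsg.Agent.TAB.Eng Cfsg.Agent.TAB.F22 Cfsg.Agent.TAB.F22.Cv Cfsg.Agent.ODD.Red
open Cfsg.Agent.Characters Cfsg.Agent.Characters.Core Cfsg.Agent.Characters.Brauer Cfsg.Agent.H139.Cusp
open Cfsg.Agent.H494.F22 (A rho rho_injective exists_aut tau tau_inv tau_sq tau_mem_A)
open scoped ComplexConjugate

theorem exists_al : ∃ α : MulAut Spor.Fi22, (∀ g, ty (α g) = ty g) ∧ (∀ g, α (α g) = g) ∧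
    ∀ g a, ty g = ty a → ∃ n, g = n * a * n⁻¹ ∨ g = n * α a * n⁻¹ := by
  obtain ⟨α, hα⟩ := exists_aut tau_mem_A
  refine ⟨α, fun g => by rw [ty, ty, fam_conj tau_mem_A (hα g)], fun g => rho_injective ?_, fun g a h => ?_⟩
  · rw [hα, hα, tau_inv, ← mul_assoc, ← mul_assoc, tau_sq, one_mul, mul_assoc, tau_sq, mul_one]
  obtain ⟨-, b, hb, e⟩ := fam_spec g
  obtain ⟨-, c, hc, e'⟩ := fam_spec a
  rw [((ty_iff (ty_lt a)).1 h).trans ((ty_iff (ty_lt a)).1 rfl).symm] at e
  have h2 : rho g = b * c⁻¹ * rho a * (b * c⁻¹)⁻¹ := by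
    rw [e, e']
    group
  rcases H878.EPX.FiK.A_le (A.mul_mem hb (A.inv_mem hc)) with ⟨n, hn⟩ | ⟨n, hn⟩
  · exact ⟨n, Or.inl (rho_injective (by rw [map_mul, map_mul, map_inv, hn, h2]))⟩
  · refine ⟨n, Or.inr (rho_injective ?_)⟩
    rw [map_mul, map_mul, map_inv, hn, hα]
    calc rho g = b * c⁻¹ * (tau * tau) * rho a * (tau * tau)⁻¹ * (b * c⁻¹)⁻¹ := by
          rw [tau_sq, inv_one, mul_one, mul_one, h2]
      _ = _ := by group

variable {X : Type} [Group X] [Fintype X] (M : Md X)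

theorem sum_fib [Fintype Spor.Fi22] (F : Spor.Fi22 → ℂ) : ∑ x, F (M.π x) = 3 * ∑ g, F g := by
  classical
  rw [← Finset.sum_fiberwise (s := Finset.univ) (g := M.π), Finset.mul_sum]
  refine Finset.sum_congr rfl fun g _ => ?_
  rw [Finset.sum_congr rfl (g := fun _ => F g) fun x hx => by rw [(Finset.mem_filter.1 hx).2], Finset.sum_const,
    MonoidHom.card_fiber_eq_of_mem_range M.π (M.surj g) (M.surj 1), nsmul_eq_mul, ← Nat.cast_ofNat, ← M.card,
    Nat.card_eq_fintype_card, Fintype.card_subtype]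
  exact congrArg (fun s : Finset X => (s.card : ℂ) * F g) (Finset.filter_congr fun x _ => MonoidHom.mem_ker.symm)

theorem sum_one {t : ℕ} (ht : t < 59) (c : ℂ) : ∑ x, (if ty (M.π x) = t then c else 0) = 3 * dat.cnt t * c := by
  have h1 := congrArg (fun r : ℝ => (r : ℂ) * c) (sum_ind M ht 1)
  simp only [Complex.ofReal_sum, apply_ite Complex.ofReal, Finset.sum_mul, ite_mul, Complex.ofReal_one,
    Complex.ofReal_zero, one_mul, zero_mul] at h1
  rw [h1]
  push_cast
  ring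

omit [Fintype X] in
theorem pi_z (x : X) : M.π (M.z * x) = M.π x := by
  rw [map_mul, show M.π M.z = 1 from (M.ker ▸ Subgroup.mem_zpowers M.z : M.z ∈ M.π.ker), one_mul]

/-- **the mean value on a type** -/
theorem avg {α : MulAut Spor.Fi22} (h1 : ∀ g, ty (α g) = ty g) (h2 : ∀ g, α (α g) = g)
    (h3 : ∀ g a, ty g = ty a → ∃ n, g = n * a * n⁻¹ ∨ g = n * α a * n⁻¹) {H : X → ℂ} (hz : ∀ x, H (M.z * x) = H x)
    (hc : ∀ c x, H (c * x * c⁻¹) = H x) {a b : X} (h : M.π b = α (M.π a)) :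
    2 * ∑ x, (if ty (M.π x) = ty (M.π a) then H x else 0) = 3 * dat.cnt (ty (M.π a)) * (H a + H b) := by
  have := fin22
  have := Fintype.ofFinite Spor.Fi22
  obtain ⟨F, hF⟩ : ∃ F : Spor.Fi22 → ℂ, ∀ x, H x = F (M.π x) := ⟨fun g => H (Function.surjInv M.surj g), fun x => by
    obtain ⟨j, hj⟩ := exists_om M (Function.surjInv_eq M.surj (M.π x))
    simp only [hj, om_val M (w := 1) (Ψ := H) fun x => by rw [hz, one_mul], one_pow, one_mul]⟩
  have h4 : ∀ n g, F (n * g * n⁻¹) = F g := fun n g => by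
    obtain ⟨n, rfl⟩ := M.surj n
    obtain ⟨g, rfl⟩ := M.surj g
    rw [← map_inv, ← map_mul, ← map_mul, ← hF, ← hF, hc]
  have h5 := Equiv.sum_comp α.toEquiv fun g => if ty g = ty (M.π a) then F g else 0
  rw [← sum_one M (ty_lt _), sum_fib M fun g => if ty g = ty (M.π a) then H a + H b else 0]
  simp only [hF, h, sum_fib M fun g => if ty g = ty (M.π a) then F g else 0]
  rw [mul_left_comm, two_mul]
  nth_rewrite 2 [← h5]
  rw [← Finset.sum_add_distrib]
  refine congrArg _ (Finset.sum_congr rfl fun g _ => ?_)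
  change _ + (if ty (α g) = _ then F (α g) else 0) = _
  rw [h1]
  split_ifs with e
  · obtain ⟨n, rfl | rfl⟩ := h3 _ _ e
    · rw [map_mul, map_mul, map_inv α, h4, h4]
    · rw [map_mul, map_mul, map_inv α, h4, h4, h2, add_comm]
  · exact add_zero 0

variable {B : GL (Fin 54) (ZMod 2) → ℂ} {w : ℂ} {Ψ ψ : X → ℂ}

omit [Fintype X] in
theorem pw_z (x : X) : (M.z * x) ^ 160161 = x ^ 160161 := by
  rw [om_pow', show 160161 = 3 * 53387 from rfl, pow_mul M.z, M.cube, one_pow, one_mul]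

omit [Fintype X] in
theorem hh_z (hw : w ^ 3 = 1) (hz : ∀ x, Ψ (M.z * x) = w * Ψ x) (x : X) : hh M B w Ψ (M.z * x) = hh M B w Ψ x := by
  rw [hh, hh, pi_z, pw_z, hz, ← be_om M hw x, mul_comm w, mul_assoc]

omit [Fintype X] in
theorem hh_c (hB : Lift B) (hc : ∀ c x, Ψ (c * x * c⁻¹) = Ψ x) (c x : X) :
    hh M B w Ψ (c * x * c⁻¹) = hh M B w Ψ x := by
  rw [hh, hh, conj_pow, hc, hc, be_conj M hB, map_mul, map_mul, map_inv, ← td_ty, td.conj, td_ty]

omit [Fintype X] in
theorem be_sq (hB : Lift B) (hw : 1 + w + w ^ 2 = 0) (y : X) : be M B w (y ^ 2) = conj (be M B w y) := by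
  have h1 : ∀ x, conj (B (M.ρ x)) = B (M.ρ x) := fun x => by
    have h1 := lift_inv M hB x
    obtain ⟨a, b, ha, hb, rfl⟩ := hB.gen
    simpa [isCharacter_apply_inv ha, isCharacter_apply_inv hb] using h1
  have h2 : ∀ x, B (M.ρ (x ^ 2)) = B (M.ρ x) := fun x => by rw [map_pow, hB.sq]
  have h3 : M.z * (M.z * y ^ 2) = (M.z * y) ^ 2 := by rw [om_pow', pow_two M.z, mul_assoc]
  have h4 : M.z * y ^ 2 = (M.z * (M.z * y)) ^ 2 := by rw [om_pow', ← h3, pow_two M.z, mul_assoc, om_three]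
  have h5 := congrArg conj hw
  simp only [map_add, map_pow, map_one, map_zero] at h5
  have h6 : conj w = -1 - w :=
    mul_left_cancel₀ (sub_ne_zero.2 (conj_ne (ω := w) (by linear_combination hw))) (by linear_combination h5 - hw)
  rw [be, be, h3, h4, h2, h2, h2]
  simp only [map_div₀, map_add, map_mul (starRingEnd ℂ), map_pow (starRingEnd ℂ), h1, h6, map_ofNat]
  linear_combination (B (M.ρ (M.z * y)) - B (M.ρ (M.z * (M.z * y)))) / 3 * hw

/-- **the normal lift** -/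
theorem nrm (hB : Lift B) (hw : 1 + w + w ^ 2 = 0) (x : X) (h1 : dat.pwf (ty (M.π x)) 16 = 7)
    (h2 : ∀ k < 48, if 3 ∣ dat.ord (dat.pwf (ty (M.π x)) k) then k % 3 ≠ 0 ∧ nth bb (dat.pwf (ty (M.π x)) k) = 9
      else k % 3 = 0) : ∃ a : X, M.π a = M.π x ∧ a ^ 48 = 1 ∧ ∀ k < 48, hh M B w Ψ (a ^ k) = Ψ (a ^ k) := by
  have hw3 : w ^ 3 = 1 := by linear_combination (w - 1) * hw
  have h3 : ∀ y, be M B w (y ^ 16) = be M B w y := fun y => by
    rw [show 16 = 4 * 4 from rfl, pow_mul, be_four M hB, be_four M hB]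
  have h4 : ∀ y k, ty (M.π (y ^ k)) = dat.pwf (ty (M.π y)) k := fun y k => by
    rw [map_pow]
    exact td.pow _ _
  obtain ⟨j, hj⟩ := (be_val M hB hw (x ^ 16) (by rw [h4, h1]; decide)).1
  rw [h3, h4, h1, ← be_om_pow M hw3 x (2 * j), ← mul_assoc, ← pow_add, show j + 2 * j = 3 * j by ring, pow_mul, hw3,
    one_pow, one_mul, ← h3, show nth bb 7 = 9 from rfl, Int.cast_ofNat] at hj
  have h5 : M.π (M.z ^ (2 * j) * x) = M.π x := by
    rw [map_mul, map_pow, ← mul_one M.z, pi_z, map_one, one_pow, one_mul]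
  generalize M.z ^ (2 * j) * x = a at hj h5
  rw [← h5] at h1 h2
  obtain ⟨i, hi⟩ := exists_om M ((pow_ord M (a ^ 16) (m := 3) (by rw [h4, h1]; decide)).trans (map_one M.π).symm)
  have h6 := be_om_pow M (B := B) hw3 (a ^ 16) i
  rw [mul_one] at hi
  rw [← hi, ← pow_succ, be_four M hB, hj] at h6
  have h7 : (a ^ 16) ^ 3 = 1 := by
    obtain ⟨q, rfl | rfl | rfl⟩ : ∃ q, i = 3 * q ∨ i = 3 * q + 1 ∨ i = 3 * q + 2 := ⟨i / 3, by omega⟩
    · rw [hi, pow_mul, M.cube, one_pow]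
    · rw [pow_add, pow_mul, hw3, one_pow] at h6
      exact absurd (show (3 : ℂ) = 0 by linear_combination hw - (w + 2) / 9 * h6) three_ne_zero
    · rw [pow_add, pow_mul, hw3, one_pow] at h6
      exact absurd (show (3 : ℂ) = 0 by linear_combination (2 - w) * hw + (w - 1) / 9 * h6) three_ne_zero
  refine ⟨a, h5, by rw [← h7, ← pow_mul], fun k hk => ?_⟩
  have h8 := h2 k hk
  rw [hh, h4]
  split_ifs at h8 ⊢
  · rw [h8.2, ← h3, ← pow_mul, mul_comm k, pow_mul, pow_eq_pow_mod k h7]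
    rcases (by omega : k % 3 = 1 ∨ k % 3 = 2) with h | h <;> rw [h]
    · rw [pow_one, hj, Int.cast_ofNat, mul_div_cancel_right₀ _ (by norm_num)]
    · rw [be_sq M hB hw, hj, map_ofNat, Int.cast_ofNat, mul_div_cancel_right₀ _ (by norm_num)]
  · rw [← pow_mul, show k * 160161 = 16 * 3 * (10010 * (k / 3)) + k by omega, pow_add, pow_mul, pow_mul a, h7, one_pow,
      one_mul]

omit [Fintype X] in
theorem cyc_sum (hψ : IsCharacter X ψ) {a : X} (h : a ^ 48 = 1) : ∃ n : ℤ, ∑ k ∈ range 48, ψ (a ^ k) = 48 * n := by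
  obtain ⟨n, hn⟩ := sum_int (isGeneralizedCharacter_comp (MonoidHom.mk' (fun k : Multiplicative (ZMod 48) =>
    a ^ k.toAdd.val) fun k l => by rw [toAdd_mul, ZMod.val_add, ← pow_eq_pow_mod _ h, pow_add])
      (isGeneralizedCharacter_of_isCharacter hψ))
  rw [← Equiv.sum_comp Multiplicative.ofAdd, Nat.card_eq_fintype_card, Fintype.card_multiplicative, ZMod.card] at hn
  exact ⟨n, (Finset.sum_range _).trans hn⟩

theorem pair_I (hB : Lift B) (hw : 1 + w + w ^ 2 = 0) (hψ : IsCharacter X ψ) (hz : ∀ x, ψ (M.z * x) = w * ψ x) :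
    ∀ p ∈ inds, ∃ n : ℤ, ∑ x, hh M B w (fun x => ψ x + ψ x) x * nth p.2 (ty (M.π x)) = 2 * 3 * dat.N * n := by
  intro p hp
  obtain ⟨h1, h2, h3, h4⟩ := inds_chk p hp
  obtain ⟨α, a1, a2, a3⟩ := exists_al
  obtain ⟨x, hx⟩ := M.surj (rp ((p.1 + 58) % 59))
  have h5 : ty (M.π x) = p.1 := (ty_iff h1).2 (hx ▸ fam_rp (Nat.mod_lt _ (by decide)))
  obtain ⟨y, hy⟩ := M.surj (α (M.π x))
  have h6 : ty (M.π y) = p.1 := by rw [hy, a1, h5]
  obtain ⟨a, b1, b2, b3⟩ := nrm M (Ψ := fun x => ψ x + ψ x) hB hw x (h5 ▸ h2) fun k hk => h5 ▸ (h3 k hk).2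
  obtain ⟨b, c1, c2, c3⟩ := nrm M (Ψ := fun x => ψ x + ψ x) hB hw y (h6 ▸ h2) fun k hk => h6 ▸ (h3 k hk).2
  obtain ⟨n, hn⟩ := cyc_sum hψ b2
  obtain ⟨m, hm⟩ := cyc_sum hψ c2
  have h7 := fun k => avg M a1 a2 a3 (H := hh M B w fun x => ψ x + ψ x) (hh_z M (by linear_combination (w - 1) * hw)
    fun x => by rw [hz, mul_add]) (hh_c M hB fun c x => by rw [isCharacter_isClassFunction hψ]) (a := a ^ k) (b := b ^ k)
      (by rw [map_pow, map_pow, map_pow, c1, b1, hy])
  have h8 : ∀ k, ty (M.π (a ^ k)) = dat.pwf p.1 k := fun k => by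
    rw [map_pow, b1, ← h5]
    exact td.pow _ _
  have h9 : ∀ t < 59, (dat.cnt t : ℂ) ≠ 0 := fun t ht =>
    Nat.cast_ne_zero.2 ((by decide +kernel : ∀ t < 59, dat.cnt t ≠ 0) t ht)
  simp only [h8] at h7
  generalize hh M B w (fun x => ψ x + ψ x) = H at b3 c3 h7
  have h10 : ∀ x, H x * nth p.2 (ty (M.π x)) = ∑ k ∈ range 48, dat.N / (48 * dat.cnt (dat.pwf p.1 k)) *
      (2 * if ty (M.π x) = dat.pwf p.1 k then H x else 0) := fun x => by
    have h10 := congrArg (Int.cast : ℤ → ℂ) (h4 _ (ty_lt (M.π x)))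
    have h11 := h9 _ (ty_lt (M.π x))
    push_cast at h10
    rw [← mul_div_cancel_right₀ (nth p.2 (ty (M.π x)) : ℂ) (mul_ne_zero (by norm_num : (48 : ℂ) ≠ 0) h11), ← mul_assoc,
      h10, Finset.sum_div, Finset.mul_sum]
    refine Finset.sum_congr rfl fun k _ => ?_
    split_ifs with e
    · rw [← e]
      ring
    · simp
  refine ⟨n + m, ?_⟩
  simp only [h10]
  rw [Finset.sum_comm, Finset.sum_congr rfl (g := fun k => dat.N / 8 * (ψ (a ^ k) + ψ (b ^ k))) fun k hk => ?_,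
    ← Finset.mul_sum, Finset.sum_add_distrib, hn, hm]
  · push_cast
    ring
  · have h11 := h9 _ (h3 k (mem_range.1 hk)).1
    rw [← Finset.mul_sum, ← Finset.mul_sum, h7, b3 k (mem_range.1 hk), c3 k (mem_range.1 hk)]
    field_simp
    ring

theorem int_lin {ι : Type} [Fintype ι] {t : ι → ℕ} {h : ι → ℝ} {K : ℝ} (r : List ℤ) {vs : List (List ℤ)}
    (H : ∀ v ∈ vs, ∃ a : ℤ, ∑ x, h x * nth v (t x) = K * a) : ∃ a : ℤ, ∑ x, h x * nth (lin r vs) (t x) = K * a := by
  obtain ⟨as, h1⟩ : ∃ as, List.Forall₂ (fun v (a : ℤ) => ∑ x, h x * nth v (t x) = K * a) vs as := by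
    induction vs with
    | nil => exact ⟨[], .nil⟩
    | cons v vs ih =>
      obtain ⟨a, h1⟩ := H v List.mem_cons_self
      obtain ⟨as, h2⟩ := ih fun u hu => H u (List.mem_cons_of_mem _ hu)
      exact ⟨a :: as, .cons h1 h2⟩
  exact ⟨_, pair_lin r h1⟩

theorem re_sum {H : X → ℂ} {v : List ℤ} {a : ℤ} (h : ∑ x, H x * nth v (ty (M.π x)) = 2 * 3 * dat.N * a) :
    ∑ x, (H x).re * nth v (ty (M.π x)) = 2 * 3 * dat.N * a := by
  have h4 := congrArg Complex.re (h.trans (show _ = ((2 * 3 * dat.N * a : ℝ) : ℂ) by push_cast; rfl))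
  rw [Complex.re_sum, Complex.ofReal_re] at h4
  simpa only [Complex.mul_re, Complex.intCast_re, Complex.intCast_im, mul_zero, sub_zero] using h4

/-- **the mean value on the elements of order `16`** -/
theorem r_md (hψ : IsIrrCharacter X ψ) (hw : 1 + w + w ^ 2 = 0) (hz : ∀ x, ψ (M.z * x) = w * ψ x) :
    ∃ r : ℤ, ∑ x, ψ (x ^ 160161) * nth vR (ty (M.π x)) = Nat.card X * r ∧
      r * r = if Odd (charDegree ψ) then 1 else 0 := by
  obtain ⟨B, hB⟩ := exists_lift (n := 54) (by norm_num)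
  have hc := isIrr_isCharacter hψ
  obtain ⟨a, ha⟩ := sum_int (isGeneralizedCharacter_mul (isGeneralizedCharacter_pow
    (isGeneralizedCharacter_of_isCharacter hc) 160161) (gen_pi M (virt_lin cP virt_rows)))
  obtain ⟨r, hr⟩ : ∃ r : ℤ, r = charDegree ψ - 2 * a := ⟨_, rfl⟩
  have h1 : ∑ x, ψ (x ^ 160161) * nth vR (ty (M.π x)) = Nat.card X * r := by
    have h1 : ∀ x, ψ (x ^ 160161) * nth vR (ty (M.π x)) = (if ty (M.π x) = 0 then dat.N * charDegree ψ else 0 : ℂ) -
        2 * (ψ (x ^ 160161) * nth (lin cP (rowA ++ rowB)) (ty (M.π x))) := fun x => by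
      have h1 := congrArg (Int.cast : ℤ → ℂ) (cP_chk _ (ty_lt (M.π x)))
      split_ifs at h1 ⊢ with h <;> push_cast at h1
      · have h3 : x ^ 160161 = 1 := by
          rw [show 160161 = 1 * 3 * 53387 from rfl, pow_mul, pow_ord' M x (by rw [h]; decide), one_pow]
        rw [h3, apply_one hc]
        linear_combination charDegree ψ * h1
      · linear_combination ψ (x ^ 160161) * h1
    simp only [Pi.mul_apply] at ha
    simp only [h1, Finset.sum_sub_distrib, ← Finset.mul_sum, ha, sum_one M (show 0 < 59 by decide), hr, Cv.card_cov M,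
      show dat.cnt 0 = 1 from rfl]
    push_cast
    ring
  refine ⟨r, h1, ?_⟩
  suffices h : r = -1 ∨ r = 0 ∨ r = 1 by
    simp only [Nat.odd_iff]
    split_ifs <;> rcases h with h | h | h <;> first | omega | (rw [h]; rfl)
  have hz' : ∀ x, ψ (M.z * x) + ψ (M.z * x) = w * (ψ x + ψ x) := fun x => by rw [hz, mul_add]
  have h2 := Finset.sum_le_sum fun x (_ : x ∈ Finset.univ) => show (hh M B w (fun x => ψ x + ψ x) x).re ^ 2 ≤
      4 * Complex.normSq (ψ x) by
    have h2 := hh_le M (Ψ := fun x => ψ x + ψ x) hB hw hz' x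
    rw [← two_mul, map_mul, Complex.normSq_ofNat, Complex.normSq_apply] at h2
    linarith [mul_self_nonneg (hh M B w (fun x => ψ x + ψ x) x).im]
  have h3 : ∑ x, Complex.normSq (ψ x) = 3 * dat.N := by
    have h3 := (classInner_self_eq_ofReal ψ).symm.trans (classInner_irr_self hψ)
    rw [← Complex.ofReal_one, Complex.ofReal_inj, inv_mul_eq_one₀ (by exact_mod_cast Nat.card_pos.ne'), Cv.card_cov M] at h3
    exact_mod_cast h3.symm
  have h4 : ∑ x, (hh M B w (fun x => ψ x + ψ x) x).re * nth vR (ty (M.π x)) = 2 * 3 * dat.N * r := re_sum M (by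
    rw [Cv.card_cov M] at h1
    push_cast at h1
    rw [mul_assoc, mul_assoc, ← mul_assoc 3, ← h1, Finset.mul_sum]
    refine Finset.sum_congr rfl fun x _ => ?_
    rw [vR_chk _ (ty_lt _), hh]
    split_ifs with e1 e2
    · exact absurd (e2 ▸ e1) (by decide)
    · simp
    · ring
    · simp)
  have h5 : ∀ l ∈ mv, ∃ a : ℤ, ∑ x, (hh M B w (fun x => ψ x + ψ x) x).re * nth l.v (ty (M.π x)) =
      2 * 3 * dat.N * a := fun l hl => by
    obtain ⟨c, h5, rfl⟩ := List.mem_map.1 hl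
    have h6 := allL_spec mc_chk c h5
    rw [frL_eq] at h6
    rw [← of_decide_eq_true h6]
    refine int_lin _ fun v hv => ?_
    rcases List.mem_append.1 hv with hv | hv <;> obtain ⟨p, hp, rfl⟩ := List.mem_map.1 hv
    · exact pair_lv M hB hw hc Two.refl hz' p hp
    · exact (pair_I M hB hw hc hz p hp).imp fun _ => re_sum M
  rw [← Finset.mul_sum, h3] at h2
  generalize hh M B w (fun x => ψ x + ψ x) = H at h2 h4 h5
  have hN : (0 : ℝ) < dat.N := by exact_mod_cast (by decide +kernel : 0 < dat.N)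
  have h6 : ∑ x, ((H x).re - r / 8 * nth vR (ty (M.π x))) ^ 2 = ∑ x, (H x).re ^ 2 - 3 / 4 * dat.N * r ^ 2 := by
    have h6 := sum_ip M vR vR
    rw [show ip dat vR vR = 16 * dat.N by decide +kernel] at h6
    have h7 : ∀ x, ((H x).re - r / 8 * nth vR (ty (M.π x))) ^ 2 = (H x).re ^ 2 - r / 4 * ((H x).re * nth vR (ty (M.π x))) +
        r ^ 2 / 64 * (nth vR (ty (M.π x)) * nth vR (ty (M.π x))) := fun x => by ring
    simp only [h7, Finset.sum_add_distrib, Finset.sum_sub_distrib, ← Finset.mul_sum, h4, h6]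
    push_cast
    ring
  have h7 : r ^ 2 ≤ 16 := by
    have h7 : 0 ≤ ∑ x, ((H x).re - r / 8 * nth vR (ty (M.π x))) ^ 2 := by positivity
    exact_mod_cast le_of_mul_le_mul_left (show dat.N * (r : ℝ) ^ 2 ≤ dat.N * 16 by linarith) hN
  by_contra h8
  have h9 : r ∈ [2, 3, 4, -2, -3, -4] := by
    have h9 : r < 5 := by nlinarith
    have h10 : -5 < r := by nlinarith
    simp only [List.mem_cons, List.not_mem_nil, or_false]
    omega
  obtain ⟨_, _, _, h10, -⟩ := bessel_dfs (h := fun x => (H x).re) (I := 0) (W := fun t => r / 8 * nth vR t)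
    (by norm_num) le_rfl (sum_ip M) mv h5 mv_chk (dfs_chk r h9) (.cons h4 .nil) (fun u hu => by
      simp only [mul_assoc, ← Finset.mul_sum, sum_ip M, hu vR List.mem_cons_self, Int.cast_zero, mul_zero]) (by
      have h10 : (((16 - r ^ 2).toNat : ℕ) : ℝ) = 16 - r ^ 2 := by
        exact_mod_cast Int.toNat_of_nonneg (sub_nonneg.2 h7)
      rw [h6, Nat.cast_mul, h10]
      push_cast
      linarith)
  cases h10

/-- the faithful part of the characteristic function of the elements of order `16` -/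
noncomputable def ff (x : X) : ℤ := by
  classical
  exact if ty (M.π x) = 49 then if x ^ 160161 = x then 32 else -16 else 0

theorem tri (x : X) : ff M x + ff M (M.z * x) + ff M (M.z * (M.z * x)) = 0 ∧
    ff M x * ff M x + ff M (M.z * x) * ff M (M.z * x) + ff M (M.z * (M.z * x)) * ff M (M.z * (M.z * x)) =
      (if ty (M.π x) = 49 then 1536 else 0) ∧
    ∀ (ψ : X → ℂ) (w : ℂ), 1 + w + w ^ 2 = 0 → (∀ x, ψ (M.z * x) = w * ψ x) → ff M x * ψ x +
      ff M (M.z * x) * ψ (M.z * x) + ff M (M.z * (M.z * x)) * ψ (M.z * (M.z * x)) =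
        3 * (ψ (x ^ 160161) * nth vR (ty (M.π x))) := by
  rw [ff, ff, ff, pw_z M (M.z * x), pw_z, pi_z M (M.z * x), pi_z, vR_chk _ (ty_lt _)]
  by_cases h : ty (M.π x) = 49
  swap
  · simp [h]
  have h1 : ∀ y, M.z * y ≠ y := fun y e => by
    have h1 := M.card
    rw [M.ker, mul_eq_right.1 e, Subgroup.zpowers_one_eq_bot, Subgroup.card_bot] at h1
    cases h1
  have h2 : M.z * (M.z * x) ≠ x := fun e => h1 x (by rw [← congrArg (M.z * ·) e, om_three])
  obtain ⟨j, hj⟩ := (reg_lift M x (by rw [h]; decide)).1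
  rw [pow_eq_pow_mod j M.cube] at hj
  rcases (by omega : j % 3 = 0 ∨ j % 3 = 1 ∨ j % 3 = 2) with e | e | e <;> rw [e] at hj
  · rw [pow_zero, one_mul] at hj
    simp only [h, hj, (h1 x).symm, h2.symm, if_true, if_false]
    refine ⟨rfl, rfl, fun ψ w hw hz => ?_⟩
    simp only [hz]
    push_cast
    linear_combination -16 * ψ x * hw
  · rw [pow_one] at hj
    simp only [h, hj, h1 x, (h1 (M.z * x)).symm, if_true, if_false]
    refine ⟨rfl, rfl, fun ψ w hw hz => ?_⟩
    simp only [hz]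
    push_cast
    linear_combination -16 * ψ x * hw
  · rw [pow_two, mul_assoc] at hj
    simp only [h, hj, h1 (M.z * x), h2, if_true, if_false]
    refine ⟨rfl, rfl, fun ψ w hw hz => ?_⟩
    simp only [hz]
    push_cast
    linear_combination -16 * ψ x * hw

theorem sum3 (F : X → ℂ) : 3 * ∑ x, F x = ∑ x, (F x + F (M.z * x) + F (M.z * (M.z * x))) := by
  have h1 : ∑ x, F (M.z * x) = _ := Equiv.sum_comp (Equiv.mulLeft M.z) F
  have h2 : ∑ x, F (M.z * (M.z * x)) = _ := Equiv.sum_comp (Equiv.mulLeft M.z) fun x => F (M.z * x)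
  rw [Finset.sum_add_distrib, Finset.sum_add_distrib, h2, h1]
  ring

theorem inner_ff (hψ : IsIrrCharacter X ψ) (hw : 1 + w + w ^ 2 = 0) (hz : ∀ x, ψ (M.z * x) = w * ψ x) :
    ∃ r : ℤ, classInner (fun x => (ff M x : ℂ)) (fun x => conj (ψ x)) = r ∧
      r * r = if Odd (charDegree ψ) then 1 else 0 := by
  refine (r_md M hψ hw hz).imp fun r => And.imp_left fun h => ?_
  have h1 := sum3 M fun x => ff M x * ψ x
  simp only [(tri M _).2.2 ψ w hw hz, ← Finset.mul_sum, h] at h1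
  simp only [classInner_def, Complex.conj_conj, mul_left_cancel₀ three_ne_zero h1]
  exact inv_mul_cancel_left₀ card_ne_zero_complex _

/-- **the count for the model** -/
theorem card_md {ω : ℂ} (hω : ω ^ 2 + ω + 1 = 0) : Nat.card {χ : X → ℂ // OI X χ ∧ χ M.z = ω * χ 1} = 16 := by
  classical
  have := finite_irr (G := X)
  have := Fintype.ofFinite (IrrCharacter X)
  have hz : M.z ∈ Subgroup.center X := Subgroup.mem_center_iff.2 fun g => (M.comm g).symm
  have hf : IsGeneralizedCharacter X fun x => (ff M x : ℂ) := by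
    refine isGeneralizedCharacter_of_int (fun g c => ?_) fun χ hχ => ?_
    · simp only [ff, conj_pow, mul_left_inj, mul_right_inj, map_mul, map_inv, ← td_ty, td.conj]
      congr
    obtain ⟨c, h1, h2, -⟩ := exists_central hχ hz
    by_cases h3 : c = 1
    · exact ⟨0, (inner_faith (fun x => (tri M x).1) (h3 ▸ h1)).trans Int.cast_zero.symm⟩
    have h4 := congrArg conj (mul_left_cancel₀ (sub_ne_zero.2 h3)
      (show (c - 1) * (1 + c + c ^ 2) = (c - 1) * 0 by linear_combination h2 3 M.cube))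
    simp only [map_add, map_pow, map_one, map_zero] at h4
    obtain ⟨r, h5, -⟩ := inner_ff M (bar ⟨χ, hχ⟩).2 h4 fun x => by simp only [bar, h1, map_mul]
    exact ⟨r, by simpa only [bar, Complex.conj_conj] using h5⟩
  have h1 : ∀ χ : Fw M.z ω, H447.CTab.mu hf χ.1 * H447.CTab.mu hf χ.1 =
      if Odd (charDegree (χ.1 : X → ℂ)) then 1 else 0 := fun χ => by
    obtain ⟨c, h1, -⟩ := exists_central χ.1.2 hz
    have h2 : c = ω := mul_right_cancel₀ (isIrr_apply_one_ne_zero χ.1.2) (by rw [← h1, mul_one, χ.2])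
    obtain ⟨r, h3, h4⟩ := inner_ff M χ.1.2 (by rw [h2]; linear_combination hω) h1
    rw [← mu_bar, Int.cast_injective ((H447.CTab.inner_mu hf (bar χ.1)).symm.trans h3), h4]
  have h2 := H447.CTab.inner_sum_mu hf hf
  rw [sum_split hz M.cube hω _ fun χ hc => by
    rw [Int.cast_injective ((H447.CTab.inner_mu hf χ).symm.trans
      ((inner_faith (fun x => (tri M x).1) hc).trans Int.cast_zero.symm)), zero_mul]] at h2
  have h3 := sum3 M fun x => (ff M x * ff M x : ℤ)
  simp only [← Int.cast_add, (tri M _).2.1] at h3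
  simp only [apply_ite ((↑) : ℤ → ℂ), Int.cast_zero, sum_one M (show 49 < 59 by decide), Int.cast_mul] at h3
  simp only [mu_bar, h1, classInner_def, map_intCast, ← two_mul, ← Finset.mul_sum, Finset.sum_boole,
    mul_left_cancel₀ three_ne_zero (h3.trans (mul_assoc _ _ _)), Cv.card_cov M] at h2
  rw [inv_mul_eq_iff_eq_mul₀ (by exact_mod_cast (by decide +kernel : 3 * dat.N ≠ 0))] at h2
  have h4 : dat.cnt 49 * 1536 = 3 * dat.N * (2 * #{χ : Fw M.z ω | Odd (charDegree (χ.1 : X → ℂ))}) := by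
    exact_mod_cast h2
  rw [show dat.cnt 49 * 1536 = 3 * dat.N * (2 * 16) by decide +kernel] at h4
  rw [Nat.eq_of_mul_eq_mul_left two_pos (Nat.eq_of_mul_eq_mul_left (by decide +kernel) h4), ← Fintype.card_subtype,
    ← Nat.card_eq_fintype_card]
  exact Nat.card_congr ⟨fun χ => ⟨⟨⟨χ.1, χ.2.1.1⟩, χ.2.2⟩, χ.2.1.2⟩, fun χ => ⟨χ.1.1.1, ⟨χ.1.1.2, χ.2⟩, χ.1.2⟩,
    fun _ => rfl, fun _ => rfl⟩

end Cfsg.Agent.MK.S7.X22

namespace Cfsg.Agent.MK.S7

open Cfsg Cfsg.Agent.H922.QS.FiThree Cfsg.Agent.H133.FibPce Cfsg.Agent.Characters.Core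

/-- **the faithful characters of odd degree of `3.Fi22`** -/
theorem kk_cov22 (X : Type) [Group X] [Finite X] (φ : X →* Spor.Fi22) (h1 : Function.Surjective φ)
    (h2 : φ.ker = Subgroup.center X) (h3 : Nat.card (Subgroup.center X) = 3) (h4 : commutator X = ⊤) {l : X → ℂ}
    (hl : Fa (Subgroup.center X) l) (h0 : l 1 = 1)
    (hm : ∀ a ∈ Subgroup.center X, ∀ b ∈ Subgroup.center X, l (a * b) = l a * l b) :
    kk ⊤ (Subgroup.center X) l = 16 := by
  have : Fact (Nat.Prime 3) := ⟨Nat.prime_three⟩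
  have hφ : H51.Mult.PCE φ := ⟨h1, h2.le, h4⟩
  have := Fintype.ofFinite K3
  rcases dichotomy hφ pce3 (by rw [card_ker3]; exact Nat.prime_three) ((h2 ▸ h3).trans card_ker3.symm) with h | ⟨e, he⟩
  · have h5 := pce_fib hφ pce3 h
    have h6 := ODD.Cv.MB.of_cyc S2053.result _ h _ h5.surj h5.cen
    rw [Nat.card_congr (kerFib φ pi3).toEquiv, Nat.card_prod, h2, h3, card_ker3] at h6
    exact absurd h6 (by decide)
  obtain ⟨z, hz0⟩ := e.surjective om3
  have hz : z ∈ Subgroup.center X := by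
    rw [← h2, MonoidHom.mem_ker, ← he, hz0, ← MonoidHom.mem_ker, ker3]
    exact Subgroup.mem_zpowers _
  have hz1 : z ≠ 1 := fun h => by
    have h5 := card_ker3
    rw [ker3, ← hz0, h, map_one, Subgroup.zpowers_one_eq_bot, Subgroup.card_bot] at h5
    cases h5
  have h5 : ∀ n : ℕ, l (z ^ n) = l z ^ n := fun n => by
    induction n with
    | zero => rw [pow_zero, pow_zero, h0]
    | succ n ih => rw [pow_succ, hm _ (pow_mem hz n) _ hz, ih, pow_succ]
  have h6 : z ^ 3 = 1 := congrArg Subtype.val (h3 ▸ pow_card_eq_one' (x := (⟨z, hz⟩ : Subgroup.center X)))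
  have h7 : l z ^ 2 + l z + 1 = 0 := mul_left_cancel₀ (sub_ne_zero.2 (mt (hl z hz) hz1)) (by
    have h7 := h5 3
    rw [h6, h0] at h7
    linear_combination -h7)
  rw [kk_top, ← X22.card_md TAB.F22.Cv.mdK h7]
  refine T.card_congr e fun χ hχ => ⟨fun h => by simpa only [hz0, map_one] using! h z hz, fun h w hw => ?_⟩
  obtain ⟨c, hc, -⟩ := ODD.Red.exists_central hχ.1 (z := om3) (Subgroup.mem_center_iff.2 fun g => (om3_comm g).symm)
  obtain rfl : c = l z := mul_right_cancel₀ (isIrr_apply_one_ne_zero hχ.1) (by rw [← hc, mul_one]; exact h)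
  obtain ⟨n, h8⟩ := mem_powers_of_prime_card h3 (g := (⟨z, hz⟩ : Subgroup.center X)) (g' := ⟨w, hw⟩)
    fun e => hz1 (congrArg Subtype.val e)
  obtain rfl : z ^ n = w := congrArg Subtype.val h8
  simp only [h5, map_pow, hz0, map_one]
  clear h8 hw
  induction n with
  | zero => rw [pow_zero, pow_zero, one_mul]
  | succ n ih => rw [pow_succ', hc, ih, pow_succ', mul_assoc]

end Cfsg.Agent.MK.S7
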