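import Cfsg.Agent.MK.Basic
import Cfsg.Agent.TAB.Cov.Three
import Cfsg.Agent.TAB.Eng.Sep

/-!
# MK, triple covers : the faithful characters of odd degree from integral rows (helper16)

`z` is a central element of order three.  A *faithful row* is an integral function with
`f x + f (z * x) + f (z * z * x) = 0`.

* `virt_half` : the glue lemma for `(χ + conj χ) / 2`;
* `card_cov` : the number of the irreducible characters of odd degree with `χ z = ω * χ 1`.
-/

set_option autoImplicit false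

namespace Cfsg.Agent.MK.S7

open Cfsg Finset Cfsg.Agent.TAB.Eng Cfsg.Agent.TAB.Use Cfsg.Agent.TAB.Glue Cfsg.Agent.TAB.Cov Cfsg.Agent.Characters
open Cfsg.Agent.Characters.Core Cfsg.Agent.Characters.Brauer Cfsg.Agent.H447.CTab
open scoped ComplexConjugate

variable {X : Type} [Group X] [Fintype X] {z : X} {ω : ℂ}

theorem inner_shift (f : X → ℂ) {χ : X → ℂ} {c : ℂ} (hc : ∀ x, χ (z * x) = c * χ x) :
    classInner f χ = conj c * classInner (fun x => f (z * x)) χ := by
  rw [classInner_def, classInner_def, ← Equiv.sum_comp (Equiv.mulLeft z) fun x => f x * conj (χ x), mul_left_comm,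
    Finset.mul_sum _ _ (conj c)]
  congr 1
  refine Finset.sum_congr rfl fun x _ => ?_
  rw [Equiv.coe_mulLeft, hc, map_mul]
  ring

theorem inner_faith {f : X → ℤ} (hf : ∀ x, f x + f (z * x) + f (z * (z * x)) = 0) {χ : X → ℂ}
    (hc : ∀ x, χ (z * x) = 1 * χ x) : classInner (fun x => (f x : ℂ)) χ = 0 := by
  have h1 := inner_shift (fun x => (f x : ℂ)) hc
  have h2 := inner_shift (fun x => (f (z * x) : ℂ)) hc
  have h3 : classInner ((fun x => (f x : ℂ)) + (fun x => (f (z * x) : ℂ)) + fun x => (f (z * (z * x)) : ℂ)) χ = 0 := by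
    rw [← classInner_zero_left χ]
    congr 1
    funext x
    simp only [Pi.add_apply, Pi.zero_apply]
    exact_mod_cast hf x
  rw [map_one, one_mul] at h1 h2
  rw [classInner_add_left, classInner_add_left, ← h2, ← h1] at h3
  linear_combination h3 / 3

theorem inner_inv {f : X → ℂ} (hf : ∀ x, f (z * x) = f x) {χ : X → ℂ} {c : ℂ} (hc : ∀ x, χ (z * x) = c * χ x)
    (h1 : c ≠ 1) : classInner f χ = 0 := by
  have h2 := inner_shift f hc
  simp only [hf] at h2
  by_contra h3
  exact h1 ((starRingEnd ℂ).injective (mul_right_cancel₀ h3 (by rw [map_one, one_mul]; exact h2.symm)))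

theorem conj_ne (hω : ω ^ 2 + ω + 1 = 0) : conj ω ≠ ω := fun h => by
  rw [← Complex.conj_eq_iff_re.1 h] at hω
  have h2 : ω.re ^ 2 + ω.re + 1 = 0 := by exact_mod_cast hω
  nlinarith [sq_nonneg (2 * ω.re + 1)]

theorem cube_cases (hω : ω ^ 2 + ω + 1 = 0) {c : ℂ} (hc : c ^ 3 = 1) : c = 1 ∨ c = ω ∨ c = conj ω := by
  have h1 := congrArg conj hω
  simp only [map_add, map_pow, map_one, map_zero] at h1
  have h2 : conj ω = -1 - ω := mul_left_cancel₀ (sub_ne_zero.2 (conj_ne hω)) (by linear_combination h1 - hω)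
  have h3 : (c - 1) * ((c - ω) * (c - conj ω)) = 0 := by
    rw [h2]
    linear_combination hc + (1 - c) * hω
  simpa only [mul_eq_zero, sub_eq_zero] using h3

/-- the complex conjugate -/
noncomputable def bar (χ : IrrCharacter X) : IrrCharacter X :=
  ⟨fun x => conj ((χ : X → ℂ) x), GaloisIrr.isIrr_map starRingAut χ.2⟩

theorem bar_bar (χ : IrrCharacter X) : bar (bar χ) = χ := Subtype.ext (funext fun _ => Complex.conj_conj _)

theorem mu_bar {f : X → ℤ} (h : IsGeneralizedCharacter X fun x => (f x : ℂ)) (χ : IrrCharacter X) :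
    H447.CTab.mu h (bar χ) = H447.CTab.mu h χ := by
  have h1 := congrArg conj (inner_mu h χ)
  have h2 := inner_mu h (bar χ)
  rw [map_intCast] at h1
  simp only [classInner_def, map_mul, map_sum, map_inv₀, map_natCast, map_intCast] at h1 h2
  exact_mod_cast h2.symm.trans h1

/-- the characters over `ω` -/
abbrev Fw (z : X) (ω : ℂ) : Type := {χ : IrrCharacter X // (χ : X → ℂ) z = ω * (χ : X → ℂ) 1}

theorem sum_split (hz : z ∈ Subgroup.center X) (h3 : z ^ 3 = 1) (hω : ω ^ 2 + ω + 1 = 0) [Fintype (IrrCharacter X)]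
    [Fintype (Fw z ω)] {M : Type} [AddCommMonoid M] (h : IrrCharacter X → M)
    (h0 : ∀ χ : IrrCharacter X, (∀ x, (χ : X → ℂ) (z * x) = 1 * (χ : X → ℂ) x) → h χ = 0) :
    ∑ χ, h χ = ∑ χ : Fw z ω, (h χ + h (bar χ)) := by
  classical
  let P : IrrCharacter X → Prop := fun χ => (χ : X → ℂ) z = ω * (χ : X → ℂ) 1
  have h1 : ∀ χ, h χ = (if P χ then h χ else 0) + if P (bar χ) then h χ else 0 := fun χ => by
    obtain ⟨c, hc, hc3, -⟩ := ODD.Red.exists_central χ.2 hz
    obtain ⟨d, hd, hd1, -⟩ := degree_dvd χ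
    have hd0 : (d : ℂ) ≠ 0 := by exact_mod_cast hd.ne'
    have h2 : (χ : X → ℂ) z = c * d := by rw [← hd1, ← hc, mul_one]
    have h4 : P χ ↔ c = ω := by simp only [P, h2, hd1, mul_left_inj' hd0]
    have h5 : P (bar χ) ↔ conj c = ω := by simp only [P, bar, h2, hd1, map_mul, map_natCast, mul_left_inj' hd0]
    rcases cube_cases hω (hc3 3 h3) with rfl | rfl | rfl
    · simp only [h0 χ hc, ite_self, add_zero]
    · rw [if_pos (h4.2 rfl), if_neg (mt h5.1 (conj_ne hω)), add_zero]
    · rw [if_neg (mt h4.1 (conj_ne hω)), if_pos (h5.2 (Complex.conj_conj _)), zero_add]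
  rw [Finset.sum_congr rfl fun χ _ => h1 χ, Finset.sum_add_distrib,
    ← Equiv.sum_comp (Function.Involutive.toPerm bar bar_bar) fun χ => if P (bar χ) then h χ else 0,
    ← Finset.sum_add_distrib, ← Finset.sum_subtype (Finset.univ.filter P) (by simp [P]) fun χ => h χ + h (bar χ),
    Finset.sum_filter]
  refine Finset.sum_congr rfl fun χ _ => ?_
  change _ + (if P (bar (bar χ)) then h (bar χ) else 0) = if P χ then _ else _
  rw [bar_bar]
  split_ifs
  · rfl
  · exact add_zero _

theorem sum_sig (k : ℕ) (st : ℕ → ℕ) (b e : ℕ → ℤ) (y : ℕ) :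
    ∑ j ∈ range k, b j * sig k st e y j = sdeg k st b y * e y := by
  unfold sig sdeg
  split_ifs with h3
  · simp only [mul_ite, mul_zero, Finset.sum_ite_eq', Finset.mem_range, h3, if_true]
  · simp only [mul_ite, mul_zero, Finset.sum_filter, Finset.sum_mul, ite_mul, zero_mul]

theorem card_fib {I : Type} [Fintype I] (ix : I → ℕ) {n : ℕ} (h : ∀ x, ix x < n) (p : ℕ → Prop) [DecidablePred p] :
    Nat.card {x // p (ix x)} = ∑ y ∈ range n, if p y then Nat.card {x // ix x = y} else 0 := by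
  simp only [Nat.card_eq_fintype_card, Fintype.card_subtype, Finset.card_filter]
  rw [Finset.sum_congr rfl fun y _ => (by split_ifs <;> simp :
    (if p y then ∑ x, (if ix x = y then 1 else 0) else 0) = ∑ x, if ix x = y then if p y then 1 else 0 else 0),
    Finset.sum_comm]
  exact Finset.sum_congr rfl fun x _ => by rw [Finset.sum_ite_eq, if_pos (Finset.mem_range.2 (h x))]

/-- **the number of the faithful characters of odd degree** -/
theorem card_cov (hz : z ∈ Subgroup.center X) (h3 : z ^ 3 = 1) (hω : ω ^ 2 + ω + 1 = 0) {k ns : ℕ} {m st : ℕ → ℕ}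
    (hs : Shape k ns m st) (hm : ∀ j < k, m j ≤ 2) (f : ℕ → X → ℤ)
    (hv : ∀ j < k, IsGeneralizedCharacter X fun x => (f j x : ℂ))
    (h0 : ∀ j < k, ∀ x, f j x + f j (z * x) + f j (z * (z * x)) = 0)
    (hG : ∀ i < k, ∀ j < k, classInner (fun x => (f i x : ℂ)) (fun x => (f j x : ℂ)) = ((2 * gam m st i j : ℤ) : ℂ))
    (hp : ∀ j < k, ∀ i < j, st j = 0 → m j = 2 → m i = 2 → st i = 0 → (∃ x, (f j x + f i x) % 2 ≠ 0) ∨
      (¬ f j 1 + 1 * f i 1 ∣ 4 * Nat.card X ∧ ¬ f j 1 + -1 * f i 1 ∣ 4 * Nat.card X)) (b : ℕ → ℤ)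
    {g : X → ℤ} (hg : ∀ x, g (z * x) = g x) (hb1 : ∑ j ∈ range k, b j * f j 1 = Nat.card X - g 1)
    (hb : ∀ x, x ≠ 1 → ∑ j ∈ range k, b j * f j x = - g x) :
    Nat.card {χ : X → ℂ // OI X χ ∧ χ z = ω * χ 1} =
      ∑ y ∈ range (k + ns), if sdeg k st b y % 2 = 1 then mlt k m st y else 0 := by
  classical
  have := finite_irr (G := X)
  have := Fintype.ofFinite (IrrCharacter X)
  let u : ℕ → IrrCharacter X → ℤ := fun j => if h : j < k then H447.CTab.mu (hv j h) else 0
  have hu : ∀ j (h : j < k), u j = H447.CTab.mu (hv j h) := fun j h => dif_pos h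
  have hu0 : ∀ j < k, ∀ χ : IrrCharacter X, (∀ x, (χ : X → ℂ) (z * x) = 1 * (χ : X → ℂ) x) → u j χ = 0 :=
    fun j hj χ hc => by
      rw [hu j hj]
      exact_mod_cast (inner_mu (hv j hj) χ).symm.trans (inner_faith (h0 j hj) hc)
  have hub : ∀ j < k, ∀ χ, u j (bar χ) = u j χ := fun j hj χ => by rw [hu j hj, mu_bar]
  let a : ℕ → Fw z ω → ℤ := fun j χ => u j χ
  have hGa : ∀ i < k, ∀ j < k, a i ⬝ᵥ a j = gam m st i j := fun i hi j hj => by
    have h1 := (hG i hi j hj).symm.trans (inner_sum_mu (hv i hi) (hv j hj))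
    rw [← hu i hi, ← hu j hj, Int.cast_inj, sum_split hz h3 hω _ fun χ hc => by rw [hu0 i hi χ hc, zero_mul]] at h1
    simp only [hub i hi, hub j hj, ← two_mul, ← Finset.mul_sum] at h1
    exact (mul_left_cancel₀ two_ne_zero h1).symm
  have hf : ∀ j < k, ∀ x, (f j x : ℂ) = ∑ χ : Fw z ω, a j χ * ((χ.1 : X → ℂ) x + (bar χ.1 : X → ℂ) x) :=
    fun j hj x => by
      rw [show (f j x : ℂ) = _ from apply_mu (hv j hj) x, ← hu j hj,
        sum_split hz h3 hω _ fun χ hc => by rw [hu0 j hj χ hc, Int.cast_zero, zero_mul]]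
      simp only [hub j hj, mul_add, a]
  have hdis : ∀ χ, ∀ j < k, ∀ i < j, st j = 0 → st i = 0 → a j χ ≠ 0 → a i χ = 0 := fun χ j hj i hi sj si h1 => by
    by_contra h2
    have hi' := hi.trans hj
    obtain ⟨h4, h5, s, e, h6, he, h7⟩ := two_of_perp (hm j hj) (hm i hi') ((hGa j hj j hj).trans (if_pos rfl))
      ((hGa i hi' i hi').trans (if_pos rfl)) ((hGa j hj i hi').trans
        ((if_neg hi.ne').trans (if_neg fun h => h.2 sj))) h1 h2
    have h8 : ∀ x, e * ((χ.1 : X → ℂ) x + (bar χ.1 : X → ℂ) x) + e * ((χ.1 : X → ℂ) x + (bar χ.1 : X → ℂ) x) =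
        ((f j x + s * f i x : ℤ) : ℂ) := fun x => by
      rw [Int.cast_add, Int.cast_mul, hf j hj, hf i hi', Finset.mul_sum, ← Finset.sum_add_distrib,
        Finset.sum_congr rfl fun y _ => by rw [← mul_assoc, ← add_mul, ← Int.cast_mul, ← Int.cast_add, h7 y]]
      simp only [apply_ite ((↑) : ℤ → ℂ), Int.cast_zero, ite_mul, zero_mul, Finset.sum_ite_eq', Finset.mem_univ,
        if_true, Int.cast_mul, Int.cast_ofNat]
      ring
    rcases hp j hj i hi sj h4 h5 si with ⟨x, hx⟩ | hx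
    · have h9 := even_of_integral ((isIntegral_algebraMap (R := ℤ) (A := ℂ) (x := e)).mul
        ((GaloisBasic.isIntegral_apply (isIrr_isCharacter χ.1.2) x).add
          (GaloisBasic.isIntegral_apply (isIrr_isCharacter (bar χ.1).2) x))) (h8 x)
      rcases h6 with rfl | rfl <;> omega
    · obtain ⟨d, -, h9, c, h10⟩ := degree_dvd χ.1
      have h11 := h8 1
      simp only [bar, h9, map_natCast] at h11
      have h12 : e * (d + d) + e * (d + d) = f j 1 + s * f i 1 := by exact_mod_cast h11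
      have h13 : f j 1 + s * f i 1 ∣ 4 * Nat.card X := ⟨e * c, by
        rw [← h12, h10]
        rcases he with rfl | rfl <;> push_cast <;> ring⟩
      rcases h6 with rfl | rfl
      · exact hx.1 h13
      · exact hx.2 h13
  have hdeg : ∀ χ : Fw z ω, ∃ d : ℕ, 0 < d ∧ (χ.1 : X → ℂ) 1 = d ∧ ∑ j ∈ range k, b j * a j χ = d := fun χ => by
    obtain ⟨d, h1, h2, -⟩ := degree_dvd χ.1
    obtain ⟨c, hc, -⟩ := ODD.Red.exists_central χ.1.2 hz
    have h4 : c = ω := mul_right_cancel₀ (isIrr_apply_one_ne_zero χ.1.2) (by rw [← hc, mul_one, χ.2])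
    have h5 := inner_inv (f := fun x => (g x : ℂ)) (fun x => by rw [hg]) hc fun h => conj_ne hω (by
      rw [← h4, h, map_one])
    have h6 : ∀ j ∈ range k, ((b j * a j χ : ℤ) : ℂ) = classInner ((b j : ℂ) • fun x => (f j x : ℂ)) (χ.1 : X → ℂ) :=
      fun j hj => by
        rw [classInner_smul_left, Int.cast_mul, inner_mu (hv j (Finset.mem_range.1 hj)),
          ← hu j (Finset.mem_range.1 hj)]
    refine ⟨d, h1, h2, Int.cast_injective (α := ℂ) ?_⟩
    rw [Int.cast_sum, Finset.sum_congr rfl h6, ← classInner_sum_left, ← add_zero (classInner _ _), ← h5,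
      ← classInner_add_left, classInner_def,
      Finset.sum_eq_single 1 (fun x _ hx => ?_) fun h => absurd (Finset.mem_univ _) h]
    · have h7 := congrArg (Int.cast : ℤ → ℂ) hb1
      push_cast at h7
      simp only [Pi.add_apply, Finset.sum_apply, Pi.smul_apply, smul_eq_mul]
      rw [h7, h2, sub_add_cancel, inv_mul_cancel_left₀ card_ne_zero_complex, Complex.conj_natCast, Int.cast_natCast]
    · have h7 := congrArg (Int.cast : ℤ → ℂ) (hb x hx)
      push_cast at h7
      simp only [Pi.add_apply, Finset.sum_apply, Pi.smul_apply, smul_eq_mul]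
      rw [h7, neg_add_cancel, zero_mul]
  have hcl : ∀ χ : Fw z ω, ∃ y < k + ns, sdeg k st b y ≠ 0 ∧
      ∀ j < k, a j χ = sig k st (fun y => (sdeg k st b y).sign) y j := fun χ => by
    obtain ⟨d, h1, -, h4⟩ := hdeg χ
    refine classify hs a b hGa χ (by rw [h4]; exact_mod_cast h1) fun h6 => ?_
    by_cases h5 : ∃ j < k, a j χ ≠ 0
    · obtain ⟨j, hj, h5⟩ := h5
      rw [Finset.sum_eq_single j (fun i hi hij => ?_) fun h => absurd (mem_range.2 hj) h]
      · exact abs_of_norm (hm j hj) ((hGa j hj j hj).trans (if_pos rfl)) χ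
      · rw [Int.natAbs_eq_zero]
        by_contra h7
        have h8 : st j = 0 := by_contra fun h => h5 (h6 j hj h)
        have h9 : st i = 0 := by_contra fun h => h7 (h6 i (mem_range.1 hi) h)
        rcases lt_or_gt_of_ne hij with h10 | h10
        · exact h7 (hdis χ j hj i h10 h8 h9 h5)
        · exact h5 (hdis χ i (mem_range.1 hi) j h10 h9 h8 h7)
    · push Not at h5
      rw [Finset.sum_eq_zero fun j hj => by rw [h5 j (mem_range.1 hj), Int.natAbs_zero]]
      exact Nat.zero_le _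
  choose ix hix1 hix2 hix3 using hcl
  have hsg : ∀ χ, (sdeg k st b (ix χ)).sign = 1 ∨ (sdeg k st b (ix χ)).sign = -1 := fun χ =>
    (lt_or_gt_of_ne (hix2 χ)).symm.imp Int.sign_eq_one_of_pos Int.sign_eq_neg_one_of_neg
  have hcnt := count_sig hs a _ hGa ix (fun χ => by rcases hsg χ with h | h <;> simp only [h] <;> rfl) hix3
  have hodd : ∀ χ : Fw z ω, Odd (charDegree (χ.1 : X → ℂ)) ↔ sdeg k st b (ix χ) % 2 = 1 := fun χ => by
    obtain ⟨d, -, h2, h4⟩ := hdeg χ
    rw [Finset.sum_congr rfl fun j hj => by rw [hix3 χ j (mem_range.1 hj)], sum_sig] at h4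
    rw [show charDegree (χ.1 : X → ℂ) = d by simp [charDegree, h2], Nat.odd_iff]
    rcases hsg χ with h | h <;> rw [h] at h4 <;> omega
  rw [← Finset.sum_congr rfl fun y hy => by rw [← hcnt y (mem_range.1 hy)],
    ← card_fib ix hix1 fun y => sdeg k st b y % 2 = 1]
  exact Nat.card_congr ⟨fun χ => ⟨⟨⟨χ.1, χ.2.1.1⟩, χ.2.2⟩, (hodd _).1 χ.2.1.2⟩,
    fun χ => ⟨χ.1.1.1, ⟨χ.1.1.2, (hodd _).2 χ.2⟩, χ.1.2⟩, fun _ => rfl, fun _ => rfl⟩

/-! ### the glue lemma -/

variable {D : Dat} {T : TD X D}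

theorem inner_bar (f : ℕ → ℤ) {χ : X → ℂ} (h : IsCharacter X χ) :
    classInner (fun x => (f (T.ty x) : ℂ)) (fun x => conj (χ x)) = classInner (fun x => (f (T.ty x) : ℂ)) χ := by
  rw [classInner_def, classInner_def, ← Equiv.sum_comp (Equiv.inv X)]
  congr 1
  refine Finset.sum_congr rfl fun x _ => ?_
  have h1 := orderOf_pos x
  have h2 : x⁻¹ = x ^ (orderOf x - 1) := by
    rw [inv_eq_iff_mul_eq_one, ← pow_succ', Nat.sub_add_cancel h1, pow_orderOf_eq_one]
  rw [Equiv.inv_apply, isCharacter_apply_inv h, Complex.conj_conj, h2, T.pow_coprime]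
  rw [Nat.coprime_self_sub_left h1]
  exact Nat.coprime_one_left _

/-- **the first `k` rows are generalized characters** -/
theorem virt_half (hz : z ∈ Subgroup.center X) (h3 : z ^ 3 = 1) (hm : T.Mass) {C : List (List ℤ)} {nm : List ℕ}
    (hO : Orth D ((List.range nm.length).map (rwL C)) nm) {lv : List Lv} {L k : ℕ}
    (hc : okQ nm.length nm lv L 2 = true) (hx : okJ k lv = true) (hk : k ≤ nm.length)
    (hv : ∀ x ∈ rels lv [], Virt T (cmb C x))
    (h0 : ∀ j < k, ∀ x, rw C j (T.ty x) + rw C j (T.ty (z * x)) + rw C j (T.ty (z * (z * x))) = 0) :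
    ∀ j < k, Virt T (rw C j) := by
  intro j hj
  refine isGeneralizedCharacter_of_int (fun g c => by rw [T.conj]) fun χ hχ => ?_
  obtain ⟨c, hc1, hc3, -⟩ := ODD.Red.exists_central hχ hz
  by_cases h1 : c = 1
  · exact ⟨0, (inner_faith (h0 j hj) (h1 ▸ hc1)).trans Int.cast_zero.symm⟩
  have h2 : χ ≠ fun x => conj (χ x) := fun h => by
    obtain ⟨d, hd, hd1, -⟩ := degree_dvd ⟨χ, hχ⟩
    have h4 : χ z = c * d := by rw [← hd1, ← mul_one z, hc1]
    have h5 := congrFun h z
    rw [h4, map_mul, map_natCast] at h5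
    exact conj_ne (ω := c) (mul_left_cancel₀ (sub_ne_zero.2 h1) (by linear_combination hc3 3 h3))
      (mul_right_cancel₀ (by exact_mod_cast hd.ne') h5.symm)
  have i2 : IsIrrCharacter X fun x => conj (χ x) := (bar ⟨χ, hχ⟩).2
  have hq : ∀ f : ℕ → ℤ, classInner (fun x => (f (T.ty x) : ℂ)) (((2⁻¹ : ℚ) : ℂ) • (χ + fun x => conj (χ x))) =
      classInner (fun x => (f (T.ty x) : ℂ)) χ := fun f => by
    rw [classInner_smul_right, classInner_add_right, inner_bar f (isIrr_isCharacter hχ), map_ratCast]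
    push_cast
    ring
  obtain ⟨l, hl, h4⟩ := List.any_eq_true.1 (List.all_eq_true.1 hx j (List.mem_range.2 hj))
  rw [Bool.and_eq_true, beq_iff_eq] at h4
  have h5 := glueF hm hO (by rwa [List.length_map, List.length_range])
    (fun x hx => by rw [comb_rwL C (okQ_lt hc x hx)]; exact hv x hx)
    (φ := ((2⁻¹ : ℚ) : ℂ) • (χ + fun x => conj (χ x))) (by
      simp only [classInner_smul_left, classInner_smul_right, classInner_add_left, classInner_add_right,
        classInner_irr_self hχ, classInner_irr_self i2, classInner_irr_ne hχ i2 h2, classInner_irr_ne i2 hχ h2.symm,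
        map_ratCast]
      push_cast
      ring) (fun f hf => ⟨_, (hq f).trans (inner_mu hf ⟨χ, hχ⟩)⟩) l hl h4.1
  unfold fn at h5
  rwa [h4.2, ntd_rwL C (hj.trans_le hk), hq] at h5

/-- the check that the combinations `p.1` of the rows of `C` are the combinations `p.2` of the functions `g` -/
noncomputable def okL (n : ℕ) (C : List (List ℤ)) (g : ℕ → List ℤ) (R : List (List (ℤ × ℕ) × List (ℤ × ℕ))) : Bool :=
  allL (fun t => frcLZ (g t) fun v => frcLZ (ntd C [] t) fun c =>
    allL (fun p => decide (dot c p.1 = dot v p.2)) R) (List.range n)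

omit [Fintype X] in
theorem virt_okL {C : List (List ℤ)} {g : ℕ → List ℤ} {R : List (List (ℤ × ℕ) × List (ℤ × ℕ))}
    (h : okL D.n C g R = true) {k : ℕ} (hg : ∀ i < k, Virt T fun t => nth (g t) i)
    (hk : ∀ p ∈ R, ∀ q ∈ p.2, q.2 < k) : ∀ p ∈ R, Virt T (cmb C p.1) := by
  intro p hp
  have h1 : ∀ c : List (ℤ × ℕ), (∀ q ∈ c, q.2 < k) → Virt T fun t => dot (g t) c := fun c hc => by
    induction c with
    | nil => exact Virt.const 0
    | cons q c ih =>
      simp only [dot_cons]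
      exact ((hg _ (hc q List.mem_cons_self)).smul _).add (ih fun r hr => hc r (List.mem_cons_of_mem _ hr))
  refine (h1 _ (hk p hp)).congr fun t ht => ?_
  have h2 := allL_spec h t (List.mem_range.2 ht)
  rw [frcLZ_eq, frcLZ_eq] at h2
  exact (of_decide_eq_true (allL_spec h2 p hp)).symm

end Cfsg.Agent.MK.S7
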