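import Cfsg.Agent.MK.S7.TabY
import Cfsg.Agent.MK.T.A
import Cfsg.Agent.TAB.F24.Cov
import Cfsg.Agent.TAB.F24C.DZ

/-!
# MK, `3.Fi₂₄'` : the faithful characters of odd degree (helper16)
-/

set_option autoImplicit false
set_option maxRecDepth 100000

namespace Cfsg.Agent.MK.S7

open Cfsg Finset Cfsg.Agent.TAB.Eng Cfsg.Agent.TAB.Use Cfsg.Agent.TAB.Glue Cfsg.Agent.TAB.Cov Cfsg.Agent.TAB.F24
open Cfsg.Agent.Characters Cfsg.Agent.Characters.Core Cfsg.Spor

theorem sum_filter_map (l : List ℕ) (p : ℕ → Bool) (f : ℕ → ℤ) :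
    ((l.filter p).map f).sum = (l.map fun t => if p t = true then f t else 0).sum := by
  induction l with
  | nil => rfl
  | cons a l ih => cases h : p a <;> simp [h, ih]

variable {X : Type} [Group X] [Finite X] (S : Sc X)

omit [Finite X] in
theorem z_cube : S.z ^ 3 = 1 := S.ord ▸ pow_orderOf_eq_one S.z

omit [Finite X] in
theorem pi_z : S.pi S.z = 1 := by
  rw [← MonoidHom.mem_ker, S.ker]
  exact Subgroup.mem_zpowers _

/-- **the sums over the fibres** -/
theorem fib_zero (f : ℕ → ℤ) (h : ∀ s < 94, ∑ t ∈ range 161, (if proj.getD t 0 = s then (DX.cnt t : ℤ) * f t else 0) = 0)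
    (x : X) : f (S.T.ty x) + f (S.T.ty (S.z * x)) + f (S.T.ty (S.z * (S.z * x))) = 0 := by
  classical
  have := Fintype.ofFinite X
  have := S.mn.finite
  have hc : ∀ y, S.z * y = y * S.z := fun y => (Subgroup.mem_center_iff.1 S.cen y).symm
  have h3 : ∀ y, S.z * (S.z * (S.z * y)) = y := fun y => by
    rw [← mul_assoc, ← mul_assoc, ← pow_three', z_cube, one_mul]
  obtain ⟨F, hF⟩ : ∃ F : X → ℤ, ∀ y, F y = f (S.T.ty y) + f (S.T.ty (S.z * y)) + f (S.T.ty (S.z * (S.z * y))) :=
    ⟨_, fun _ => rfl⟩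
  have F1 : ∀ y, F (S.z * y) = F y := fun y => by
    rw [hF, hF, h3]
    ring
  have F2 : ∀ y y', S.pi y = S.pi y' → F y = F y' := fun y y' e => by
    have h1 : y * y'⁻¹ ∈ S.pi.ker := by rw [MonoidHom.mem_ker, map_mul, map_inv, e, mul_inv_cancel]
    rw [S.ker, ← mem_powers_iff_mem_zpowers] at h1
    obtain ⟨n, h1⟩ := h1
    obtain rfl : y = S.z ^ n * y' := mul_inv_eq_iff_eq_mul.1 (show S.z ^ n = _ from h1).symm
    clear h1 e
    induction n with
    | zero => rw [pow_zero, one_mul]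
    | succ n ih => rw [pow_succ', mul_assoc, F1, ih]
  have F3 : ∀ y c, F (c * y * c⁻¹) = F y := fun y c => by
    have h1 : ∀ y, S.z * (c * y * c⁻¹) = c * (S.z * y) * c⁻¹ := fun y => by
      rw [← mul_assoc, ← mul_assoc, hc c, mul_assoc c]
    rw [hF, hF, h1, h1, S.T.conj, S.T.conj, S.T.conj]
  have F4 : ∀ y, F (S.al y) = F y := fun y => by
    have h1 : ∀ y, S.z * S.al y = S.al (S.z * (S.z * y)) := fun y => by
      rw [map_mul, map_mul, S.al_z, ← h3 (S.z⁻¹ * _), mul_inv_cancel_left, mul_inv_cancel_left]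
    rw [hF, hF, h1, h1, h3, S.rat.1, S.rat.1, S.rat.1]
    ring
  have F5 : ∀ y m, Nat.Coprime m (3 * orderOf (S.pi y)) → F (y ^ m) = F y := fun y m hm => by
    have h1 : ∀ y', S.pi y' = S.pi y → S.T.ty (y' ^ m) = S.T.ty y' := fun y' e =>
      S.T.pow_coprime (hm.coprime_dvd_right (by
        have h2 : y' ^ orderOf (S.pi y) ∈ S.pi.ker := by rw [MonoidHom.mem_ker, map_pow, e, pow_orderOf_eq_one]
        rw [S.ker, ← mem_powers_iff_mem_zpowers] at h2
        obtain ⟨n, h2⟩ := h2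
        rw [orderOf_dvd_iff_pow_eq_one, mul_comm, pow_mul, ← h2, ← pow_mul, mul_comm, pow_mul, z_cube, one_pow]))
    have h2 := h1 (S.z * y) (by rw [map_mul, pi_z, one_mul])
    have h4 := h1 (S.z * (S.z * y)) (by rw [map_mul, map_mul, pi_z, one_mul, one_mul])
    have h5 : ∀ y, (S.z * y) ^ m = S.z ^ (m % 3) * y ^ m := fun y => by
      rw [(show Commute S.z y from hc y).mul_pow, ← S.ord, pow_mod_orderOf]
    have h7 : ¬ 3 ∣ m := Nat.prime_three.coprime_iff_not_dvd.1 (Nat.Coprime.coprime_mul_right_right hm).symm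
    rw [h5, h5] at h4
    rw [h5] at h2
    rw [hF, hF, h1 y rfl]
    rcases (by omega : m % 3 = 1 ∨ m % 3 = 2) with h8 | h8 <;> rw [h8] at h2 h4
    · rw [pow_one] at h2 h4
      rw [h2, h4]
    · simp only [pow_two, mul_assoc, h3] at h2 h4
      rw [h2, h4]
      ring
  have F6 : ∀ y, S.T'.ty (S.pi x) = S.T'.ty (S.pi y) → F y = F x := fun y e => by
    obtain ⟨k, hk⟩ := S.rat'.2 _ _ e
    have ho : orderOf (S.pi x) = orderOf (S.pi y) := by rw [S.T'.ord, S.T'.ord, e]
    have h1 : Nat.Coprime k (orderOf (S.pi x)) := hk.elim (TAB.ON.coprime_of_conj ho) fun hk => by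
      rw [← S.al'.orderOf_eq]
      exact TAB.ON.coprime_of_conj ((S.al'.orderOf_eq _).trans ho) (by rwa [← map_pow])
    obtain ⟨m, h2, h4⟩ := TAB.F24C.exists_cop h1
    rw [← pow_eq_pow_iff_modEq.2 h4, ← map_pow, ← S.pi_al] at hk
    rw [← F5 x m h2]
    rcases hk with hk | hk <;> obtain ⟨c, hk⟩ := isConj_iff.1 hk <;> obtain ⟨c, rfl⟩ := S.surj c <;>
      rw [← map_inv, ← map_mul, ← map_mul] at hk
    · rw [← F2 _ _ hk, F3]
    · rw [← F2 _ _ hk, F3, F4]
  obtain ⟨u, hu⟩ : ∃ u : X → ℤ, ∀ y, u y = if S.T'.ty (S.pi x) = S.T'.ty (S.pi y) then f (S.T.ty y) else 0 :=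
    ⟨_, fun _ => rfl⟩
  have h1 : ∑ y, u y = 0 := by
    rw [← h _ (S.T'.lt (S.pi x))]
    simp only [hu, S.prj]
    rw [sum_mass S.mass fun t => if proj.getD (S.T.ty x) 0 = proj.getD t 0 then f t else 0]
    exact Finset.sum_congr rfl fun t _ => by simp only [smul_ite, smul_zero, nsmul_eq_mul, eq_comm]
  have h2 : ∑ y, u (S.z * y) = 0 := (Equiv.sum_comp (Equiv.mulLeft S.z) u).trans h1
  have h4 : ∑ y, u (S.z * (S.z * y)) = 0 := (Equiv.sum_comp (Equiv.mulLeft S.z) fun y => u (S.z * y)).trans h2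
  have h5 : ∑ y, (if S.T'.ty (S.pi x) = S.T'.ty (S.pi y) then 1 else 0) * F x = 0 := by
    refine Eq.trans ?_ (show ∑ y, u y + ∑ y, u (S.z * y) + ∑ y, u (S.z * (S.z * y)) = 0 by
      rw [h1, h2, h4, add_zero, add_zero])
    rw [← Finset.sum_add_distrib, ← Finset.sum_add_distrib]
    refine Finset.sum_congr rfl fun y _ => ?_
    simp only [hu, map_mul, pi_z, one_mul]
    split_ifs with e
    · rw [one_mul, ← F6 y e, hF]
    · rw [zero_mul, add_zero, add_zero]
  rw [← Finset.sum_mul, Finset.sum_boole, mul_eq_zero] at h5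
  rw [← hF]
  refine h5.resolve_left ?_
  exact Nat.cast_ne_zero.2 (Finset.card_ne_zero.2 ⟨x, Finset.mem_filter.2 ⟨Finset.mem_univ _, rfl⟩⟩)

theorem fibX {j : ℕ} (hj : j < 66) (x : X) :
    rw colsX j (S.T.ty x) + rw colsX j (S.T.ty (S.z * x)) + rw colsX j (S.T.ty (S.z * (S.z * x))) = 0 :=
  fib_zero S (rw colsX j) (fun s hs => by
    have h1 := allL_spec ok_fib s (List.mem_range.2 hs)
    rw [frcL_eq] at h1
    have h2 := of_decide_eq_true (allL_spec h1 j (List.mem_range.2 hj))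
    rw [sum_filter_map, TAB.ON.sum_list] at h2
    simpa only [beq_iff_eq] using h2) x

theorem xy {j : ℕ} (hj : j < 66) {t : ℕ} (ht : t < 161) :
    nth sgY j * rw colsX j t = rw colsY j t + (if j < 49 then 0 else 1) * rw colsY 66 t := by
  have h1 := allL_spec ok_XY t (List.mem_range.2 ht)
  rw [frcLZ_eq, frcLZ_eq] at h1
  exact of_decide_eq_true (allL_spec h1 j (List.mem_range.2 hj))

theorem xy' {j : ℕ} (hj : j < 49) {t : ℕ} (ht : t < 161) : rw colsY j t = rw colsX j t := by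
  have h1 := xy (hj.trans (by decide)) ht
  rw [if_pos hj, (by decide +kernel : ∀ j < 49, nth sgY j = 1) j hj] at h1
  omega

theorem virtX0 : ∀ x ∈ rels lvX [] ++ exX, Virt S.T (cmb colsX x) :=
  virt_two S.mass.1 okLenX okPLX S.mn.seeds ok_gX ok_bX allX lt_exX

theorem virtG : ∀ i < 68, Virt S.T fun t => nth (gY t) i
  | 0, _ => S.mn.seeds sX0 (by simp [seedsX, sdX])
  | 1, _ => by
    have := S.mn.finite
    refine (virt_infl S.pi S.prj (by decide +kernel) (Virt.cmb fun p hp =>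
      virtT S.mass' S.rat' S.mn.al_al' S.mn.vT _ (lt_cfY.2.2.2 p hp))).congr fun t ht => ?_
    have h1 : t < proj.length := ht.trans_eq (by decide +kernel)
    rw [nth_eq, List.getD_eq_getElem _ _ (by rwa [List.length_map]), List.getElem_map, ← List.getD_eq_getElem _ 0 h1]
    rfl
  | i + 2, hi => by
    have h1 : i < (rels lvX [] ++ exX).length := by rw [lt_cfY.2.2.1]; omega
    refine (virtX0 S _ (List.getElem_mem h1)).congr fun t _ => ?_
    refine Eq.trans ?_ (show nth (cmbs colsX (rels lvX [] ++ exX) t) i = _ from rfl)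
    rw [nth_eq, cmbs, List.getD_eq_getElem _ _ (by rwa [List.length_map]), List.getElem_map]
    rfl

theorem virt49 : ∀ j < 49, Virt S.T (rw colsX j) := fun j hj => by
  have := Fintype.ofFinite X
  refine (virt_half S.cen (z_cube S) S.mass (orth_of_chkG okLenX gramY) ok_lvY okJ_lvY (by decide) (fun x hx => ?_)
    (fun j hj x => ?_) j hj).congr fun t ht => xy' hj ht
  · rw [← List.map_fst_zip lt_cfY.2.1] at hx
    obtain ⟨p, hp, rfl⟩ := List.mem_map.1 hx
    exact virt_okL ok_cfY (virtG S) lt_cfY.1 p hp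
  · rw [xy' hj (S.T.lt _), xy' hj (S.T.lt _), xy' hj (S.T.lt _)]
    exact fibX S (hj.trans (by decide)) x

theorem virt66 : ∀ j < 66, Virt S.T (rw colsX j) := fun j hj => by
  have h4 := List.all_eq_true.1 ok_exX j (List.mem_range.2 hj)
  simp only [Bool.or_eq_true, decide_eq_true_eq, List.any_eq_true, Bool.and_eq_true, beq_iff_eq,
    List.all_eq_true] at h4
  rcases h4 with h4 | ⟨x, h4, h5, h6⟩
  · exact virt49 S j h4
  · cases x with
    | nil => cases h5
    | cons p c =>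
      obtain rfl : p = (1, j) := Option.some.inj h5
      refine ((virtX0 S _ (List.mem_append_right _ h4)).add
        ((Virt.cmb (c := c) fun q hq => virt49 S _ (h6 q hq)).smul (-1))).congr fun t _ => ?_
      rw [cmb_cons]
      ring

/-- half the norm -/
def mW (j : ℕ) : ℕ := if j < 49 then nmY.getD j 0 / 2 else 2

/-- the star -/
def sW (j : ℕ) : ℕ := if j < 49 then 0 else 1

theorem shapeW : Shape 66 1 mW sW := ⟨by decide +kernel, by decide +kernel, by decide +kernel, by decide +kernel⟩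

theorem gamW : ∀ i < 66, ∀ j < 66, (if i = j then ((ntd nmY 0 i : ℕ) : ℤ) else 0) +
    (if i < 49 then 0 else 1) * (if j < 49 then 0 else 1) * (ntd nmY 0 66 : ℕ) = 2 * gam mW sW i j := by decide +kernel

set_option synthInstance.maxSize 2000 in
theorem sepW : ∀ j < 66, ∀ i < j, sW j = 0 → mW j = 2 → mW i = 2 → sW i = 0 →
    (∃ t < 161, 0 < DX.cnt t ∧ (nth sgY j * rw colsX j t + nth sgY i * rw colsX i t) % 2 ≠ 0) ∨
      (¬ nth sgY j * rw colsX j 0 + 1 * (nth sgY i * rw colsX i 0) ∣ 4 * (DX.N : ℤ) ∧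
        ¬ nth sgY j * rw colsX j 0 + -1 * (nth sgY i * rw colsX i 0) ∣ 4 * (DX.N : ℤ)) := by decide +kernel

theorem cntW : ∑ y ∈ range (66 + 1), (if sdeg 66 sW (fun j => nth sgY j * nth regX j) y % 2 = 1 then mlt 66 mW sW y
    else 0) = 32 := by decide +kernel

/-- the count for the cover of the scene -/
theorem card_sc {ω : ℂ} (hω : ω ^ 2 + ω + 1 = 0) : Nat.card {χ : X → ℂ // OI X χ ∧ χ S.z = ω * χ 1} = 32 := by
  classical
  have := Fintype.ofFinite X
  have := S.mn.finite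
  have hO := orth_of_chkG okLenX gramY
  have h0 := TD.ty_eq_zero S.mass (by decide) (by decide +kernel) (by decide +kernel)
  have h0' := TD.ty_eq_zero S.mass' (by decide) (by decide +kernel) (by decide +kernel)
  have hF := finX
  simp only [okF, Bool.and_eq_true] at hF
  have hb : ∀ x, ∑ j ∈ range 66, nth sgY j * nth regX j * (nth sgY j * rw colsX j (S.T.ty x)) =
      (if x = 1 then (DX.N : ℤ) else 0) - if S.pi x = 1 then (DT.N : ℤ) else 0 := fun x => by
    have h1 := of_decide_eq_true (allL_spec hF.2 _ (List.mem_range.2 (S.T.lt x)))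
    rw [dotL_eq regX _ (k := 66) (by decide +kernel)] at h1
    simp only [h0, ← S.prj, h0'] at h1
    refine Eq.trans (Finset.sum_congr rfl fun j hj => ?_) h1
    have h2 := (by decide +kernel : ∀ j < 66, nth sgY j * nth sgY j = 1) j (Finset.mem_range.1 hj)
    change _ = _ * rw colsX j _
    linear_combination nth regX j * rw colsX j (S.T.ty x) * h2
  refine (card_cov S.cen (z_cube S) hω shapeW (by decide +kernel) (fun j x => nth sgY j * rw colsX j (S.T.ty x))
    (fun j hj => (virt66 S j hj).smul _) (fun j hj x => ?_) (fun i hi j hj => ?_) (fun j hj i hi a b c d => ?_) _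
    (g := fun x => if S.pi x = 1 then (DT.N : ℤ) else 0) (fun x => ?_) ?_ fun x hx => ?_).trans cntW
  · rw [← mul_add, ← mul_add, fibX S hj, mul_zero]
  · refine inner_of_ipF S.mass (f := fun t => nth sgY i * rw colsX i t) (g := fun t => nth sgY j * rw colsX j t) ?_
    have h1 : ∀ i < 67, ∀ j < 67, ipF DX (rw colsY i) (rw colsY j) = if i = j then (DX.N : ℤ) * ntd nmY 0 i else 0 :=
      fun i hi j hj => by
        have h2 := hO i (by rwa [List.length_map, List.length_range]) j (by rwa [List.length_map, List.length_range])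
        rwa [rj, rj, ntd_rwL colsY (k := nmY.length) hi, ntd_rwL colsY (k := nmY.length) hj] at h2
    have h2 := h1 i (by omega) j (by omega)
    have h3 := h1 i (by omega) 66 (by omega)
    have h4 := h1 66 (by omega) j (by omega)
    have h5 := h1 66 (by omega) 66 (by omega)
    rw [if_neg (by omega)] at h3 h4
    rw [if_pos rfl] at h5
    have h6 : ipF DX (fun t => nth sgY i * rw colsX i t) (fun t => nth sgY j * rw colsX j t) =
        ipF DX (rw colsY i) (rw colsY j) + (if j < 49 then 0 else 1) * ipF DX (rw colsY i) (rw colsY 66) +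
          (if i < 49 then 0 else 1) * ipF DX (rw colsY 66) (rw colsY j) +
          (if i < 49 then 0 else 1) * (if j < 49 then 0 else 1) * ipF DX (rw colsY 66) (rw colsY 66) := by
      simp only [ipF, Finset.mul_sum, ← Finset.sum_add_distrib]
      refine Finset.sum_congr rfl fun t ht => ?_
      rw [xy hi (Finset.mem_range.1 ht), xy hj (Finset.mem_range.1 ht)]
      ring
    rw [h6, h2, h3, h4, h5, ← gamW i hi j hj]
    split_ifs <;> ring
  · rw [(h0 1).2 rfl, S.mass.1]
    refine (sepW j hj i hi a b c d).imp_left ?_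
    rintro ⟨t, ht, h1, h2⟩
    rw [← S.mass.2 t ht] at h1
    obtain ⟨⟨x, rfl⟩⟩ := (Nat.card_pos_iff.1 h1).1
    exact ⟨x, h2⟩
  · rw [map_mul, pi_z, one_mul]
  · rw [hb, if_pos rfl, S.mass.1]
  · rw [hb, if_neg hx, zero_sub]

omit S in
/-- **the faithful characters of odd degree of a triple cover** -/
theorem card_cov24 (φ : X →* Fi24') (h1 : Function.Surjective φ) (h2 : φ.ker ≤ Subgroup.center X)
    (h3 : Nat.card φ.ker = 3) (h4 : commutator X = ⊤) {z : X} (hz : z ∈ φ.ker) (hz1 : z ≠ 1) {ω : ℂ}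
    (hω : ω ^ 2 + ω + 1 = 0) : Nat.card {χ : X → ℂ // OI X χ ∧ χ z = ω * χ 1} = 32 := by
  obtain ⟨Y, _, _, ⟨S⟩⟩ := TAB.F24C.inF24
  have k1 : S.pi.ker ≤ Subgroup.center Y := S.ker ▸ Subgroup.zpowers_le_of_mem S.cen
  have k2 : Nat.card S.pi.ker = 3 := by rw [S.ker, Nat.card_zpowers, S.ord]
  rcases H133.FibPce.dichotomy (π := φ) (ρ := S.pi) ⟨h1, h2, h4⟩ ⟨S.surj, k1, S.perf⟩ (k2 ▸ Nat.prime_three)
    (h3.trans k2.symm) with h5 | ⟨e, he⟩
  · have h6 := H95.StemCover.card_ker_dvd_cyclic S2055.result h5 _ (H133.FibPce.pj_surj h1 S.surj)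
      (H133.FibPce.pj_ker h2 k1)
    rw [Nat.card_congr (H133.FibPce.kerFib φ S.pi).toEquiv, Nat.card_prod, h3, k2] at h6
    exact absurd h6 (by decide)
  have h5 : e z ∈ Subgroup.zpowers S.z := by rwa [← S.ker, MonoidHom.mem_ker, he]
  classical
  obtain ⟨n, h6, h7⟩ := Finset.mem_image.1 (mem_zpowers_iff_mem_range_orderOf.1 h5)
  rw [S.ord, Finset.mem_range] at h6
  obtain ⟨β, hβ⟩ : ∃ β : X ≃* Y, β z = S.z := by
    interval_cases n
    · exact absurd (e.map_eq_one_iff.1 (h7.symm.trans (pow_zero _))) hz1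
    · exact ⟨e, h7.symm.trans (pow_one _)⟩
    · refine ⟨e.trans S.al, ?_⟩
      rw [MulEquiv.trans_apply, ← h7, map_pow, S.al_z, inv_pow, inv_eq_iff_mul_eq_one, ← pow_succ, z_cube]
  rw [← card_sc S hω]
  exact T.card_congr β fun χ _ => by simp only [hβ, map_one]

omit S in
/-- **the count in the form of the interface** -/
theorem kk_cov (φ : X →* Fi24') (h1 : Function.Surjective φ) (h2 : φ.ker = Subgroup.center X)
    (h3 : Nat.card (Subgroup.center X) = 3) (h4 : commutator X = ⊤) {l : X → ℂ} (hl : Fa (Subgroup.center X) l)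
    (h0 : l 1 = 1) (hm : ∀ a ∈ Subgroup.center X, ∀ b ∈ Subgroup.center X, l (a * b) = l a * l b) :
    kk ⊤ (Subgroup.center X) l = 32 := by
  have : Fact (Nat.Prime 3) := ⟨Nat.prime_three⟩
  obtain ⟨z, hz, hz1⟩ := ((Subgroup.center X).bot_or_exists_ne_one).resolve_left fun h => by
    rw [h, Subgroup.card_bot] at h3
    cases h3
  have h5 : ∀ n : ℕ, l (z ^ n) = l z ^ n := fun n => by
    induction n with
    | zero => rw [pow_zero, pow_zero, h0]
    | succ n ih => rw [pow_succ, hm _ (pow_mem hz n) _ hz, ih, pow_succ]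
  have h6 : z ^ 3 = 1 := congrArg Subtype.val (h3 ▸ pow_card_eq_one' (x := (⟨z, hz⟩ : Subgroup.center X)))
  have h7 : l z ^ 2 + l z + 1 = 0 := mul_left_cancel₀ (sub_ne_zero.2 (mt (hl z hz) hz1)) (by
    have h7 := h5 3
    rw [h6, h0] at h7
    linear_combination -h7)
  rw [kk_top, ← card_cov24 φ h1 h2.le (h2 ▸ h3) h4 (h2 ▸ hz) hz1 h7]
  refine Nat.card_congr (Equiv.subtypeEquivRight fun χ => and_congr_right fun hχ => ⟨fun h => h z hz, fun h w hw => ?_⟩)
  obtain ⟨c, hc, -⟩ := ODD.Red.exists_central hχ.1 hz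
  obtain rfl : c = l z := mul_right_cancel₀ (isIrr_apply_one_ne_zero hχ.1) (by rw [← hc, mul_one, h])
  have h8 := mem_powers_of_prime_card h3 (g := (⟨z, hz⟩ : Subgroup.center X)) (g' := ⟨w, hw⟩)
    fun e => hz1 (congrArg Subtype.val e)
  obtain ⟨n, h8⟩ := h8
  obtain rfl : z ^ n = w := congrArg Subtype.val h8
  rw [h5]
  clear h8 hw
  induction n with
  | zero => rw [pow_zero, pow_zero, one_mul]
  | succ n ih => rw [pow_succ', hc, ih, pow_succ', mul_assoc]

end Cfsg.Agent.MK.S7
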