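import Cfsg.Agent.MK.S7.Fi24
import Cfsg.Agent.MK.S7.GX

/-!
# MK, the small row of `3.Fi₂₄'` (helper16, helper96)
-/

set_option autoImplicit false

namespace Cfsg.Agent.MK.S7

open Cfsg Cfsg.Spor Cfsg.Agent.MK.S

/-- **the triple cover of `Fi₂₄'`** -/
theorem fi243 : SmC Fi24' := fi243_of fun _ _ _ φ h1 h2 h3 h4 _ m hl hm =>
  kk_cov φ h1 h2 h3 h4 hl ((hm 1).trans (by rw [map_one, Units.val_one])) fun a ha b hb =>
    (hm (⟨a, ha⟩ * ⟨b, hb⟩)).trans (by rw [map_mul, Units.val_mul, ← hm, ← hm])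

end Cfsg.Agent.MK.S7
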