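import Cfsg.Agent.MK.S5.Gen
import Cfsg.Agent.MK.S.Pc
import Cfsg.Agent.MK.T.C
import Cfsg.Agent.H240.CommP
import Cfsg.Agent.H208.SelfCoOne
import Cfsg.Agent.SporadicA.OctadFix
import Cfsg.Agent.TAB.Sm2.M24
import Cfsg.Agent.TAB.Co1.Tab
import Cfsg.Agent.S2069
import Cfsg.Agent.S0399

/-!
# MK, the small row of `Co₁` (helper96)

`F = 2¹¹ : M₂₄` has odd index; a Sylow `2`-subgroup `P` of `F` has `|E : [E, P]| = 2`.
-/

set_option autoImplicit false
set_option maxRecDepth 100000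

namespace Cfsg.Agent.MK.S7

open Subgroup Cfsg.Agent.MK.T Cfsg.Agent.MK.S
open scoped commutatorElement Pointwise

/-- one element generates `V` modulo `[V, P]` -/
theorem rel_two {G : Type} [Group G] [Finite G] {V P : Subgroup G} [V.Normal] (hV : IsPGroup 2 V) (hP : IsPGroup 2 P)
    (hne : V ≠ ⊥) {a : G} (h1 : a * a = 1) (h2 : ∀ x ∈ V, a * x = x * a)
    (h3 : ∀ K : Subgroup G, ⁅V, P⁆ ≤ K → a ∈ K → V ≤ K) : ⁅V, P⁆.relIndex V = 2 := by
  have := two_prime
  have hWV : ⁅V, P⁆ ≤ V := commutator_le_left _ _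
  have h4 : Nat.card V ≤ 2 * Nat.card (⁅V, P⁆ : Subgroup G) :=
    Pc.card_ext (a := a) (h1 ▸ one_mem _) (fun x hx => by rwa [h2 x (hWV hx), mul_inv_cancel_right]) h3
  have h5 : ⁅V, P⁆.relIndex V ≠ 1 := fun h => hne (H240.CommP.eq_bot_of_le_commutator hV hP
    (le_top.trans (normalizer_eq_top V).ge) (relIndex_eq_one.1 h))
  have h6 := card_mul_index (⁅V, P⁆.subgroupOf V)
  rw [Nat.card_congr (subgroupOfEquivOfLe hWV).toEquiv] at h6
  have h7 : 0 < Nat.card (⁅V, P⁆ : Subgroup G) := Nat.card_pos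
  have h8 : 0 < Nat.card V := Nat.card_pos
  change _ * ⁅V, P⁆.relIndex V = _ at h6
  generalize ⁅V, P⁆.relIndex V = r at h5 h6
  rw [← h6] at h4 h8
  have h9 : r ≤ 2 := Nat.le_of_mul_le_mul_left (h4.trans_eq (mul_comm _ _)) h7
  have h10 : r ≠ 0 := by
    rintro rfl
    omega
  omega

theorem cen_bot {G : Type} [Group G] [Finite G] (hs : IsSimpleGroup G) (h : ¬ (Nat.card G).Prime) : center G = ⊥ := by
  refine (inferInstance : (center G).Normal).eq_bot_or_eq_top.resolve_right fun h1 => h ?_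
  let _ := Group.commGroupOfCenterEqTop h1
  exact IsSimpleGroup.prime_card

/-- a sum of some members of a list -/
def xs : List ℕ → ℕ → ℕ
  | [], _ => 0
  | g :: l, c => (c % 2 * g) ^^^ xs l (c / 2)

theorem xs_mem {S : ℕ → Prop} (h0 : S 0) (h1 : ∀ i j, S i → S j → S (i ^^^ j)) :
    ∀ (l : List ℕ) (c : ℕ), (∀ g ∈ l, S g) → S (xs l c)
  | [], _, _ => h0
  | g :: l, c, h => by
    refine h1 _ _ ?_ (xs_mem h0 h1 l _ fun x hx => h x (List.mem_cons_of_mem _ hx))
    rcases Nat.mod_two_eq_zero_or_one c with h2 | h2 <;> rw [h2]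
    · rwa [zero_mul]
    · exact (one_mul g).symm ▸ h g List.mem_cons_self

namespace CoOne

open Cfsg.Agent.SporadicA.GolayBase Cfsg.Agent.SporadicA.GolayPerm Cfsg.Agent.SporadicA.OctadStab
  Cfsg.Agent.SporadicA.OctadFix Cfsg.Agent.CoOneType Cfsg.Agent.MonsterU.CoFrameF
open Cfsg.Agent.SporadicA.Co0Mono (signCo0 permCo0 wordPerm signCo0_add signCo0_zero)
open Cfsg.Agent.CoOneType.CoOneE (pr E mem_E card_E sup_inj sup_wordPerm)
open Cfsg.Spor (Co1)

/-- an octad is fixed pointwise by a group of order 16, and commuting involutions fix the octad -/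
theorem exists_T (l : List ℕ) (h : ∀ P ∈ l, isPerm P = true ∧ isAut P = true ∧ pimg P 8536111 = 8536111 ∧
    (∀ i < 24, papp P (papp P i) = i) ∧ ∀ Q ∈ l, ∀ i < 24, papp P (papp Q i) = papp Q (papp P i)) :
    ∃ T : Subgroup (Equiv.Perm GolayPt), IsPGroup 2 T ∧ fixOct oct0 ≤ T ∧ ∀ P ∈ l, ∀ hP, permOf P hP ∈ T := by
  have := two_prime
  have h1 : IsPGroup 2 (closure {g | ∃ P, ∃ h' : P ∈ l, g = permOf P (h P h').1}) := by
    refine S5.isPGroup_closure ?_ ?_
    · rintro _ ⟨P, h', rfl⟩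
      ext1 x
      apply idx_injective
      rw [Equiv.Perm.mul_apply, idx_permOf, idx_permOf]
      exact (h P h').2.2.2.1 _ (idx_lt x)
    · rintro _ ⟨P, h', rfl⟩ _ ⟨Q, h'', rfl⟩
      ext1 x
      apply idx_injective
      rw [Equiv.Perm.mul_apply, Equiv.Perm.mul_apply, idx_permOf, idx_permOf, idx_permOf, idx_permOf]
      exact (h P h').2.2.2.2 Q h'' _ (idx_lt x)
  refine ⟨_, h1.to_sup_of_normal_right' (IsPGroup.of_card (n := 4) card_fixOct_oct0) ?_, le_sup_right,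
    fun P hP _ => mem_sup_left (subset_closure ⟨P, hP, rfl⟩)⟩
  rw [closure_le]
  rintro _ ⟨P, h', rfl⟩
  rw [SetLike.mem_coe, mem_normalizer_iff]
  intro g
  have h5 := conj_mem_fixOct (o := oct0) (g := g) (permOf_mem_M24 (h P h').1 (h P h').2.1)
  rw [show permOf P (h P h').1 • oct0 = oct0 by rw [oct0, smul_fin, (h P h').2.2.1]] at h5
  exact h5.symm

/-- `2² × 2²` on the octad -/
def dL : List ℕ := [970408745037899174542809581725223937, 967616069900692509306086327477895266,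
  720981692062171673584743151055243296, 590072960059042287979885064796342304]

/-- an element which fixes the octad pointwise -/
def fx : ℕ := 965128854020860192151391391390468128

theorem dL_ok : ∀ P ∈ dL, isPerm P = true ∧ isAut P = true ∧ pimg P 8536111 = 8536111 ∧
    (∀ i < 24, papp P (papp P i) = i) ∧ ∀ Q ∈ dL, ∀ i < 24, papp P (papp Q i) = papp Q (papp P i) := by
  decide +kernel

/-- commutators -/
def tr : List (ℕ × ℕ × ℕ) := [(dL.getD 0 0, 1, 2050), (dL.getD 0 0, 2, 2305), (dL.getD 0 0, 4, 2312),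
  (dL.getD 0 0, 64, 2816), (dL.getD 1 0, 1, 772), (dL.getD 2 0, 1, 2081), (dL.getD 2 0, 4, 2052),
  (dL.getD 3 0, 1, 353), (fx, 1, 641), (fx, 16, 832)]

theorem tr_ok : ∀ t ∈ tr, (isPerm t.1 = true ∧ isAut t.1 = true ∧ pimg t.1 (enc t.2.1) = enc t.2.2) ∧
    (t.1 ∈ dL ∨ ∀ i < 24, Nat.testBit 8536111 i = true → papp t.1 i = i) := by decide +kernel

theorem span_ok : ∀ i < 2 ^ 12, (xs (1 :: 4095 :: tr.map fun t => t.2.1 ^^^ t.2.2)
    (xs [1, 261, 749, 1009, 2336, 384, 908, 1696, 12, 672, 3642, 256] i) == i) = true :=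
  allR_zero_spec (by decide +kernel)

/-- a code word -/
def cw (i : ℕ) : golayCode := ⟨word (enc i), enc_mem i⟩

/-- a change of signs -/
noncomputable def sg (i : ℕ) : F := ⟨pr (signCo0 (cw i)), E_le_F (pr_sign_mem_E _)⟩

theorem sg_xor (i j : ℕ) : sg (i ^^^ j) = sg i * sg j := Subtype.ext (by
  rw [coe_mul, sg, sg, sg, ← map_mul, ← signCo0_add]
  exact congrArg (fun c => pr (signCo0 c)) (Subtype.ext ((congrArg word (enc_xor i j)).trans (word_xor _ _))))

theorem sg_zero : sg 0 = 1 := mul_eq_left.1 ((sg_xor 0 0).symm.trans (congrArg sg (Nat.xor_self 0)))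

theorem sg_all : sg 4095 = 1 := Subtype.ext (pr_eq_one.2 (Or.inr (congrArg signCo0 (Subtype.ext
  ((congrArg word (by decide +kernel)).trans word_all)))))

theorem sg_ker (i : ℕ) : sg i ∈ toM24.ker := (toM24_eq_one_iff _).2 (pr_sign_mem_E _)

/-- the complement -/
noncomputable def sec : M24 →* F := (pr.comp permCo0).codRestrict F fun σ => by
  have h := sp_mem_F 0 σ
  rwa [signCo0_zero, one_mul] at h

theorem to_sec (σ : M24) : toM24 (sec σ) = σ := toM24_eq (c := 0) (by rw [signCo0_zero, one_mul]; rfl)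

theorem sec_sg {P i j : ℕ} (h : isPerm P = true ∧ isAut P = true ∧ pimg P (enc i) = enc j) :
    sec ⟨_, permOf_mem_M24 h.1 h.2.1⟩ * sg i * (sec ⟨_, permOf_mem_M24 h.1 h.2.1⟩)⁻¹ = sg j := by
  have h1 := conj_sign ⟨_, permOf_mem_M24 h.1 h.2.1⟩ (cw i) 0
  rw [signCo0_zero, one_mul, show wordPerm ⟨_, permOf_mem_M24 h.1 h.2.1⟩ (cw i) = cw j from sup_inj (by
    rw [sup_wordPerm]
    change permOf P h.1 • support₂ (word _) = support₂ (word _)
    rw [support₂_word, support₂_word, smul_fin, h.2.2])] at h1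
  exact Subtype.ext h1

theorem a2_F : a2 F = a2 M24 * 2 := by
  have := two_prime
  have := H208.SelfCoOne.finite_co1
  have h0 : Nat.card toM24.ker = 2 ^ 11 := by
    rw [ker_toM24, Nat.card_congr (subgroupOfEquivOfLe E_le_F).toEquiv, card_E]
    rfl
  have hV : IsPGroup 2 toM24.ker := IsPGroup.of_card h0
  obtain ⟨T, hT, h1, h2⟩ := exists_T dL dL_ok
  obtain ⟨P, hP⟩ := ((hT.comap_subtype (K := M24)).comap_of_ker_isPGroup toM24 hV).exists_le_sylow
  rw [a2_split toM24 sec to_sec hV P, rel_two hV P.2 (a := sg 1) (fun h => by rw [h, card_bot] at h0; omega)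
    (by rw [← sg_xor, Nat.xor_self, sg_zero]) (fun x hx => Subtype.ext
      (comm_of_mem_E (pr_sign_mem_E _) ((toM24_eq_one_iff x).1 hx))) fun K h3 h4 x hx => ?_]
  obtain ⟨c, hc⟩ := (mem_E _).1 ((toM24_eq_one_iff x).1 hx)
  obtain ⟨i, hi, h5⟩ := isCode_iff_exists.1 ((mem_golayCode_iff _).1 c.2)
  rw [show x = sg i from Subtype.ext (hc.trans (congrArg (fun c => pr (signCo0 c))
    (Subtype.ext ((word_maskW _).symm.trans (congrArg word h5))))), ← beq_iff_eq.1 (span_ok i hi)]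
  refine xs_mem (S := fun i => sg i ∈ K) (sg_zero ▸ one_mem K) (fun i j h6 h7 => sg_xor i j ▸ mul_mem h6 h7) _ _
    (List.forall_mem_cons.2 ⟨h4, List.forall_mem_cons.2 ⟨sg_all ▸ one_mem K, List.forall_mem_map.2 fun t ht => ?_⟩⟩)
  obtain ⟨h6, h7⟩ := tr_ok t ht
  have h8 : (sg t.2.1)⁻¹ = sg t.2.1 := inv_eq_of_mul_eq_one_right (by rw [← sg_xor, Nat.xor_self, sg_zero])
  have h9 := commutator_mem_commutator (sg_ker t.2.1) (hP (x := sec ⟨_, permOf_mem_M24 h6.1 h6.2.1⟩) (by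
    rw [mem_comap, to_sec]
    change permOf t.1 h6.1 ∈ T
    refine h7.elim (fun h => h2 _ h _) fun h => h1 (mem_fixOct.2 ⟨permOf_mem_M24 h6.1 h6.2.1, fun y hy => ?_⟩)
    exact idx_injective (by rw [idx_permOf, h _ (idx_lt y) (mem_oct0.1 hy)])))
  rw [commutatorElement_def, h8, mul_assoc, mul_assoc, ← mul_assoc _ (sg t.2.1), sec_sg h6, ← sg_xor] at h9
  exact h3 h9

end CoOne

theorem k0_co1 : k0 Spor.Co1 = 32 := by
  have := H208.SelfCoOne.finite_co1
  rw [k0_of_degList TAB.Co1.deg]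
  decide +kernel

/-- **the row of `Co₁`** -/
theorem co1 : SmS Spor.Co1 := fun ih => by
  have := H208.SelfCoOne.finite_co1
  have hc := MonsterU.CoFrameF.card_Co1
  have h3 : a2 M24 = 16 := by
    rw [← ih.k0_eq (by rw [hc, SporadicA.M24Trans.card_M24]; norm_num) (QTNorm.selfN_m24 ⟨MulEquiv.refl _⟩),
      k0_of_degList TAB.Sm2.M24.deg]
    decide
  refine sm_of_one (cen_bot S0399.result.1 (by rw [hc]; norm_num)) S2069.result ((m0_iff H208.SelfCoOne.selfN).2 ?_)
  rw [S5.a2_odd_index MonsterU.CoFrameF.odd_index_F, CoOne.a2_F, h3, k0_co1]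

end Cfsg.Agent.MK.S7
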