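import Cfsg.Agent.MK.S7.PcT
import Cfsg.Agent.MK.S7.Co1
import Cfsg.Agent.H208.SelfCoTwoTh
import Cfsg.Agent.TAB.Co2.Main
import Cfsg.Agent.S2070

/-!
# MK, the small row of `Co₂` (helper96)

A Sylow `2`-subgroup consists of monomial matrices; it acts on the 48 vectors of the standard cross
(data generated by notes/MK/s7gen/co2.py).
-/

set_option autoImplicit false
set_option maxRecDepth 100000

namespace Cfsg.Agent.MK.S7

open Subgroup Cfsg.Agent.MK.T Cfsg.Agent.MK.S Cfsg.Agent.MK.S.Pc Cfsg.Agent.TAB.CE

namespace Mono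

open Cfsg.Agent.SporadicA.GolayBase Cfsg.Agent.SporadicA.GolayPerm Cfsg.Agent.SporadicA.Co0Mono
open Cfsg.Agent.SporadicA.Co1Simple (perm_smul_e8)
open Cfsg.Agent.SporadicStructure.Co0Base (e8 e8_coe)
open Cfsg.Agent.MK.S7.CoOne (cw)

/-- the vectors of the cross -/
def vv (i : ℕ) : leechLattice := (-1 : ℤ) ^ i • e8 (SporadicA.GolayBase.pt (i / 2))

theorem vv_inj : ∀ i < 48, ∀ j < 48, (-1 : ℤ) ^ i * 8 =
    (-1) ^ j * (if SporadicA.GolayBase.pt (i / 2) = SporadicA.GolayBase.pt (j / 2) then 8 else 0) → i = j := by
  decide +kernel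

theorem exists_e : ∃ e : ℕ ≃ leechLattice, ∀ i < 48, e i = vv i := by
  have : Infinite leechLattice := Infinite.of_injective (fun n : ℤ => n • e8 none) fun a b h => by
    have h1 : a * 8 = b * 8 := congrArg (fun v : leechLattice => (v : GolayPt → ℤ) none) h
    omega
  obtain ⟨e, he⟩ := Cardinal.extend_function_of_lt (s := Set.Iio 48)
    ⟨fun i => vv i, fun i j h => Subtype.ext (vv_inj i i.2 j j.2 (by
      have h1 := congrArg (fun v : leechLattice => (v : GolayPt → ℤ) (SporadicA.GolayBase.pt (i / 2))) h
      simpa [vv, e8_coe, Pi.single_apply] using h1))⟩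
    (by rw [Cardinal.mk_nat]; exact (Set.finite_Iio 48).lt_aleph0) nonempty_equiv_of_countable
  exact ⟨e, fun i hi => he ⟨i, hi⟩⟩

/-- the action on the numbers of the vectors -/
noncomputable def rho (K : Subgroup (Equiv.Perm leechLattice)) : K →* Equiv.Perm ℕ :=
  exists_e.choose.symm.permCongrHom.toMonoidHom.comp K.subtype

/-- the points -/
noncomputable def L : ℕ :=
  0x2f0002e0002d0002c0002b0002a000290002800027000260002500024000230002200021000200001f0001e0001d0001c0001b0001a000190001800017000160001500014000130001200011000100000f0000e0000d0000c0000b0000a00009000080000700006000050000400003000020000100000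

theorem pt_L : ∀ i < 48, TAB.CE.pt L i = i := by decide +kernel

theorem inj_L : Inj 48 L := fun i hi j hj h => by rwa [pt_L i hi, pt_L j hj] at h

theorem sign_e8 (c : golayCode) (p : GolayPt) : signCo0 c • e8 p = sgn ((c : GolayPt → ZMod 2) p) • e8 p := by
  refine Subtype.ext (funext fun j => ?_)
  rw [signCo0_smul, signMap_apply, AddSubgroup.coe_zsmul, Pi.smul_apply, e8_coe]
  by_cases hj : j = p
  · rw [hj, smul_eq_mul]
  · simp [hj]

/-- a monomial matrix -/
noncomputable def mo (a : ℕ × ℕ) (h : isPerm a.2 = true ∧ isAut a.2 = true) : Co0 :=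
  signCo0 (cw a.1) * permCo0 ⟨_, permOf_mem_M24 h.1 h.2⟩

/-- its table -/
noncomputable def moB (a : ℕ × ℕ) (T : ℕ) : Prop :=
  ∀ i < 48, gt T i / 2 = papp a.2 (i / 2) ∧ (i + ((enc a.1).testBit (gt T i / 2)).toNat) % 2 = gt T i % 2

theorem tb_mo {K : Subgroup (Equiv.Perm leechLattice)} {a : ℕ × ℕ} {h : isPerm a.2 = true ∧ isAut a.2 = true}
    (hK : (mo a h).1 ∈ K) {T : ℕ} (hT : moB a T) : Tb (rho K) 48 L ⟨_, hK⟩ (gt T) := fun i hi => by
  obtain ⟨h1, h2⟩ := hT i hi
  have h3 : i / 2 < 24 := by omega
  have h4 : gt T i / 2 < 24 := h1 ▸ papp_lt h.1 h3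
  have h5 : gt T i < 48 := by omega
  refine ⟨h5, ?_⟩
  rw [pt_L i hi, pt_L _ h5]
  change exists_e.choose.symm (mo a h • exists_e.choose i) = _
  rw [Equiv.symm_apply_eq, exists_e.choose_spec i hi, exists_e.choose_spec _ h5, mo, mul_smul, vv, smul_zsmul,
    perm_smul_e8, smul_zsmul, sign_e8, smul_smul, vv]
  change (_ * sgn (word _ (permOf a.2 h.1 _))) • e8 (permOf a.2 h.1 _) = _
  rw [permOf_apply, idx_pt h3, ← h1, word_apply, idx_pt h4, neg_one_pow_eq_pow_mod_two (gt T i), ← h2,
    ← neg_one_pow_eq_pow_mod_two, pow_add]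
  cases (enc a.1).testBit (gt T i / 2) <;> rfl

/-- the monomial matrix fixes a vector -/
theorem mo_fix {a : ℕ × ℕ} {h : isPerm a.2 = true ∧ isAut a.2 = true} {v : leechLattice}
    (hv : ∀ i < 24, sgn (word (enc a.1) (SporadicA.GolayBase.pt (papp a.2 i))) * v.1 (SporadicA.GolayBase.pt i) =
      v.1 (SporadicA.GolayBase.pt (papp a.2 i))) : mo a h • v = v := by
  refine Subtype.ext (funext fun j => ?_)
  obtain ⟨p, rfl⟩ := (permOf a.2 h.1).surjective j
  rw [mo, mul_smul, signCo0_smul, signMap_apply, permCo0_smul, permMap_apply]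
  change sgn (word _ _) * v.1 ((permOf a.2 h.1).symm _) = _
  rw [Equiv.symm_apply_apply, permOf_apply, ← hv _ (idx_lt p), pt_idx]

theorem gens {K : Subgroup (Equiv.Perm leechLattice)} {gs : List (ℕ × ℕ)} {Ts : List ℕ}
    (h : List.Forall₂ (fun (a : ℕ × ℕ) (T : ℕ) => ∃ h, (mo a h).1 ∈ K ∧ moB a T) gs Ts) :
    ∃ xs : List K, List.Forall₂ (fun g T => g ∈ (⊤ : Subgroup K) ∧ Tb (rho K) 48 L g (gt T)) xs Ts := by
  induction h with
  | nil => exact ⟨[], .nil⟩
  | cons h1 _ ih =>
    obtain ⟨xs, h3⟩ := ih
    obtain ⟨_, h1, h2⟩ := h1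
    exact ⟨⟨_, h1⟩ :: xs, .cons ⟨mem_top _, tb_mo h1 h2⟩ h3⟩

end Mono

namespace CoTwo

open Cfsg.Agent.SporadicA.GolayBase Cfsg.Agent.SporadicA.GolayPerm Cfsg.Agent.SporadicA.Co0Mono

/-- the generators -/
def gs : List (ℕ × ℕ) := [(2464, 984818244535754528103549039458486304), (0, 965128854020860192151391391390468128), (0,
    21159163873795149579542675899648055), (0, 979056817118496267485194170352571488), (0,
    29340620570662517957029049942508631)]

/-- tables -/
noncomputable def ts : List ℕ := [
    0x2f02e02c02d02a02b02802902702602402502202302102001e01f01d01c01a01b01801901601701501401301201001100e00f00d00c00a00b009008007006005004003002001000,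
    0x2f02e00f00e02102001101001b01a01f01e02302202b02a02502401d01c02702601301201501401701601901802902802d02c00900800b00a00d00c007006005004003002001000,
    0x100002102001301202702602902801901801d01c02d02c00f00e02302201b01a02502401701600d00c02b02a01101001f01e01501400b00a00900800700600500400300202f02e,
    0x2f02e02502400f00e02702602902802d02c02302201901801301201d01c01b01a02102001701600d00c01f01e01101002b02a01501400500400900800300200b00a007006001000,
    0x100002d02c02702601301202b02a01901802302202102001501401d01c01b01a02502401101001f01e02902801701600d00c00f00e00b00a00900800700600300200500402f02e]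

/-- new generators -/
noncomputable def ds : List (List ℕ × List ℕ × ℕ) :=
  [([3, 4], [4, 3],
    0x2f02e02102001f01e00d00c01501401901802302202d02c02b02a01d01c01b01a02502401701602702600f00e01101001301202902800700600900800b00a003002005004001000),
    ([1, 4], [4, 1],
    0x2f02e00900802702601f01e02b02a01101002302201b01a02902801d01c02102001701601901801301201501402502400d00c00f00e00b00a02d02c007006005004003002001000),
    ([0, 3], [3, 0],
    0x2f02e02d02c02b02a02802902602702502402302202002101e01f01d01c01b01a01801901701601501401201301101000f00e00d00c00a00b009008007006004005003002001000),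
    ([0, 2], [2, 0],
    0x2f02e02c02d02a02b02802902602702502402202302002101f01e01c01d01b01a01901801701601501401201301101000f00e00d00c00b00a009008007006005004003002001000),
    ([5, 1], [1, 5],
    0x2f02e02502401301200d00c01501402d02c02302201901800f00e01d01c01701602102001b01a02702602b02a00900801f01e02902800b00a011010007006005004003002001000),
    ([5, 0], [0, 5],
    0x2f02e02c02d02b02a02802902702602502402302202002101f01e01d01c01b01a01901801701601501401201301101000e00f00c00d00a00b009008006007005004003002001000),
    ([10, 3], [3, 10],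
    0x2f02e02c02d02a02b02802902602702402502302202002101e01f01d01c01b01a01801901701601401501201301101000e00f00c00d00a00b009008006007004005002003001000),
    ([9, 4], [4, 9],
    0x2f02e02102000f00e01501400d00c01901802302202d02c01301201d01c00900802502401101002902801f01e01701602b02a02702600b00a01b01a007006005004003002001000),
    ([9, 0], [0, 9],
    0x2f02e02d02c02a02b02802902702602502402302202002101f01e01d01c01b01a01801901701601501401201301001100f00e00c00d00b00a008009007006005004003002001000),
    ([12, 0], [0, 12],
    0x2f02e02c02d02b02a02802902702602502402302202002101e01f01d01c01a01b01901801701601401501201301101000f00e00d00c00b00a008009007006005004003002001000),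
    ([14, 3], [3, 14],
    0x2f02e02c02d02b02a02802902602702402502302202002101f01e01d01c01b01a01801901701601401501301201101000f00e00c00d00b00a009008007006005004003002001000),
    ([15, 4], [4, 15],
    0x2f02e02d02c02a02b02802902602702502402302202102001e01f01d01c01b01a01901801701601401501201301101000e00f00c00d00b00a009008007006005004003002001000),
    ([16, 1], [1, 16],
    0x2f02e02c02d02a02b02802902602702402502302202002101e01f01d01c01a01b01801901601701401501201301001100e00f00c00d00b00a008009007006005004003002001000)]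

/-- all the tables -/
noncomputable def us : List ℕ := ts ++ ds.map fun d => d.2.2

/-- the relations -/
noncomputable def ct : Cert where
  gw := [[0], [1], [2], [3], [4], [5], [6], [7], [8], [9], [10], [11], [12], [13], [14], [15], [16], [17]]
  sq := [[], [], [], [], [], [], [], [], [], [], [], [], [], [], [], [], [], []]
  cm := [[[], [13, 15, 16, 17], [8], [7], [16], [10], [14, 16], [], [], [13], [], [], [14], [], [], [], [], []], [[],
    [], [9, 12], [9, 12], [6], [9], [], [13, 14, 15], [13, 14, 16], [], [13], [15, 16, 17], [], [], [17],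
    [17], [17], []], [[], [], [], [], [], [], [12], [15, 16], [], [], [16], [], [], [15], [16], [], [], []],
    [[], [], [], [], [5], [], [9], [], [15, 16], [], [11], [], [], [16], [15], [], [], []], [[], [], [], [],
    [], [], [], [10, 11], [], [12], [], [], [], [14, 17], [], [16], [], []], [[], [], [], [], [], [], [12],
    [11], [16], [], [], [], [], [15, 16], [16], [], [], []], [[], [], [], [], [], [], [], [13, 15, 16, 17],
    [14], [], [14], [16, 17], [], [17], [], [17], [], []], [[], [], [], [], [], [], [], [], [], [16], [], [],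
    [15], [], [], [], [], []], [[], [], [], [], [], [], [], [], [], [15], [], [], [16], [], [], [], [], []],
    [[], [], [], [], [], [], [], [], [], [], [15, 16], [], [], [], [17], [], [], []], [[], [], [], [], [], [],
    [], [], [], [], [], [], [16], [], [], [], [], []], [[], [], [], [], [], [], [], [], [], [], [], [], [],
    [], [], [], [], []], [[], [], [], [], [], [], [], [], [], [], [], [], [], [17], [], [], [], []], [[], [],
    [], [], [], [], [], [], [], [], [], [], [], [], [], [], [], []], [[], [], [], [], [], [], [], [], [], [],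
    [], [], [], [], [], [], [], []], [[], [], [], [], [], [], [], [], [], [], [], [], [], [], [], [], [], []],
    [[], [], [], [], [], [], [], [], [], [], [], [], [], [], [], [], [], []], [[], [], [], [], [], [], [], [],
    [], [], [], [], [], [], [], [], [], []]]
  dv := [([], [], []), ([], [], []), ([], [], []), ([], [], []), ([], [], []), ([3], [4], []), ([1], [4], []), ([0],
    [3], []), ([0], [2], []), ([5], [1], []), ([5], [0], []), ([10], [3], []), ([9], [4], []), ([9], [0], []),
    ([12], [0], []), ([14], [3], []), ([15], [4], []), ([16], [1], [])]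

/-- the chain of stabilizers -/
noncomputable def lv : List (ℕ × List ℕ) :=
  [(10, [60, 33213, 8, 137, 52, 1333, 0, 1]), (8, [0, 189697, 2, 83203, 82, 216275, 4624, 106129, 594, 52947,
    4614, 45830, 4612, 103045, 592, 100177, 4116, 40085, 598, 182103, 84, 158933, 596, 126677, 4118, 113815,
    4626, 78610, 70, 213191, 80, 60625]), (0, [0, 4]), (2, [0, 101761, 20, 35989]), (4, [0, 129]), (18, [0,
    256]), (6, [0, 1281]), (14, [0, 98560]), (16, [0, 213248]), (12, [0, 205056]), (20, [0, 237824])]

theorem ex : extL 48 ds ts = true := by decide +kernel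

theorem ck : alt (chk1 (eqT 48 us) 18 5 ct) 18 = true := by decide +kernel

theorem en : endB 48 us 18 5 ct lv = true := by decide +kernel

theorem ok : ∀ i < 5, (isPerm (gs.getD i (0, 0)).2 = true ∧ isAut (gs.getD i (0, 0)).2 = true) ∧
    (∀ j < 24, sgn (word (enc (gs.getD i (0, 0)).1) (SporadicA.GolayBase.pt (papp (gs.getD i (0, 0)).2 j))) *
      Spor.vecU (SporadicA.GolayBase.pt j) = Spor.vecU (SporadicA.GolayBase.pt (papp (gs.getD i (0, 0)).2 j))) ∧
    Mono.moB (gs.getD i (0, 0)) (ts.getD i 0) := by
  unfold Mono.moB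
  decide +kernel

theorem one (i : ℕ) (hi : i < 5) : ∃ h, (Mono.mo (gs.getD i (0, 0)) h).1 ∈ Spor.Co2 ∧
    Mono.moB (gs.getD i (0, 0)) (ts.getD i 0) :=
  ⟨(ok i hi).1, ⟨(Mono.mo _ _).2, Mono.mo_fix (v := Spor.leechU) (ok i hi).2.1⟩, (ok i hi).2.2⟩

end CoTwo

theorem a2_co2 : a2 Spor.Co2 = 32 := by
  have := Schreier.CoTwoStab.finite
  obtain ⟨xs, h⟩ := Mono.gens (gs := CoTwo.gs) (Ts := CoTwo.ts) (.cons (CoTwo.one 0 (by decide))
    (.cons (CoTwo.one 1 (by decide)) (.cons (CoTwo.one 2 (by decide)) (.cons (CoTwo.one 3 (by decide))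
      (.cons (CoTwo.one 4 (by decide)) .nil)))))
  rw [← a2_congr (topEquiv (G := Spor.Co2))]
  exact a2_sub ⊤ Mono.inj_L h CoTwo.ex rfl (alt_spec CoTwo.ck) CoTwo.en (o := 161382375) (by decide)
    (card_top.trans Schreier.CoTwoStab.card)

/-- **the row of `Co₂`** -/
theorem co2 : SmS Spor.Co2 := fun _ => by
  have := Schreier.CoTwoStab.finite
  refine sm_of_one (cen_bot Schreier.CoTwoStab.isSimpleGroup (by rw [Schreier.CoTwoStab.card]; norm_num)) S2070.result
    ((m0_iff (H208.selfN_co2 ⟨MulEquiv.refl _⟩)).2 ?_)
  rw [a2_co2, k0_of_degList TAB.Co2.deg]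
  decide +kernel

end Cfsg.Agent.MK.S7
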