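import Cfsg.Agent.MK.S7.Co2
import Cfsg.Agent.H769.RowCo3
import Cfsg.Agent.TAB.Co3.Main
import Cfsg.Agent.S0401
import Cfsg.Agent.S0403
import Cfsg.Agent.S2071

/-!
# MK, the small row of `Co₃` (helper96)

The stabilizer of a vector of the shape `(4, 2⁸, 0¹⁵)` has a monomial Sylow `2`-subgroup
(data generated by notes/MK/s7gen/co3.py).
-/

set_option autoImplicit false
set_option maxRecDepth 100000

namespace Cfsg.Agent.MK.S7

open Subgroup Cfsg.Agent.MK.T Cfsg.Agent.MK.S Cfsg.Agent.MK.S.Pc Cfsg.Agent.TAB.CE

namespace CoThree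

open Cfsg.Agent.SporadicA.GolayBase Cfsg.Agent.SporadicA.GolayPerm Cfsg.Agent.SporadicA.Co0Mono

/-- one half of the vector -/
def zz (p : GolayPt) : ℤ :=
  if idx p = 0 then -1 else if idx p = 4 then 2 else if Nat.testBit 8536111 (idx p) then 1 else 0

/-- the vector -/
def w : leechLattice := ⟨fun i => 2 * zz i, SporadicStructure.Co0Base.two_mul_mem zz
  ((show word (enc 47) = SporadicStructure.LeechBase.red zz from funext (by decide +kernel)) ▸ enc_mem 47)
  (by decide +kernel)⟩

/-- the stabilizer of a vector -/
def St (v : leechLattice) : Subgroup (Equiv.Perm leechLattice) := Co0 ⊓ MulAction.stabilizer (Equiv.Perm leechLattice) v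

/-- the two forms of the stabilizer -/
def eqSt (v : leechLattice) : MulAction.stabilizer Co0 v ≃* St v where
  toFun g := ⟨((g : Co0) : Equiv.Perm leechLattice), (g : Co0).2, g.2⟩
  invFun g := ⟨⟨(g : Equiv.Perm leechLattice), g.2.1⟩, g.2.2⟩
  left_inv _ := rfl
  right_inv _ := rfl
  map_mul' _ _ := rfl

theorem norm_w : sqNorm (w : GolayPt → ℤ) = 48 := by
  change sqNorm (fun i => 2 * zz i) = 48
  decide +kernel

theorem norm_v : sqNorm (Spor.leechV : GolayPt → ℤ) = 48 := by
  change sqNorm Spor.vecV = 48
  decide +kernel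

/-- the generators -/
def gs : List (ℕ × ℕ) := [(33, 154011290965101378516425393633478085), (195, 984573615201180725592165913404213249), (133,
    967616069900692509306086327477895266), (195, 970408745037899174542809581725223937)]

/-- tables -/
noncomputable def ts : List ℕ := [
    0x700602c02d02802902a02b01f01e02502400500402002102702600300201a01b01801901701600f00e00d00c01101001501401301200000100900802f02e02302201d01c00a00b,
    0x2f02e02c02d01e01f02602702802901101002302201a01b02a02b00b00a02102001801901701600e00f00c00d02402501501401301201d01c009008007006005004000001002003,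
    0x2f02e01301201a01b02402501f01e02902802302201101002602701d01c02b02a01801900d00c01501402d02c02002100e00f01701600b00a009008003002000001007006004005,
    0x2f02e01701602402501a01b02102002a02b02302202602701101001d01c02802901801902c02d01501400c00d01e01f00e00f01301200b00a009008005004007006000001002003]

/-- new generators -/
noncomputable def ds : List (List ℕ × List ℕ × ℕ) :=
  [([1, 2], [2, 1],
    0x2f02e01701602502401a01b02002102a02b02302202702601101001d01c02902801901802d02c01401500d00c01e01f00e00f01301200b00a009008005004007006000001002003),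
    ([0, 2], [2, 0],
    0x1d01c01701602902802a02b02602701b01a00b00a02002101e01f02f02e02402501901802c02d01401500c00d01001100e00f013012023022009008003002000001007006004005),
    ([0, 1], [1, 0],
    0x2f02e02d02c02a02b02802902602702502402302202102001e01f01d01c01b01a01901801701601401501201301101000e00f00c00d00b00a009008007006005004003002001000),
    ([4, 0], [0, 4],
    0x2302202c02d02902802a02b01f01e01b01a02f02e01101002602700b00a02402501901801601701501401301202002100f00e00d00c01d01c009008005004007006000001002003),
    ([7, 2], [2, 7],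
    0x2f02e02c02d02a02b02802902702602402502302202102001f01e01d01c01a01b01901801601701501401201301101000f00e00c00d00b00a009008007006005004003002001000),
    ([8, 1], [1, 8],
    0x2f02e02d02c02a02b02802902602702402502302202002101e01f01d01c01a01b01901801701601501401301201001100f00e00d00c00b00a009008007006005004003002001000)]

/-- all the tables -/
noncomputable def us : List ℕ := ts ++ ds.map fun d => d.2.2

/-- the relations -/
noncomputable def ct : Cert where
  gw := [[0], [1], [2], [3], [4], [5], [6], [7], [8], [9]]
  sq := [[], [6, 9], [9], [8, 9], [9], [8], [], [9], [], []]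
  cm := [[[], [6], [5], [6, 7], [7, 9], [8], [], [9], [], []], [[], [], [4], [6, 8], [8, 9], [7], [], [9], [9], []],
    [[], [], [], [8], [9], [8], [8], [8], [], []], [[], [], [], [], [8], [], [9], [], [], []], [[], [], [],
    [], [], [8], [9], [9], [], []], [[], [], [], [], [], [], [], [], [], []], [[], [], [], [], [], [], [], [],
    [], []], [[], [], [], [], [], [], [], [], [], []], [[], [], [], [], [], [], [], [], [], []], [[], [], [],
    [], [], [], [], [], [], []]]
  dv := [([], [], []), ([], [], []), ([], [], []), ([], [], []), ([1], [2], []), ([0], [2], []), ([0], [1], []), ([4],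
    [0], []), ([7], [2], []), ([8], [1], [])]

/-- the chain of stabilizers -/
noncomputable def lv : List (ℕ × List ℕ) :=
  [(0, [0, 2, 4, 278, 1, 67, 773, 87]), (4, [0, 74]), (18, [904, 400, 0, 792, 60, 548, 428, 692]), (12, [0,
    856]), (14, [0, 320]), (16, [0, 512])]

theorem ex : extL 48 ds ts = true := by decide +kernel

theorem ck : alt (chk1 (eqT 48 us) 10 4 ct) 10 = true := by decide +kernel

theorem en : endB 48 us 10 4 ct lv = true := by decide +kernel

theorem ok : ∀ i < 4, (isPerm (gs.getD i (0, 0)).2 = true ∧ isAut (gs.getD i (0, 0)).2 = true) ∧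
    (∀ j < 24, sgn (word (enc (gs.getD i (0, 0)).1) (SporadicA.GolayBase.pt (papp (gs.getD i (0, 0)).2 j))) *
      (2 * zz (SporadicA.GolayBase.pt j)) = 2 * zz (SporadicA.GolayBase.pt (papp (gs.getD i (0, 0)).2 j))) ∧
    Mono.moB (gs.getD i (0, 0)) (ts.getD i 0) := by
  unfold Mono.moB
  decide +kernel

theorem one (i : ℕ) (hi : i < 4) : ∃ h, (Mono.mo (gs.getD i (0, 0)) h).1 ∈ St w ∧
    Mono.moB (gs.getD i (0, 0)) (ts.getD i 0) :=
  ⟨(ok i hi).1, ⟨(Mono.mo _ _).2, Mono.mo_fix (v := w) (ok i hi).2.1⟩, (ok i hi).2.2⟩

theorem a2_St : a2 (St w) = 16 := by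
  have hc : Nat.card (St w) = 495766656000 := (Nat.card_congr (eqSt w).toEquiv).symm.trans (S0403.result w norm_w).2
  have : Finite (St w) := Nat.finite_of_card_ne_zero (by rw [hc]; decide)
  obtain ⟨xs, h⟩ := Mono.gens (gs := gs) (Ts := ts) (.cons (one 0 (by decide))
    (.cons (one 1 (by decide)) (.cons (one 2 (by decide)) (.cons (one 3 (by decide)) .nil))))
  rw [← a2_congr (topEquiv (G := St w))]
  exact a2_sub ⊤ Mono.inj_L h ex rfl (alt_spec ck) en (o := 484147125) (by decide) (card_top.trans hc)

end CoThree

theorem a2_co3 : a2 Spor.Co3 = 16 := by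
  have := TAB.Co3.finite
  obtain ⟨g, hg⟩ := S0401.result _ _ CoThree.norm_w CoThree.norm_v
  have e : Spor.Co3 ≃* CoThree.St CoThree.w := ((CoThree.eqSt Spor.leechV).symm.trans
    (MulAction.stabilizerEquivStabilizer hg.symm).symm).trans (CoThree.eqSt _)
  rw [a2_congr e, CoThree.a2_St]

/-- **the row of `Co₃`** -/
theorem co3 : SmS Spor.Co3 := fun _ => by
  have := TAB.Co3.finite
  obtain ⟨h1, h2⟩ := S0403.result _ CoThree.norm_v
  have e : MulAction.stabilizer Co0 Spor.leechV ≃* Spor.Co3 := CoThree.eqSt Spor.leechV
  refine sm_of_one (cen_bot e.symm.isSimpleGroup (by rw [← Nat.card_congr e.toEquiv, h2]; norm_num)) S2071.result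
    ((m0_iff (H769.RowCo3.self ⟨MulEquiv.refl _⟩)).2 ?_)
  rw [a2_co3, k0_of_degList TAB.Co3.deg]
  decide +kernel

end Cfsg.Agent.MK.S7
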