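import Cfsg.Agent.MK.T.A
import Cfsg.Agent.TAB.F24.Use
import Cfsg.Agent.TAB.F24C.DZ

/-!
# MK, `Fi₂₄'` : the characters of odd degree (helper16)

* `f0_of_chk` : an automorphism which preserves the types fixes the characters of odd degree;
* `k0_fi24`, `f0_fi24`.
-/

set_option autoImplicit false
set_option maxRecDepth 100000

namespace Cfsg.Agent.MK.S7

open Cfsg Cfsg.Agent.TAB.Eng Cfsg.Agent.TAB.Use Cfsg.Agent.Characters Cfsg.Agent.Characters.Core Cfsg.Agent.MK.T

section generic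

variable {G : Type} [Group G] [Finite G] {D : Dat} {T : TD G D} {R : Rows} {χ : ℕ → G → ℂ} {α : MulAut G}

theorem coef_aut (hE : Enum G R.n R.d χ) (hR : Rel T R χ) (hα : ∀ g, T.ty (α g) = T.ty g)
    {r : List (ℕ × ℤ) × List ℤ} (hr : r ∈ R.rel) (hl : ∀ p ∈ r.1, p.1 < R.n) {j a : ℕ} (hj : j < R.n) (ha : a < R.n)
    (h : ∀ g, χ j (α g) = χ a g) : coef r.1 a = coef r.1 j := by
  have := Fintype.ofFinite G
  have h1 := inner_comb hE hj r.1 hl
  have h2 := inner_comb hE ha r.1 hl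
  simp only [hR r hr, classInner_def] at h1 h2
  rw [← α.toEquiv.sum_comp] at h1
  simp only [MulEquiv.toEquiv_eq_coe, EquivLike.coe_coe, hα, h] at h1
  exact_mod_cast h2.symm.trans h1

theorem fixA_of_chk (hE : Enum G R.n R.d χ) (hR : Rel T R χ) (hα : ∀ g, T.ty (α g) = T.ty g) {L : List ℕ}
    (hL : ∀ t ∈ L, ∃ g, T.ty g = t ∧ IsConj g (α g)) {j : ℕ} (hj : j < R.n) (h : fixB R L j = true) (x : G) :
    χ j (α x) = χ j x := by
  rw [fixB, Bool.or_eq_true] at h
  obtain ⟨a, ha, h2, h1⟩ := enum_perm hE α hj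
  suffices h0 : a = j by rw [h1, h0]
  rcases h with h | h
  · obtain ⟨r, hr, h⟩ := List.any_eq_true.1 h
    rw [Bool.or_eq_true] at h
    rcases h with h | h
    · simp only [uniqB, Bool.and_eq_true, bne_iff_ne, ne_eq, List.all_eq_true, decide_eq_true_eq, Bool.or_eq_true,
        beq_iff_eq] at h
      have h3 := coef_aut hE hR hα hr (fun p hp => (h.2 p hp).1) hj ha h1
      obtain ⟨p, hp, h4⟩ := exists_of_coef (c := r.1) (i := a) (by rw [h3]; exact h.1)
      have h5 := (h.2 p hp).2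
      rw [h4] at h5
      exact (h5.resolve_right fun h6 => h6 h2).resolve_right fun h6 => h6 h3
    · simp only [pairB, Bool.and_eq_true, List.any_eq_true, decide_eq_true_eq, bne_iff_ne, ne_eq, Bool.or_eq_true,
        beq_iff_eq] at h
      obtain ⟨⟨q, -, ⟨h3, h4⟩, h5⟩, t, ht, h6⟩ := h
      have hl : ∀ p ∈ r.1, p.1 = j ∨ p.1 = q.1 := by rcases h5 with h | h <;> rw [h] <;> simp
      have h7 := coef_aut hE hR hα hr (fun p hp => by rcases hl p hp with h | h <;> rw [h] <;> assumption) hj ha h1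
      obtain ⟨p, hp, h8⟩ := exists_of_coef (c := r.1) (i := a) (by
        rw [h7]
        rcases h5 with h | h <;> rw [h] <;> simp [coef, h4])
      refine h8 ▸ (hl p hp).resolve_right fun h9 => ?_
      obtain ⟨g, rfl, hg⟩ := hL t ht
      have h10 : χ q.1 g = χ j g := by
        rw [← h9, h8, ← h1]
        exact (GaloisIrr.isConj_iff_forall_irr.1 hg _ (hE.irr j hj)).symm
      refine h6 (even_of_integral (GaloisBasic.isIntegral_apply (isIrr_isCharacter (hE.irr j hj)) g) ?_)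
      rw [← hR r hr g]
      rcases h5 with h | h <;> rw [h] <;> simp [h10]
  · have h3 := List.all_eq_true.1 h a (List.mem_range.2 ha)
    simp only [Bool.or_eq_true, beq_iff_eq, bne_iff_ne, ne_eq] at h3
    exact h3.resolve_right fun h4 => h4 h2

/-- **all characters of odd degree are fixed** -/
theorem f0_of_chk (h : Tab T R) (hα : ∀ g, T.ty (α g) = T.ty g) {L : List ℕ}
    (hL : ∀ t ∈ L, ∃ g, T.ty g = t ∧ IsConj g (α g))
    (hc : ((List.range R.n).all fun j => R.d j % 2 == 0 || fixB R L j) = true) : f0 α = k0 G := by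
  obtain ⟨χ, hE, hR⟩ := h
  refine f0_eq_of_all fun ψ hψ => ?_
  obtain ⟨j, hj, rfl⟩ := hE.all ψ hψ.1
  have h1 := List.all_eq_true.1 hc j (List.mem_range.2 hj)
  have ho := hψ.2
  rw [hE.charDegree_eq hj, Nat.odd_iff] at ho
  simp only [ho, Bool.or_eq_true, beq_iff_eq, one_ne_zero, false_or] at h1
  exact fixA_of_chk hE hR hα hL hj h1

end generic

open Cfsg.Agent.TAB Cfsg.Agent.TAB.F24 Cfsg.Agent.TAB.F24C Cfsg.Agent.TAB.PE Cfsg.Spor
open Cfsg.Agent.Fischer.Fi24Rep (gen)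
open Cfsg.Agent.R08.TThree (P3 rel3_P)
open Cfsg.Agent.H52.ThreeFi24 (q3 q3_of y L3 π3 pce)

/-- **the number of the characters of odd degree** -/
theorem k0_fi24 : k0 Fi24' = 32 := (k0_of_degList (deg_of inF24.in0)).trans (by decide +kernel)

/-- the types with respect to the conjugation by the generator `l` -/
theorem exists_tab : ∃ T : TD Fi24' DT, Tab T tabT ∧ RatA T (MulAut.conjNormal (gen .l)) ∧
    ∀ t ∈ [70, 83], ∃ g, T.ty g = t ∧ IsConj g (MulAut.conjNormal (gen .l) g) := by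
  have d := boxD
  have e := boxE d
  have m := mid d e
  obtain ⟨T', h1, h2⟩ := exists_td_orb (commutator Fi24).subtype Subtype.val_injective okOrbT okPowT okSepT okSumT
    card24' (by rw [d.one, map_one]) m.ordT m.pwT m.sepT fun t ht => cntT box23 d e m ht
  obtain ⟨T3, h5, h6, -⟩ := box23
  have h3 := ratA_of h2 par
  have hl : gen .l * gen .l = (1 : Fi24) := by rw [← q3_of, ← map_mul, show y .l * y .l = 1 from rel3_P.sq .l, map_one]
  have h4 : ∀ x, MulAut.conjNormal (gen .l) (π3.comp psL x) = π3.comp psL x := fun x => Subtype.ext (by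
    change gen .l * q3 (ps x) * (gen .l)⁻¹ = q3 (ps x)
    rw [← ps_l', mul_inv_cancel_right])
  have h7 : ∀ x, T'.ty (π3.comp psL x) = fus.getD (T3.ty x) 0 := fun x =>
    (h2 _ _ ((t_fx _ (T3.lt x)).2.2 ▸ t_proj _ (t_fx _ (T3.lt x)).1)).2
      (rl_fus d m.ordX (T3.lt x) ((h6 _ _ (T3.lt x)).1 rfl))
  refine ⟨T', tabOf h1 h3 (fun g => ?_) (virt_indA h1 h3 h5.1 (π3.comp psL)
    (fun a b h => ps_inj (congrArg Subtype.val h)) h4 h7 ind_T), h3, List.forall_mem_cons.2 ⟨?_,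
      List.forall_mem_singleton.2 ?_⟩⟩
  · rw [← MulAut.mul_apply, ← map_mul, hl, map_one, MulAut.one_apply]
  · obtain ⟨s, hs, h8⟩ : ∃ s < 92, fus.getD s 0 = 70 := by decide +kernel
    exact ⟨_, (h7 (F23C.x23 s)).trans (by rw [(h6 _ s hs).2 (Rl.refl _), h8]), by rw [h4]⟩
  · obtain ⟨w, h8, h9⟩ := o83
    exact ⟨⟨_, q3_ev (d.ev 83 (by decide))⟩, (h2 _ 83 (by decide)).2 (Rl.refl _),
      conj_sub Fischer.Fi24Final.index_commutator h8 h9 (isConj_iff.2 ⟨gen .l, rfl⟩)⟩

/-- **the automorphisms induced by `Fi₂₄` fix the characters of odd degree** -/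
theorem f0_fi24 (w : Fi24) : f0 (MulAut.conjNormal w : MulAut Fi24') = 32 := by
  obtain ⟨T, h1, h2, h3⟩ := exists_tab
  have h4 : ∀ c : Fi24', (MulAut.conjNormal (c : Fi24) : MulAut Fi24') = MulAut.conj c := fun _ =>
    MulEquiv.ext fun _ => rfl
  rcases par w with h | h
  · exact (congrArg f0 (h4 ⟨w, h⟩)).trans ((f0_conj _).trans k0_fi24)
  · rw [← inv_mul_cancel_right w (gen .l : Fi24), map_mul, h4 ⟨_, h⟩, f0_conj_mul, f0_of_chk h1 h2.1 h3 odd_chk, k0_fi24]

end Cfsg.Agent.MK.S7
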