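import Cfsg.Agent.MK.S7.L3
import Cfsg.Agent.MK.S7.G
import Cfsg.Agent.MK.T.D
import Cfsg.Agent.MK.S.Congr
import Cfsg.Agent.MK.S5.Gen
import Cfsg.Agent.H781.RowFiA
import Cfsg.Agent.S2081
import Cfsg.Agent.S2055
import Cfsg.Agent.H133.FibPce
import Cfsg.Agent.H95.StemCover

/-!
# MK, the row of `Fi₂₄'`, and the reduction of the row of `3.Fi₂₄'` to the number of faithful characters (helper96)
-/

set_option autoImplicit false

namespace Cfsg.Agent.MK.S7

open Cfsg Subgroup Cfsg.Agent.MK.T Cfsg.Agent.MK.S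
open Cfsg.Spor

theorem center24 : center Fi24' = ⊥ := by
  have F := KFacts.FiTF.frame
  have := S1698.result.1
  obtain ⟨k, -, t, -, -, -, -, h1, h2⟩ := F.yt
  refine S5.center_eq_bot (by_contra fun h => ?_)
  have h3 : ∀ a b : Fi24', a * b = b * a := fun a b => by_contra fun h3 => h ⟨a, b, h3⟩
  rcases F.cent _ fun r hr => congrArg Subtype.val (h3 ⟨_, F.EK h1⟩ ⟨r, F.EK (F.RE hr)⟩) with h4 | h4
  · exact h2 ((congrArg (· ∈ _) h4).mpr (one_mem _))
  · exact h2 ((congrArg (· ∈ _) h4).mpr F.zR)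

theorem cent24 (c : Fi24) (h : ∀ x : Fi24', c * x = x * c) : c = 1 := by
  have F := KFacts.FiTF.frame
  rcases F.cent c fun r hr => h ⟨r, F.EK (F.RE hr)⟩ with h1 | h1
  · exact h1
  · have h2 : (⟨c, h1 ▸ F.EK (F.RE F.zR)⟩ : Fi24') ∈ center Fi24' :=
      mem_center_iff.2 fun x => Subtype.ext (h x).symm
    rw [center24] at h2
    exact congrArg Subtype.val (mem_bot.1 h2)

theorem m0_24 : M0 Fi24' :=
  have := fin24
  (m0_iff H781.RowFi.selfN_Fi24).2 (k0_fi24.trans a2_fi24'.symm)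

/-- **the row of `Fi₂₄'`** -/
theorem fi24 : SmS Fi24' := fun _ => by
  have := fin24
  obtain ⟨e, -⟩ := aut_equiv center24 S2081.result (commutator Fi24).subtype Subtype.val_injective
    (by rw [range_subtype]; exact Fischer.Fi24Final.index_commutator) cent24
  refine sm_of_self center24 S2081.result H781.RowFi.selfN_Fi24 (k0_fi24.trans a2_fi24'.symm)
    (α := MulAut.conjNormal (Fischer.Fi24Rep.gen .l)) ?_ (by rw [f0_fi24, ← a2_congr e, a2_fi24])
  rintro ⟨g, hg⟩
  exact H997.OutCard.conjNormal_outer TAB.F24C.l_odd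
    (fun c hc => cent24 c (fun x => hc x x.2) ▸ one_mem _) g hg.symm

/-- **the row of `3.Fi₂₄'`** from the number of the faithful characters of odd degree -/
theorem fi243_of (h : ∀ (X : Type) [Group X] [Finite X] (φ : X →* Fi24'), Function.Surjective φ → φ.ker = center X →
    Nat.card (center X) = 3 → commutator X = ⊤ → ∀ (l : X → ℂ) (m : center X →* ℂˣ), Fa (center X) l →
      (∀ z : center X, l z = m z) → kk ⊤ (center X) l = 32) : SmC Fi24' := by
  intro X _ _ φ h1 h2 h3 h4 _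
  have := fin24
  obtain ⟨Y, _, _, ⟨c⟩⟩ := TAB.F24C.inF24
  have h5 : c.pi.ker ≤ center Y := c.ker ▸ zpowers_le_of_mem c.cen
  have h6 : Nat.card c.pi.ker = 3 := by rw [c.ker, Nat.card_zpowers, c.ord]
  refine sm_of_kk φ h1 h2 (by rw [h3]; decide) ?_ (CycN.of_selfN H781.RowFi.selfN_Fi24) m0_24 fun l m hl hm =>
    (h X φ h1 h2 h3 h4 l m hl hm).trans k0_fi24.symm
  rcases H133.FibPce.dichotomy (π := φ) (ρ := c.pi) ⟨h1, h2.le, h4⟩ ⟨c.surj, h5, c.perf⟩ (h6 ▸ Nat.prime_three)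
    (by rw [h2, h3, h6]) with h7 | ⟨e, he⟩
  · have h8 := H95.StemCover.card_ker_dvd_cyclic S2055.result h7 _ (H133.FibPce.pj_surj h1 c.surj)
      (H133.FibPce.pj_ker h2.le h5)
    rw [Nat.card_congr (H133.FibPce.kerFib φ c.pi).toEquiv, Nat.card_prod, h2, h3, h6] at h8
    exact absurd h8 (by decide)
  let δ : MulAut X := (e.trans c.al).trans e.symm
  have h7 : ∀ x, φ (δ x) = c.al' (φ x) := fun x => by
    rw [← he, ← he, ← c.pi_al]
    exact congrArg _ (e.apply_symm_apply _)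
  have h8 : e.symm c.z ∈ center X := (mem_center_congr e _).1 (by rw [e.apply_symm_apply]; exact c.cen)
  have h9 : δ (e.symm c.z) ≠ e.symm c.z := fun h9 => by
    have h10 : c.al (e (e.symm c.z)) = c.z := e.symm.injective h9
    rw [e.apply_symm_apply, c.al_z, inv_eq_iff_mul_eq_one, ← pow_two, ← orderOf_dvd_iff_pow_eq_one, c.ord] at h10
    exact absurd h10 (by decide)
  refine inn_of_aut φ h1 h2 h4 (out_cases S2081.result ?_) δ h7 fun h10 => h9 (h10 _ h8)
  rintro ⟨g, hg⟩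
  obtain ⟨x, rfl⟩ := h1 g
  have h10 := eq_one_of_ind φ h2 h4 (α := (MulAut.conj x)⁻¹ * δ) fun y => by
    rw [MulAut.mul_apply, MulAut.conj_inv_apply, map_mul, map_mul, map_inv, h7, ← hg, MulAut.conj_apply]
    group
  refine h9 ?_
  rw [← inv_mul_eq_one.1 h10, MulAut.conj_apply, mem_center_iff.1 h8, mul_inv_cancel_right]

end Cfsg.Agent.MK.S7
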