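import Cfsg.Agent.MK.S7.L1

/-!
# `Fi₂₄` : polycyclic certificates of the Sylow `2`-subgroups of `Fi₂₄` and `Fi₂₄'` (helper96, MK; generated by notes/MK/s7gen)
-/

set_option autoImplicit false
set_option maxRecDepth 100000
set_option Elab.async false

namespace Cfsg.Agent.MK.S7.Q24

open Cfsg.Agent.TAB.PE Cfsg.Agent.TAB.CE Cfsg.Agent.TAB.F24C Cfsg.Agent.MK.S.Pc
open Cfsg.Agent.Fischer.Fi24Rep (rho)
open Cfsg.Spor

/-- tables -/
noncomputable def tsA : List ℕ := [T0, T1, T2, T3, T4, T5, T6, T7, T8, T9, T10, T11, T12, T13, T14, T15, T16, T17, T18, T19, T20, T21]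

/-- new generators -/
noncomputable def dsA : List (List ℕ × List ℕ × ℕ) :=
  [([1, 5], [5, 1], T6), ([1, 4], [4, 1], T7), ([1, 3], [3, 1], T8), ([1, 2], [2, 1], T9), ([7, 3], [3, 7], T10),
    ([6, 4], [4, 6], T11), ([6, 1], [1, 6], T12), ([10, 3], [3, 10], T13), ([10, 2], [2, 10], T14), ([10, 1],
    [1, 10], T15), ([14, 1], [1, 14], T16), ([13, 3], [3, 13], T17), ([16, 3], [3, 16], T18), ([16, 1], [1,
    16], T19), ([18, 1], [1, 18], T20), ([20, 1], [1, 20], T21)]

/-- the relations -/
noncomputable def ctA : Cert where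
  gw := [[0], [1], [2], [3], [4], [5], [6], [7], [8], [9], [10], [11], [12], [13], [14], [15], [16], [17], [18], [19],
    [20], [21]]
  sq := [[], [7, 10, 12, 13, 14, 15, 16, 17, 19, 20, 21], [7, 9, 10, 11, 12, 13, 16, 20, 21], [6, 7, 8, 10, 12, 13,
    15, 17, 18, 19, 20, 21], [13, 15, 17, 19, 20, 21], [6, 9, 10, 14, 15, 16, 17, 18, 20, 21], [13, 14, 15,
    19, 20, 21], [19, 20], [14, 16, 18, 20, 21], [19, 21], [19, 20, 21], [21], [19, 21], [], [], [21], [], [],
    [], [], [], []]
  cm := [[[], [13, 14, 15, 17, 18, 19, 20, 21], [13, 14, 15, 16, 17, 18, 21], [13, 14, 15, 16, 17, 18, 21], [16, 18,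
    19], [18, 19, 20], [18, 19, 20], [16, 20, 21], [18, 19, 20], [], [18, 19, 20], [], [], [], [], [], [], [],
    [], [], [], []], [[], [], [9], [8], [7], [6], [12, 19, 21], [13, 18, 19, 21], [10, 14, 18, 21], [11, 17,
    20, 21], [15, 21], [18, 20], [13, 15, 16, 19, 21], [21], [16], [19], [19], [18, 20, 21], [20], [21], [21],
    []], [[], [], [], [6, 8, 9, 12, 13, 14, 16, 17, 18, 19], [7, 11, 13, 14, 16, 18, 20], [9, 10, 11, 13, 14,
    17, 19, 20], [12, 13, 14, 16, 17, 19, 20, 21], [11, 16, 18], [10, 11, 17, 18, 20], [11, 16, 17, 20, 21],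
    [14], [19, 21], [14, 17, 20, 21], [18, 20, 21], [19], [16, 19], [19], [], [20, 21], [21], [21], []], [[],
    [], [], [], [7, 8, 9, 10, 11, 12, 13, 14, 16, 17, 19, 20], [6, 9, 11, 12, 15, 18, 19, 20], [12, 16, 17,
    18, 20, 21], [10, 19, 20, 21], [10, 12, 16, 18], [12, 14, 17, 18, 20, 21], [13], [13, 14, 17, 21], [13,
    18, 19, 20, 21], [17], [17, 18, 20, 21], [16, 18, 19, 20], [18], [], [21], [20, 21], [21], []], [[], [],
    [], [], [], [6, 9, 10, 12, 14, 19, 20, 21], [11, 21], [18, 21], [11, 16, 17, 18], [11, 13, 18, 20, 21],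
    [15, 17, 18, 20, 21], [19, 20, 21], [13, 15, 16, 17, 18, 20], [20, 21], [16], [18, 20], [], [18], [], [],
    [21], []], [[], [], [], [], [], [], [11, 12, 13, 14, 17, 18, 20, 21], [12, 14, 15, 16, 17, 18, 20], [11,
    15, 17, 18, 21], [11, 12, 13, 14, 15, 17, 18, 19, 20], [15, 17], [14, 16, 17], [13, 15, 16, 20, 21], [17,
    18, 20], [16, 19, 21], [16, 17, 18, 20, 21], [21], [18, 20], [21], [21], [], []], [[], [], [], [], [], [],
    [], [13, 15, 16, 17, 19, 21], [15, 16, 18, 19, 20], [13, 14, 15, 17, 18, 21], [16, 17, 19, 21], [16, 18,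
    21], [16], [18, 20], [19], [18, 19, 20], [21], [20], [], [], [], []], [[], [], [], [], [], [], [], [],
    [15, 16, 17, 18, 20], [19], [19, 21], [], [20, 21], [21], [19], [20], [], [20, 21], [21], [], [], []],
    [[], [], [], [], [], [], [], [], [], [14, 15, 21], [16], [16], [16, 17, 20, 21], [18, 20], [], [19, 21],
    [21], [21], [21], [21], [], []], [[], [], [], [], [], [], [], [], [], [], [19], [20, 21], [], [20, 21],
    [19, 21], [19], [], [20], [], [], [], []], [[], [], [], [], [], [], [], [], [], [], [], [19, 21], [20,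
    21], [20], [], [21], [21], [21], [], [], [], []], [[], [], [], [], [], [], [], [], [], [], [], [], [19,
    20], [21], [21], [21], [], [21], [], [], [], []], [[], [], [], [], [], [], [], [], [], [], [], [], [],
    [20, 21], [], [20], [], [21], [], [], [], []], [[], [], [], [], [], [], [], [], [], [], [], [], [], [],
    [21], [21], [], [], [], [], [], []], [[], [], [], [], [], [], [], [], [], [], [], [], [], [], [], [21],
    [], [], [], [], [], []], [[], [], [], [], [], [], [], [], [], [], [], [], [], [], [], [], [], [], [], [],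
    [], []], [[], [], [], [], [], [], [], [], [], [], [], [], [], [], [], [], [], [], [], [], [], []], [[],
    [], [], [], [], [], [], [], [], [], [], [], [], [], [], [], [], [], [], [], [], []], [[], [], [], [], [],
    [], [], [], [], [], [], [], [], [], [], [], [], [], [], [], [], []], [[], [], [], [], [], [], [], [], [],
    [], [], [], [], [], [], [], [], [], [], [], [], []], [[], [], [], [], [], [], [], [], [], [], [], [], [],
    [], [], [], [], [], [], [], [], []], [[], [], [], [], [], [], [], [], [], [], [], [], [], [], [], [], [],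
    [], [], [], [], []]]
  dv := [([], [], []), ([], [], []), ([], [], []), ([], [], []), ([], [], []), ([], [], []), ([1], [5], []), ([1],
    [4], []), ([1], [3], []), ([1], [2], []), ([7], [3], []), ([6], [4], []), ([6], [1], []), ([10], [3], []),
    ([10], [2], []), ([10], [1], []), ([14], [1], []), ([13], [3], []), ([16], [3], []), ([16], [1], []),
    ([18], [1], []), ([20], [1], [])]

/-- the chain of stabilizers -/
noncomputable def lvA : List (ℕ × List ℕ) :=
  [(0, [0, 965076, 2759315, 3072007, 2487519, 1803147, 1835015, 3226264, 6, 1292562, 2929432, 3830558, 1987873,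
    3675853, 2949130, 2885013, 1, 19160, 2759314, 2553414, 3491349, 1803146, 2543250, 3226265, 7, 1292563,
    4109645, 3830559, 862151, 3675852, 2949131, 2598420, 746972, 778243, 2059164, 889626, 2873296, 2764937,
    684187, 3275908, 709455, 1665819, 2059165, 1697384, 2557545, 888209, 2764305, 3421006, 1600803, 2613149,
    1167497, 37659, 3683150, 1905745, 3, 2013059, 684826, 1338138, 1167496, 447310, 3683151, 3181469, 2,
    1683472, 3827345, 776136, 1148560, 407170, 4085134, 1728904, 3361046, 3817821, 2435926, 2003600, 1148561,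
    4174917, 4005787, 1728905, 1422734, 3817820, 2414211, 3563912, 3782031, 1933705, 2567706, 638167, 2662749,
    2251990, 2183376, 3563913, 3094147, 1933704, 1562981, 1717890, 3655505, 2251991, 3601537, 1862566,
    2265119, 2999314, 3344286, 224659, 1141671, 3929216, 3601536, 253568, 3993107, 1297356, 90880, 714642,
    974465, 3929217, 3788190, 1460115, 237991, 3227264, 3948161, 4002945, 3693087, 3608082, 3915231, 1584530,
    1101331, 3227265, 3948160, 2178975, 3875521, 2059166, 3276805, 955837, 4, 3233243, 332931, 3334149,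
    2340315, 57348, 470619, 834436, 5, 3233242, 3355778, 3334148, 2158042, 57349, 1961532, 922019, 3550810,
    4175322, 3929218, 3227266, 3994018, 1688474, 3781399, 922018, 3141180, 3534404, 462405, 480067, 3994019,
    3363606, 3136023, 2211216, 974469, 2438550, 1562007, 1771337, 2939415, 3798148, 70722, 1129733, 2778403,
    2438551, 1562006, 3301168, 2939414, 3095063, 1980950, 1956375, 220977, 3441864, 508886, 1509192, 3929220,
    1840261, 240456, 1850326, 4136581, 1638020, 2035912, 684560, 3966618, 3240113, 3995359, 3056660, 2832736,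
    2426773, 464606, 1901063, 1643725, 3073940, 3995358, 1499655, 2823373, 865350, 679769, 1901062, 1643724,
    2576670, 3488097, 140870, 1775326, 66055, 1074122, 3949589, 675551, 66054, 222867, 1111774, 1695001,
    3619169, 3604998, 1047181, 1127495, 3619168, 853016, 3400729, 1148565, 2950105, 3999380, 3400728, 1148564,
    3853848, 1053834, 9414, 1130122, 1638022, 2722163, 2709912, 217388, 3943960, 98700, 1566996, 263829,
    2815115, 98701, 3827349, 2222162, 3597973, 601625, 3657240, 3358912, 1504394, 1933708, 3407499, 1832074,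
    3929222]), (1, [0, 3211275, 17746, 3857049, 3223124, 642898, 3591449, 2171968]), (32, [0, 3542695,
    2193408, 2744551, 1405952, 912615, 3247975, 1382272, 1013184, 2141479, 2562944, 120103, 3408551, 514624,
    3897792, 303399, 2455378, 2870069, 1487693, 2965133, 1353461, 1374866, 1125650, 4031850, 3582133, 3740882,
    2631402, 102034, 1333522, 1115509, 3972365, 3920077]), (2, [0, 2396959, 1664159, 718720]), (64, [0,
    2610471, 3507047, 1431104]), (128, [0, 1179648, 2348327, 3265831])]

theorem exA : extL 256 dsA [T0, T1, T2, T3, T4, T5] = true := by decide +kernel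

theorem ckA : alt (chk1 (eqT 256 tsA) 22 6 ctA) 22 = true := by decide +kernel

theorem enA : endB 256 tsA 22 6 ctA lvA = true := by decide +kernel

/-- tables -/
noncomputable def tsB : List ℕ := [T1, T2, T3, T4, T5, T6, T7, T8, T9, T10, T11, T12, T13, T14, T15, T16, T17, T18, T19, T20, T21]

/-- new generators -/
noncomputable def dsB : List (List ℕ × List ℕ × ℕ) :=
  [([0, 4], [4, 0], T6), ([0, 3], [3, 0], T7), ([0, 2], [2, 0], T8), ([0, 1], [1, 0], T9), ([6, 2], [2, 6], T10),
    ([5, 3], [3, 5], T11), ([5, 0], [0, 5], T12), ([9, 2], [2, 9], T13), ([9, 1], [1, 9], T14), ([9, 0], [0,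
    9], T15), ([13, 0], [0, 13], T16), ([12, 2], [2, 12], T17), ([15, 2], [2, 15], T18), ([15, 0], [0, 15],
    T19), ([17, 0], [0, 17], T20), ([19, 0], [0, 19], T21)]

/-- the relations -/
noncomputable def ctB : Cert where
  gw := [[0], [1], [2], [3], [4], [5], [6], [7], [8], [9], [10], [11], [12], [13], [14], [15], [16], [17], [18], [19],
    [20]]
  sq := [[6, 9, 11, 12, 13, 14, 15, 16, 18, 19, 20], [6, 8, 9, 10, 11, 12, 15, 19, 20], [5, 6, 7, 9, 11, 12, 14, 16,
    17, 18, 19, 20], [12, 14, 16, 18, 19, 20], [5, 8, 9, 13, 14, 15, 16, 17, 19, 20], [12, 13, 14, 18, 19,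
    20], [18, 19], [13, 15, 17, 19, 20], [18, 20], [18, 19, 20], [20], [18, 20], [], [], [20], [], [], [], [],
    [], []]
  cm := [[[], [8], [7], [6], [5], [11, 18, 20], [12, 17, 18, 20], [9, 13, 17, 20], [10, 16, 19, 20], [14, 20], [17,
    19], [12, 14, 15, 18, 20], [20], [15], [18], [18], [17, 19, 20], [19], [20], [20], []], [[], [], [5, 7, 8,
    11, 12, 13, 15, 16, 17, 18], [6, 10, 12, 13, 15, 17, 19], [8, 9, 10, 12, 13, 16, 18, 19], [11, 12, 13, 15,
    16, 18, 19, 20], [10, 15, 17], [9, 10, 16, 17, 19], [10, 15, 16, 19, 20], [13], [18, 20], [13, 16, 19,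
    20], [17, 19, 20], [18], [15, 18], [18], [], [19, 20], [20], [20], []], [[], [], [], [6, 7, 8, 9, 10, 11,
    12, 13, 15, 16, 18, 19], [5, 8, 10, 11, 14, 17, 18, 19], [11, 15, 16, 17, 19, 20], [9, 18, 19, 20], [9,
    11, 15, 17], [11, 13, 16, 17, 19, 20], [12], [12, 13, 16, 20], [12, 17, 18, 19, 20], [16], [16, 17, 19,
    20], [15, 17, 18, 19], [17], [], [20], [19, 20], [20], []], [[], [], [], [], [5, 8, 9, 11, 13, 18, 19,
    20], [10, 20], [17, 20], [10, 15, 16, 17], [10, 12, 17, 19, 20], [14, 16, 17, 19, 20], [18, 19, 20], [12,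
    14, 15, 16, 17, 19], [19, 20], [15], [17, 19], [], [17], [], [], [20], []], [[], [], [], [], [], [10, 11,
    12, 13, 16, 17, 19, 20], [11, 13, 14, 15, 16, 17, 19], [10, 14, 16, 17, 20], [10, 11, 12, 13, 14, 16, 17,
    18, 19], [14, 16], [13, 15, 16], [12, 14, 15, 19, 20], [16, 17, 19], [15, 18, 20], [15, 16, 17, 19, 20],
    [20], [17, 19], [20], [20], [], []], [[], [], [], [], [], [], [12, 14, 15, 16, 18, 20], [14, 15, 17, 18,
    19], [12, 13, 14, 16, 17, 20], [15, 16, 18, 20], [15, 17, 20], [15], [17, 19], [18], [17, 18, 19], [20],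
    [19], [], [], [], []], [[], [], [], [], [], [], [], [14, 15, 16, 17, 19], [18], [18, 20], [], [19, 20],
    [20], [18], [19], [], [19, 20], [20], [], [], []], [[], [], [], [], [], [], [], [], [13, 14, 20], [15],
    [15], [15, 16, 19, 20], [17, 19], [], [18, 20], [20], [20], [20], [20], [], []], [[], [], [], [], [], [],
    [], [], [], [18], [19, 20], [], [19, 20], [18, 20], [18], [], [19], [], [], [], []], [[], [], [], [], [],
    [], [], [], [], [], [18, 20], [19, 20], [19], [], [20], [20], [20], [], [], [], []], [[], [], [], [], [],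
    [], [], [], [], [], [], [18, 19], [20], [20], [20], [], [20], [], [], [], []], [[], [], [], [], [], [],
    [], [], [], [], [], [], [19, 20], [], [19], [], [20], [], [], [], []], [[], [], [], [], [], [], [], [],
    [], [], [], [], [], [20], [20], [], [], [], [], [], []], [[], [], [], [], [], [], [], [], [], [], [], [],
    [], [], [20], [], [], [], [], [], []], [[], [], [], [], [], [], [], [], [], [], [], [], [], [], [], [],
    [], [], [], [], []], [[], [], [], [], [], [], [], [], [], [], [], [], [], [], [], [], [], [], [], [], []],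
    [[], [], [], [], [], [], [], [], [], [], [], [], [], [], [], [], [], [], [], [], []], [[], [], [], [], [],
    [], [], [], [], [], [], [], [], [], [], [], [], [], [], [], []], [[], [], [], [], [], [], [], [], [], [],
    [], [], [], [], [], [], [], [], [], [], []], [[], [], [], [], [], [], [], [], [], [], [], [], [], [], [],
    [], [], [], [], [], []], [[], [], [], [], [], [], [], [], [], [], [], [], [], [], [], [], [], [], [], [],
    []]]
  dv := [([], [], []), ([], [], []), ([], [], []), ([], [], []), ([], [], []), ([0], [4], []), ([0], [3], []), ([0],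
    [2], []), ([0], [1], []), ([6], [2], []), ([5], [3], []), ([5], [0], []), ([9], [2], []), ([9], [1], []),
    ([9], [0], []), ([13], [0], []), ([12], [2], []), ([15], [2], []), ([15], [0], []), ([17], [0], []),
    ([19], [0], [])]

/-- the chain of stabilizers -/
noncomputable def lvB : List (ℕ × List ℕ) :=
  [(0, [0, 940771, 5, 1116101, 1403817, 1789955, 876997, 702405, 3, 2054880, 39334, 339590, 370403, 131520,
    190842, 1160591, 934767, 503375, 1784181, 81184, 1187503, 1579577, 91392, 1495274, 1095308, 874895,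
    1813724, 1767203, 1426287, 1939866, 850720, 1651139, 1078651, 1215143, 1256210, 616049, 604961, 636705,
    1153597, 1637954, 363745, 168574, 797921, 1371137, 391, 2091963, 1992772, 307847, 1462146, 1955617,
    2054881, 1930813, 1321639, 1168174, 67886, 39335, 1108913, 585095, 614926, 131981, 817949, 24801, 1,
    1871073, 1159364, 919085, 711764, 284481, 1576999, 1439719, 814177, 1170292, 1301588, 506536, 1494279,
    1231399, 1809495, 1668008, 296046, 1624827, 669806, 1689266, 2043988, 1689268, 1793284, 1803815, 939700,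
    931700, 1036546, 147368, 532743, 129572, 1487976, 858945, 1596676, 1228251, 196614, 1387738, 214592,
    1253226, 172239, 1671404, 237376, 1964608, 1448572, 719744, 318694, 825103, 541941, 1209440, 1021935,
    31727, 1489926, 141331, 2030144, 1613632, 288710, 6, 1119808, 434997, 1783017, 1773920, 1801199, 1114067,
    1357468, 237184, 898515, 959462, 314286, 534446, 2, 1798206, 318692, 876996, 1743425, 1120907, 1638402,
    1961643, 375047, 2054884, 1677889, 1466594, 7, 1387736, 38283, 259874, 1495021, 117773, 1964609, 1613633,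
    4, 604964, 1771303, 674823, 590507, 1767202, 1638404, 1063716, 2030145, 2054882, 1981297, 1713684,
    2015790, 483863, 1109298, 1036545, 1344836, 1236354, 1737314, 238701, 724862, 1298513, 775403, 539313,
    822216, 597169, 1008738, 1915761, 729291, 508462, 756023, 1525869, 1964610, 1964612, 424206, 1671400,
    1613636, 819010, 1447406, 1237346, 1397581, 1709367, 1338627, 1960617, 50864, 1992774, 264806, 506540,
    2017827, 1608694, 2052901, 1793285, 1673023, 55754, 2095647, 1690883, 1689264, 1505420, 931701, 1254947,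
    1684537, 558021, 30576, 338608, 1859840, 33027, 1068432, 388496, 2043356, 1630464, 1671427, 172246,
    215206, 264645, 606905, 891459, 1159366, 1602474, 490339, 289548, 1986186, 652848, 177285, 281782,
    1184901, 819011, 1596074, 1778597, 404288, 2085465, 508463, 1301590, 274245, 558751, 1392554, 1913868,
    707478, 1306896, 230314, 2051884, 1737315, 2060197, 1988741, 139658, 1119097, 1964611]), (1, [0, 1999139,
    316672, 1508842, 1227999, 316085, 1921578, 1053888]), (4, [0, 562825, 1343996, 1474229]), (2, [0, 1360320,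
    77084, 1739996]), (32, [0, 1817600, 501536, 793376, 703488, 1114112, 1907488, 1484576]), (64, [0, 720896,
    125728, 715552]), (128, [0, 589824])]

theorem exB : extL 256 dsB [T1, T2, T3, T4, T5] = true := by decide +kernel

theorem ckB : alt (chk1 (eqT 256 tsB) 21 5 ctB) 21 = true := by decide +kernel

theorem enB : endB 256 tsB 21 5 ctB lvB = true := by decide +kernel

end Cfsg.Agent.MK.S7.Q24
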