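import Cfsg.Agent.MK.S7.L2
import Cfsg.Agent.TAB.F24C.DO

/-!
# `Fi₂₄`, `Fi₂₄'` : the commutator factor groups of the Sylow `2`-subgroups (helper96, MK)
-/

set_option autoImplicit false
set_option maxRecDepth 100000

namespace Cfsg.Agent.MK.S7

open Cfsg.Agent.TAB.PE Cfsg.Agent.TAB.CE Cfsg.Agent.TAB.F24C Cfsg.Agent.MK.T Cfsg.Agent.MK.S7.Q24
open Cfsg.Spor

theorem fin24 : Finite Fi24 := Nat.finite_of_card_ne_zero (by rw [R08.TIso.card_Fi24]; decide)

theorem a2_fi24 : a2 Fi24 = 64 := by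
  have := fin24
  rw [← a2_congr (Subgroup.topEquiv (G := Fi24))]
  exact a2_sub ⊤ hi (.cons ⟨trivial, g0⟩ (.cons ⟨trivial, g1⟩ (.cons ⟨trivial, g2⟩ (.cons ⟨trivial, g3⟩
    (.cons ⟨trivial, g4⟩ (.cons ⟨trivial, g5⟩ .nil)))))) exA rfl (alt_spec ckA) enA (o := 598528723330813275)
    (by decide) (Subgroup.card_top.trans R08.TIso.card_Fi24)

theorem a2_fi24' : a2 Fi24' = 32 := by
  have := fin24
  exact a2_sub (commutator Fi24) hi (.cons ⟨el_even (by decide +kernel), g1⟩ (.cons ⟨el_even (by decide +kernel), g2⟩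
    (.cons ⟨el_even (by decide +kernel), g3⟩ (.cons ⟨el_even (by decide +kernel), g4⟩
    (.cons ⟨el_even (by decide +kernel), g5⟩ .nil))))) exB rfl (alt_spec ckB) enB (o := 598528723330813275)
    (by decide) card24'

end Cfsg.Agent.MK.S7
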