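import Cfsg.Agent.MK.S7.Cov
import Cfsg.Agent.TAB.F24.CertX

/-!
# Faithful characters of `3.Fi₂₄'` : 67 orthogonal rows (helper16)
-/

set_option autoImplicit false
set_option maxRecDepth 100000

namespace Cfsg.Agent.MK.S7

open Cfsg.Agent.TAB.Eng Cfsg.Agent.TAB.Glue Cfsg.Agent.TAB.Cov Cfsg.Agent.TAB.F24

/-- the values at the type 0 -/
def cY0 : List ℤ :=
  [.ofNat 129168, .ofNat 612306, .ofNat 13449618, .ofNat 38069460, .ofNat 87559758, .ofNat 407687742,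
  .ofNat 2101434192, .ofNat 3106861758, .ofNat 3637097640, .ofNat 4800479040, .ofNat 8580856284,
  .ofNat 9240922152, .ofNat 18912907728, .ofNat 21452140710, .ofNat 24516732240, .ofNat 29014119810,
  .ofNat 30032996994, .ofNat 42028683840, .ofNat 42244215552, .ofNat 68256811350, .ofNat 83570078592,
  .ofNat 127662127164, .ofNat 156693897360, .ofNat 160512344064, .ofNat 160512344064, .ofNat 168114735360,
  .ofNat 207124117200, .ofNat 271210512384, .ofNat 271210512384, .ofNat 284338374138, .ofNat 300329969940,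
  .ofNat 308910826224, .ofNat 320510244600, .ofNat 357029503974, .ofNat 370322668800, .ofNat 407550873600,
  .ofNat 421111722636, .ofNat 431722856448, .ofNat 513933638400, .ofNat 519801871050, .ofNat 549821418426,
  .ofNat 810890918838, .ofNat 864618300, .ofNat 4608644040, .ofNat 5022240300, .ofNat 5398348032,
  .ofNat 33002486100, .ofNat 35975639700, .ofNat 605588829300, .negSucc 612305, .ofNat 50713344,
  .ofNat 390038922, .negSucc 390038921, .negSucc 660065867, .ofNat 5603824512, .negSucc 6528912389,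
  .negSucc 8833234409, .ofNat 42193502208, .ofNat 43684359264, .ofNat 68256811350, .negSucc 231023053799,
  .negSucc 240263975951, .negSucc 549174802175, .negSucc 591419017727, .ofNat 717289537536,
  .ofNat 750824924850, .negSucc 1565]

/-- the values at the type 1 -/
def cY1 : List ℤ :=
  [.negSucc 64583, .negSucc 306152, .negSucc 6724808, .negSucc 19034729, .negSucc 43779878,
  .negSucc 203843870, .negSucc 1050717095, .negSucc 1553430878, .negSucc 1818548819, .negSucc 2400239519,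
  .negSucc 4290428141, .negSucc 4620461075, .negSucc 9456453863, .negSucc 10726070354, .negSucc 12258366119,
  .negSucc 14507059904, .negSucc 15016498496, .negSucc 21014341919, .negSucc 21122107775,
  .negSucc 34128405674, .negSucc 41785039295, .negSucc 63831063581, .negSucc 78346948679,
  .negSucc 80256172031, .negSucc 80256172031, .negSucc 84057367679, .negSucc 103562058599,
  .negSucc 135605256191, .negSucc 135605256191, .negSucc 142169187068, .negSucc 150164984969,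
  .negSucc 154455413111, .negSucc 160255122299, .negSucc 178514751986, .negSucc 185161334399,
  .negSucc 203775436799, .negSucc 210555861317, .negSucc 215861428223, .negSucc 256966819199,
  .negSucc 259900935524, .negSucc 274910709212, .negSucc 405445459418, .negSucc 432309149,
  .negSucc 2304322019, .negSucc 2511120149, .negSucc 2699174015, .negSucc 16501243049, .negSucc 17987819849,
  .negSucc 302794414649, .ofNat 306153, .negSucc 25356671, .negSucc 195019460, .ofNat 195019461,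
  .ofNat 330032934, .negSucc 2801912255, .ofNat 3264456195, .ofNat 4416617205, .negSucc 21096751103,
  .negSucc 21842179631, .negSucc 34128405674, .ofNat 115511526900, .ofNat 120131987976, .ofNat 274587401088,
  .ofNat 295709508864, .negSucc 358644768767, .negSucc 375412462424, .ofNat 783]

/-- the values at the type 2 -/
def cY2 : List ℤ :=
  [.ofNat 144, .negSucc 557, .negSucc 1133, .ofNat 2772, .ofNat 3150, .ofNat 4158, .ofNat 1872,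
  .negSucc 36161, .ofNat 58536, .ofNat 12096, .negSucc 46115, .ofNat 29736, .ofNat 99792, .ofNat 94374,
  .ofNat 80208, .negSucc 23165, .ofNat 48258, .ofNat 576, .negSucc 48383, .negSucc 110249, .negSucc 56447,
  .ofNat 72252, .ofNat 119952, .ofNat 0, .ofNat 0, .negSucc 108287, .negSucc 45359, .ofNat 0, .ofNat 0,
  .ofNat 121338, .negSucc 65771, .negSucc 240911, .ofNat 113400, .ofNat 249318, .negSucc 172799,
  .ofNat 184320, .ofNat 265356, .ofNat 0, .ofNat 80640, .negSucc 343349, .negSucc 132677, .negSucc 148553,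
  .ofNat 19260, .negSucc 28727, .negSucc 18899, .negSucc 16127, .negSucc 102059, .ofNat 62100, .ofNat 170100,
  .negSucc 977, .ofNat 768, .negSucc 11381, .negSucc 10121, .ofNat 10164, .ofNat 66432, .ofNat 13818,
  .ofNat 28182, .ofNat 49152, .ofNat 144480, .negSucc 56489, .negSucc 205799, .ofNat 22512, .negSucc 59135,
  .negSucc 10751, .ofNat 49152, .negSucc 30029, .negSucc 29]

/-- the values at the type 3 -/
def cY3 : List ℤ :=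
  [.negSucc 71, .ofNat 279, .ofNat 567, .negSucc 1385, .negSucc 1574, .negSucc 2078, .negSucc 935,
  .ofNat 18081, .negSucc 29267, .negSucc 6047, .ofNat 23058, .negSucc 14867, .negSucc 49895, .negSucc 47186,
  .negSucc 40103, .ofNat 11583, .negSucc 24128, .negSucc 287, .ofNat 24192, .ofNat 55125, .ofNat 28224,
  .negSucc 36125, .negSucc 59975, .ofNat 0, .ofNat 0, .ofNat 54144, .ofNat 22680, .ofNat 0, .ofNat 0,
  .negSucc 60668, .ofNat 32886, .ofNat 120456, .negSucc 56699, .negSucc 124658, .ofNat 86400, .negSucc 92159,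
  .negSucc 132677, .ofNat 0, .negSucc 40319, .ofNat 171675, .ofNat 66339, .ofNat 74277, .negSucc 9629,
  .ofNat 14364, .ofNat 9450, .ofNat 8064, .ofNat 51030, .negSucc 31049, .negSucc 85049, .ofNat 489,
  .negSucc 383, .ofNat 5691, .ofNat 5061, .negSucc 5081, .negSucc 33215, .negSucc 6908, .negSucc 14090,
  .negSucc 24575, .negSucc 72239, .ofNat 28245, .ofNat 102900, .negSucc 11255, .ofNat 29568, .ofNat 5376,
  .negSucc 24575, .ofNat 15015, .ofNat 15]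

/-- the values at the type 4 -/
def cY4 : List ℤ :=
  [.ofNat 2704, .ofNat 5458, .ofNat 52754, .ofNat 88660, .ofNat 158158, .ofNat 388542, .ofNat 1160016,
  .ofNat 1039038, .ofNat 1247400, .ofNat 1313600, .ofNat 215644, .ofNat 1651496, .negSucc 432431,
  .ofNat 2781350, .negSucc 560559, .ofNat 3211650, .ofNat 5047042, .ofNat 3432000, .ofNat 3596032,
  .ofNat 3025750, .ofNat 896896, .ofNat 787644, .negSucc 240239, .ofNat 2228224, .ofNat 7995392,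
  .ofNat 7138560, .ofNat 5205200, .ofNat 2228224, .ofNat 7995392, .ofNat 4786938, .ofNat 7547540,
  .negSucc 803087, .negSucc 8353799, .negSucc 5629337, .ofNat 1209600, .ofNat 1331200, .ofNat 2598156,
  .negSucc 10223615, .negSucc 4076799, .ofNat 5301450, .negSucc 5078213, .negSucc 5567561, .negSucc 245699,
  .negSucc 120119, .ofNat 608300, .negSucc 532223, .negSucc 1968299, .negSucc 2702699, .ofNat 11056500,
  .negSucc 6865, .ofNat 81664, .ofNat 255242, .negSucc 365065, .negSucc 410827, .ofNat 896896,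
  .negSucc 1431429, .negSucc 1371369, .ofNat 4685824, .ofNat 2448992, .ofNat 6228950, .negSucc 9255399,
  .ofNat 368368, .negSucc 5747455, .ofNat 7056896, .negSucc 4685823, .ofNat 1251250, .negSucc 157]

/-- the values at the type 5 -/
def cY5 : List ℤ :=
  [.negSucc 1351, .negSucc 2728, .negSucc 26376, .negSucc 44329, .negSucc 79078, .negSucc 194270,
  .negSucc 580007, .negSucc 519518, .negSucc 623699, .negSucc 656799, .negSucc 107821, .negSucc 825747,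
  .ofNat 216216, .negSucc 1390674, .ofNat 280280, .negSucc 1605824, .negSucc 2523520, .negSucc 1715999,
  .negSucc 1798015, .negSucc 1512874, .negSucc 448447, .negSucc 393821, .ofNat 120120, .negSucc 1114111,
  .negSucc 3997695, .negSucc 3569279, .negSucc 2602599, .negSucc 1114111, .negSucc 3997695, .negSucc 2393468,
  .negSucc 3773769, .ofNat 401544, .ofNat 4176900, .ofNat 2814669, .negSucc 604799, .negSucc 665599,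
  .negSucc 1299077, .ofNat 5111808, .ofNat 2038400, .negSucc 2650724, .ofNat 2539107, .ofNat 2783781,
  .ofNat 122850, .ofNat 60060, .negSucc 304149, .ofNat 266112, .ofNat 984150, .ofNat 1351350,
  .negSucc 5528249, .ofNat 3433, .negSucc 40831, .negSucc 127620, .ofNat 182533, .ofNat 205414,
  .negSucc 448447, .ofNat 715715, .ofNat 685685, .negSucc 2342911, .negSucc 1224495, .negSucc 3114474,
  .ofNat 4627700, .negSucc 184183, .ofNat 2873728, .negSucc 3528447, .ofNat 2342912, .negSucc 625624,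
  .ofNat 79]

/-- the values at the type 6 -/
def cY6 : List ℤ :=
  [.ofNat 0, .ofNat 0, .ofNat 0, .ofNat 0, .ofNat 0, .ofNat 0, .ofNat 0, .ofNat 0, .ofNat 0, .ofNat 0,
  .ofNat 0, .ofNat 0, .ofNat 0, .ofNat 0, .ofNat 0, .ofNat 0, .ofNat 0, .ofNat 0, .ofNat 0, .ofNat 0,
  .ofNat 0, .ofNat 0, .ofNat 0, .ofNat 0, .ofNat 0, .ofNat 0, .ofNat 0, .ofNat 0, .ofNat 0, .ofNat 0,
  .ofNat 0, .ofNat 0, .ofNat 0, .ofNat 0, .ofNat 0, .ofNat 0, .ofNat 0, .ofNat 0, .ofNat 0, .ofNat 0,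
  .ofNat 0, .ofNat 0, .ofNat 0, .ofNat 0, .ofNat 0, .ofNat 0, .ofNat 0, .ofNat 0, .ofNat 0, .ofNat 0,
  .ofNat 0, .ofNat 0, .ofNat 0, .ofNat 0, .ofNat 0, .ofNat 0, .ofNat 0, .ofNat 0, .ofNat 0, .ofNat 0,
  .ofNat 0, .ofNat 0, .ofNat 0, .ofNat 0, .ofNat 0, .ofNat 0, .ofNat 0]

/-- the values at the type 7 -/
def cY7 : List ℤ :=
  [.ofNat 432, .ofNat 702, .ofNat 4158, .ofNat 4914, .ofNat 7074, .ofNat 14742, .ofNat 26892, .ofNat 21546,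
  .ofNat 18954, .ofNat 33264, .ofNat 19656, .ofNat 31374, .ofNat 10206, .ofNat 8316, .ofNat 22626,
  .ofNat 39366, .ofNat 38178, .negSucc 4535, .ofNat 55944, .ofNat 26460, .ofNat 21924, .ofNat 39366,
  .negSucc 32885, .ofNat 60480, .ofNat 60480, .ofNat 34344, .negSucc 60479, .ofNat 12096, .ofNat 12096,
  .ofNat 0, .negSucc 16253, .ofNat 34020, .ofNat 51030, .ofNat 0, .ofNat 29160, .negSucc 8639, .ofNat 0,
  .ofNat 72576, .negSucc 52919, .negSucc 34019, .ofNat 0, .negSucc 40823, .ofNat 4860, .negSucc 9071,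
  .negSucc 15119, .ofNat 13608, .ofNat 0, .ofNat 29160, .ofNat 0, .negSucc 701, .ofNat 4968, .ofNat 8316,
  .negSucc 8315, .negSucc 11717, .ofNat 12420, .negSucc 21167, .negSucc 16631, .ofNat 50976, .negSucc 7559,
  .ofNat 26460, .ofNat 32130, .ofNat 10962, .ofNat 7560, .negSucc 48383, .ofNat 26784, .negSucc 66149,
  .negSucc 53]

/-- the values at the type 8 -/
def cY8 : List ℤ :=
  [.negSucc 215, .negSucc 350, .negSucc 2078, .negSucc 2456, .negSucc 3536, .negSucc 7370, .negSucc 13445,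
  .negSucc 10772, .negSucc 9476, .negSucc 16631, .negSucc 9827, .negSucc 15686, .negSucc 5102, .negSucc 4157,
  .negSucc 11312, .negSucc 19682, .negSucc 19088, .ofNat 2268, .negSucc 27971, .negSucc 13229,
  .negSucc 10961, .negSucc 19682, .ofNat 16443, .negSucc 30239, .negSucc 30239, .negSucc 17171, .ofNat 30240,
  .negSucc 6047, .negSucc 6047, .ofNat 0, .ofNat 8127, .negSucc 17009, .negSucc 25514, .ofNat 0,
  .negSucc 14579, .ofNat 4320, .ofNat 0, .negSucc 36287, .ofNat 26460, .ofNat 17010, .ofNat 0, .ofNat 20412,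
  .negSucc 2429, .ofNat 4536, .ofNat 7560, .negSucc 6803, .ofNat 0, .negSucc 14579, .ofNat 0, .ofNat 351,
  .negSucc 2483, .negSucc 4157, .ofNat 4158, .ofNat 5859, .negSucc 6209, .ofNat 10584, .ofNat 8316,
  .negSucc 25487, .ofNat 3780, .negSucc 13229, .negSucc 16064, .negSucc 5480, .negSucc 3779, .ofNat 24192,
  .negSucc 13391, .ofNat 33075, .ofNat 27]

/-- the values at the type 9 -/
def cY9 : List ℤ :=
  [.ofNat 0, .ofNat 0, .ofNat 0, .ofNat 0, .ofNat 0, .ofNat 0, .ofNat 0, .ofNat 0, .ofNat 0, .ofNat 0,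
  .ofNat 0, .ofNat 0, .ofNat 0, .ofNat 0, .ofNat 0, .ofNat 0, .ofNat 0, .ofNat 0, .ofNat 0, .ofNat 0,
  .ofNat 0, .ofNat 0, .ofNat 0, .ofNat 0, .ofNat 0, .ofNat 0, .ofNat 0, .ofNat 0, .ofNat 0, .ofNat 0,
  .ofNat 0, .ofNat 0, .ofNat 0, .ofNat 0, .ofNat 0, .ofNat 0, .ofNat 0, .ofNat 0, .ofNat 0, .ofNat 0,
  .ofNat 0, .ofNat 0, .ofNat 0, .ofNat 0, .ofNat 0, .ofNat 0, .ofNat 0, .ofNat 0, .ofNat 0, .ofNat 0,
  .ofNat 0, .ofNat 0, .ofNat 0, .ofNat 0, .ofNat 0, .ofNat 0, .ofNat 0, .ofNat 0, .ofNat 0, .ofNat 0,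
  .ofNat 0, .ofNat 0, .ofNat 0, .ofNat 0, .ofNat 0, .ofNat 0, .ofNat 0]

/-- the values at the type 10 -/
def cY10 : List ℤ :=
  [.negSucc 593, .ofNat 2862, .negSucc 7721, .ofNat 27324, .negSucc 23759, .negSucc 30293, .negSucc 137213,
  .negSucc 51677, .ofNat 112266, .negSucc 158003, .ofNat 269676, .ofNat 323730, .ofNat 64152, .ofNat 241164,
  .ofNat 275616, .negSucc 433025, .negSucc 355211, .negSucc 146123, .negSucc 4751, .ofNat 767340,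
  .ofNat 743688, .ofNat 433026, .negSucc 121175, .negSucc 532223, .negSucc 532223, .negSucc 584495,
  .ofNat 163350, .ofNat 490752, .ofNat 490752, .ofNat 433026, .negSucc 953963, .ofNat 614790, .ofNat 342630,
  .ofNat 0, .negSucc 379079, .negSucc 367199, .ofNat 0, .negSucc 41471, .ofNat 914760, .ofNat 347490,
  .ofNat 0, .negSucc 497177, .ofNat 9720, .negSucc 3563, .negSucc 59399, .negSucc 42767, .ofNat 0,
  .negSucc 160379, .ofNat 1180980, .negSucc 2861, .ofNat 33264, .ofNat 90990, .negSucc 90989, .negSucc 54053,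
  .ofNat 211464, .negSucc 355805, .negSucc 354023, .negSucc 38015, .ofNat 585576, .ofNat 767340,
  .ofNat 567270, .negSucc 622511, .ofNat 61776, .ofNat 66528, .negSucc 646271, .negSucc 219779, .negSucc 107]

/-- the values at the type 11 -/
def cY11 : List ℤ :=
  [.ofNat 297, .negSucc 1430, .ofNat 3861, .negSucc 13661, .ofNat 11880, .ofNat 15147, .ofNat 68607,
  .ofNat 25839, .negSucc 56132, .ofNat 79002, .negSucc 134837, .negSucc 161864, .negSucc 32075,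
  .negSucc 120581, .negSucc 137807, .ofNat 216513, .ofNat 177606, .ofNat 73062, .ofNat 2376, .negSucc 383669,
  .negSucc 371843, .negSucc 216512, .ofNat 60588, .ofNat 266112, .ofNat 266112, .ofNat 292248,
  .negSucc 81674, .negSucc 245375, .negSucc 245375, .negSucc 216512, .ofNat 476982, .negSucc 307394,
  .negSucc 171314, .ofNat 0, .ofNat 189540, .ofNat 183600, .ofNat 0, .ofNat 20736, .negSucc 457379,
  .negSucc 173744, .ofNat 0, .ofNat 248589, .negSucc 4859, .ofNat 1782, .ofNat 29700, .ofNat 21384, .ofNat 0,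
  .ofNat 80190, .negSucc 590489, .ofNat 1431, .negSucc 16631, .negSucc 45494, .ofNat 45495, .ofNat 27027,
  .negSucc 105731, .ofNat 177903, .ofNat 177012, .ofNat 19008, .negSucc 292787, .negSucc 383669,
  .negSucc 283634, .ofNat 311256, .negSucc 30887, .negSucc 33263, .ofNat 323136, .ofNat 109890, .ofNat 54]

/-- the values at the type 12 -/
def cY12 : List ℤ :=
  [.ofNat 0, .ofNat 0, .ofNat 0, .ofNat 0, .ofNat 0, .ofNat 0, .ofNat 0, .ofNat 0, .ofNat 0, .ofNat 0,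
  .ofNat 0, .ofNat 0, .ofNat 0, .ofNat 0, .ofNat 0, .ofNat 0, .ofNat 0, .ofNat 0, .ofNat 0, .ofNat 0,
  .ofNat 0, .ofNat 0, .ofNat 0, .ofNat 0, .ofNat 0, .ofNat 0, .ofNat 0, .ofNat 0, .ofNat 0, .ofNat 0,
  .ofNat 0, .ofNat 0, .ofNat 0, .ofNat 0, .ofNat 0, .ofNat 0, .ofNat 0, .ofNat 0, .ofNat 0, .ofNat 0,
  .ofNat 0, .ofNat 0, .ofNat 0, .ofNat 0, .ofNat 0, .ofNat 0, .ofNat 0, .ofNat 0, .ofNat 0, .ofNat 0,
  .ofNat 0, .ofNat 0, .ofNat 0, .ofNat 0, .ofNat 0, .ofNat 0, .ofNat 0, .ofNat 0, .ofNat 0, .ofNat 0,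
  .ofNat 0, .ofNat 0, .ofNat 0, .ofNat 0, .ofNat 0, .ofNat 0, .ofNat 0]

/-- the values at the type 13 -/
def cY13 : List ℤ :=
  [.ofNat 16, .negSucc 13, .negSucc 13, .negSucc 11, .negSucc 17, .negSucc 33, .ofNat 80, .negSucc 65,
  .ofNat 168, .ofNat 64, .ofNat 60, .negSucc 151, .negSucc 111, .ofNat 166, .negSucc 239, .negSucc 125,
  .negSucc 29, .negSucc 191, .ofNat 0, .ofNat 214, .ofNat 128, .ofNat 156, .ofNat 80, .ofNat 0, .ofNat 0,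
  .ofNat 0, .ofNat 336, .ofNat 0, .ofNat 0, .ofNat 186, .ofNat 308, .negSucc 15, .ofNat 184, .ofNat 198,
  .negSucc 255, .ofNat 0, .ofNat 108, .ofNat 0, .negSucc 255, .ofNat 74, .ofNat 90, .negSucc 73, .negSucc 3,
  .ofNat 264, .negSucc 83, .ofNat 256, .ofNat 468, .negSucc 363, .negSucc 203, .negSucc 17, .ofNat 0,
  .ofNat 42, .ofNat 22, .negSucc 43, .ofNat 128, .ofNat 90, .negSucc 41, .ofNat 0, .negSucc 31, .negSucc 201,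
  .ofNat 152, .ofNat 48, .ofNat 0, .ofNat 0, .ofNat 0, .negSucc 141, .ofNat 2]

/-- the values at the type 14 -/
def cY14 : List ℤ :=
  [.negSucc 7, .ofNat 7, .ofNat 7, .ofNat 6, .ofNat 9, .ofNat 17, .negSucc 39, .ofNat 33, .negSucc 83,
  .negSucc 31, .negSucc 29, .ofNat 76, .ofNat 56, .negSucc 82, .ofNat 120, .ofNat 63, .ofNat 15, .ofNat 96,
  .ofNat 0, .negSucc 106, .negSucc 63, .negSucc 77, .negSucc 39, .ofNat 0, .ofNat 0, .ofNat 0, .negSucc 167,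
  .ofNat 0, .ofNat 0, .negSucc 92, .negSucc 153, .ofNat 8, .negSucc 91, .negSucc 98, .ofNat 128, .ofNat 0,
  .negSucc 53, .ofNat 0, .ofNat 128, .negSucc 36, .negSucc 44, .ofNat 37, .ofNat 2, .negSucc 131, .ofNat 42,
  .negSucc 127, .negSucc 233, .ofNat 182, .ofNat 102, .ofNat 9, .ofNat 0, .negSucc 20, .negSucc 10,
  .ofNat 22, .negSucc 63, .negSucc 44, .ofNat 21, .ofNat 0, .ofNat 16, .ofNat 101, .negSucc 75, .negSucc 23,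
  .ofNat 0, .ofNat 0, .ofNat 0, .ofNat 71, .negSucc 0]

/-- the values at the type 15 -/
def cY15 : List ℤ :=
  [.ofNat 16, .negSucc 29, .negSucc 29, .ofNat 68, .ofNat 126, .ofNat 238, .ofNat 336, .negSucc 545,
  .ofNat 840, .negSucc 319, .ofNat 12, .ofNat 616, .negSucc 335, .ofNat 870, .ofNat 112, .negSucc 29,
  .ofNat 210, .ofNat 320, .negSucc 127, .negSucc 489, .negSucc 895, .ofNat 588, .negSucc 1231, .negSucc 1023,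
  .ofNat 1024, .ofNat 128, .negSucc 559, .ofNat 1024, .negSucc 1023, .ofNat 1146, .negSucc 1147, .ofNat 240,
  .negSucc 839, .negSucc 809, .ofNat 0, .ofNat 0, .negSucc 323, .ofNat 0, .ofNat 0, .negSucc 629, .ofNat 810,
  .ofNat 630, .negSucc 419, .ofNat 616, .negSucc 979, .ofNat 0, .ofNat 1620, .negSucc 1259, .negSucc 1259,
  .negSucc 113, .ofNat 128, .negSucc 389, .negSucc 473, .ofNat 292, .ofNat 896, .ofNat 714, .ofNat 406,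
  .ofNat 0, .ofNat 224, .ofNat 70, .negSucc 839, .negSucc 1007, .negSucc 127, .ofNat 0, .ofNat 0, .ofNat 210,
  .negSucc 13]

/-- the values at the type 16 -/
def cY16 : List ℤ :=
  [.negSucc 7, .ofNat 15, .ofNat 15, .negSucc 33, .negSucc 62, .negSucc 118, .negSucc 167, .ofNat 273,
  .negSucc 419, .ofNat 160, .negSucc 5, .negSucc 307, .ofNat 168, .negSucc 434, .negSucc 55, .ofNat 15,
  .negSucc 104, .negSucc 159, .ofNat 64, .ofNat 245, .ofNat 448, .negSucc 293, .ofNat 616, .ofNat 512,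
  .negSucc 511, .negSucc 63, .ofNat 280, .negSucc 511, .ofNat 512, .negSucc 572, .ofNat 574, .negSucc 119,
  .ofNat 420, .ofNat 405, .ofNat 0, .ofNat 0, .ofNat 162, .ofNat 0, .ofNat 0, .ofNat 315, .negSucc 404,
  .negSucc 314, .ofNat 210, .negSucc 307, .ofNat 490, .ofNat 0, .negSucc 809, .ofNat 630, .ofNat 630,
  .ofNat 57, .negSucc 63, .ofNat 195, .ofNat 237, .negSucc 145, .negSucc 447, .negSucc 356, .negSucc 202,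
  .ofNat 0, .negSucc 111, .negSucc 34, .ofNat 420, .ofNat 504, .ofNat 64, .ofNat 0, .ofNat 0, .negSucc 104,
  .ofNat 7]

/-- the values at the type 17 -/
def cY17 : List ℤ :=
  [.ofNat 144, .ofNat 210, .ofNat 786, .ofNat 852, .ofNat 1230, .ofNat 1470, .ofNat 2640, .ofNat 1854,
  .ofNat 1320, .ofNat 2880, .ofNat 732, .ofNat 936, .negSucc 47, .negSucc 89, .negSucc 431, .ofNat 3330,
  .ofNat 3330, .negSucc 959, .ofNat 768, .ofNat 1110, .ofNat 384, .negSucc 2627, .ofNat 912, .ofNat 0,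
  .ofNat 0, .negSucc 767, .ofNat 720, .ofNat 0, .ofNat 0, .negSucc 1925, .ofNat 1428, .negSucc 2063,
  .ofNat 120, .ofNat 486, .negSucc 3839, .ofNat 0, .negSucc 4211, .ofNat 0, .ofNat 3840, .negSucc 1589,
  .ofNat 2106, .ofNat 1974, .ofNat 60, .ofNat 456, .ofNat 300, .negSucc 767, .ofNat 1620, .ofNat 660,
  .negSucc 2699, .negSucc 209, .ofNat 768, .ofNat 1290, .negSucc 1289, .negSucc 971, .ofNat 384,
  .negSucc 1925, .negSucc 2153, .ofNat 0, .ofNat 2400, .ofNat 1110, .negSucc 359, .negSucc 527, .negSucc 767,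
  .ofNat 1536, .ofNat 0, .ofNat 690, .negSucc 29]

/-- the values at the type 18 -/
def cY18 : List ℤ :=
  [.negSucc 71, .negSucc 104, .negSucc 392, .negSucc 425, .negSucc 614, .negSucc 734, .negSucc 1319,
  .negSucc 926, .negSucc 659, .negSucc 1439, .negSucc 365, .negSucc 467, .ofNat 24, .ofNat 45, .ofNat 216,
  .negSucc 1664, .negSucc 1664, .ofNat 480, .negSucc 383, .negSucc 554, .negSucc 191, .ofNat 1314,
  .negSucc 455, .ofNat 0, .ofNat 0, .ofNat 384, .negSucc 359, .ofNat 0, .ofNat 0, .ofNat 963, .negSucc 713,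
  .ofNat 1032, .negSucc 59, .negSucc 242, .ofNat 1920, .ofNat 0, .ofNat 2106, .ofNat 0, .negSucc 1919,
  .ofNat 795, .negSucc 1052, .negSucc 986, .negSucc 29, .negSucc 227, .negSucc 149, .ofNat 384, .negSucc 809,
  .negSucc 329, .ofNat 1350, .ofNat 105, .negSucc 383, .negSucc 644, .ofNat 645, .ofNat 486, .negSucc 191,
  .ofNat 963, .ofNat 1077, .ofNat 0, .negSucc 1199, .negSucc 554, .ofNat 180, .ofNat 264, .ofNat 384,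
  .negSucc 767, .ofNat 0, .negSucc 344, .ofNat 15]

/-- the values at the type 19 -/
def cY19 : List ℤ :=
  [.ofNat 68, .ofNat 56, .ofNat 268, .ofNat 210, .ofNat 208, .ofNat 392, .ofNat 392, .ofNat 308, .ofNat 240,
  .ofNat 240, .negSucc 165, .ofNat 252, .negSucc 221, .negSucc 239, .negSucc 209, .negSucc 239, .negSucc 55,
  .ofNat 240, .ofNat 502, .ofNat 0, .negSucc 307, .ofNat 114, .ofNat 210, .negSucc 335, .negSucc 335,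
  .ofNat 210, .ofNat 0, .negSucc 15, .negSucc 15, .negSucc 11, .negSucc 209, .ofNat 324, .ofNat 0,
  .ofNat 324, .ofNat 0, .ofNat 0, .ofNat 486, .negSucc 351, .ofNat 0, .ofNat 0, .negSucc 323, .ofNat 588,
  .ofNat 0, .ofNat 140, .ofNat 0, .negSucc 167, .ofNat 0, .ofNat 0, .ofNat 0, .negSucc 55, .ofNat 94,
  .ofNat 72, .negSucc 71, .negSucc 417, .ofNat 12, .negSucc 139, .ofNat 140, .ofNat 408, .negSucc 335,
  .ofNat 0, .ofNat 0, .ofNat 98, .ofNat 474, .negSucc 27, .negSucc 263, .ofNat 0, .negSucc 15]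

/-- the values at the type 20 -/
def cY20 : List ℤ :=
  [.negSucc 33, .negSucc 27, .negSucc 133, .negSucc 104, .negSucc 103, .negSucc 195, .negSucc 195,
  .negSucc 153, .negSucc 119, .negSucc 119, .ofNat 83, .negSucc 125, .ofNat 111, .ofNat 120, .ofNat 105,
  .ofNat 120, .ofNat 28, .negSucc 119, .negSucc 250, .ofNat 0, .ofNat 154, .negSucc 56, .negSucc 104,
  .ofNat 168, .ofNat 168, .negSucc 104, .ofNat 0, .ofNat 8, .ofNat 8, .ofNat 6, .ofNat 105, .negSucc 161,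
  .ofNat 0, .negSucc 161, .ofNat 0, .ofNat 0, .negSucc 242, .ofNat 176, .ofNat 0, .ofNat 0, .ofNat 162,
  .negSucc 293, .ofNat 0, .negSucc 69, .ofNat 0, .ofNat 84, .ofNat 0, .ofNat 0, .ofNat 0, .ofNat 28,
  .negSucc 46, .negSucc 35, .ofNat 36, .ofNat 209, .negSucc 5, .ofNat 70, .negSucc 69, .negSucc 203,
  .ofNat 168, .ofNat 0, .ofNat 0, .negSucc 48, .negSucc 236, .ofNat 14, .ofNat 132, .ofNat 0, .ofNat 8]

/-- the values at the type 21 -/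
def cY21 : List ℤ :=
  [.ofNat 4, .ofNat 4, .negSucc 3, .negSucc 7, .negSucc 7, .ofNat 12, .negSucc 11, .ofNat 24, .ofNat 0,
  .negSucc 3, .negSucc 31, .ofNat 68, .ofNat 108, .negSucc 27, .negSucc 39, .ofNat 0, .ofNat 40, .negSucc 23,
  .ofNat 64, .ofNat 76, .negSucc 43, .ofNat 0, .ofNat 60, .negSucc 31, .negSucc 63, .negSucc 23, .ofNat 32,
  .negSucc 31, .negSucc 63, .ofNat 0, .ofNat 68, .ofNat 108, .negSucc 107, .ofNat 0, .ofNat 108, .negSucc 7,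
  .ofNat 0, .ofNat 96, .ofNat 92, .ofNat 0, .ofNat 0, .negSucc 107, .ofNat 216, .ofNat 192, .negSucc 63,
  .negSucc 215, .ofNat 0, .negSucc 215, .ofNat 0, .negSucc 7, .ofNat 16, .negSucc 15, .ofNat 28, .ofNat 4,
  .negSucc 43, .ofNat 56, .negSucc 39, .negSucc 79, .ofNat 92, .negSucc 3, .negSucc 123, .ofNat 88,
  .ofNat 88, .negSucc 39, .ofNat 80, .negSucc 91, .ofNat 4]

/-- the values at the type 22 -/
def cY22 : List ℤ :=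
  [.negSucc 1, .negSucc 1, .ofNat 2, .ofNat 4, .ofNat 4, .negSucc 5, .ofNat 6, .negSucc 11, .ofNat 0,
  .ofNat 2, .ofNat 16, .negSucc 33, .negSucc 53, .ofNat 14, .ofNat 20, .ofNat 0, .negSucc 19, .ofNat 12,
  .negSucc 31, .negSucc 37, .ofNat 22, .ofNat 0, .negSucc 29, .ofNat 16, .ofNat 32, .ofNat 12, .negSucc 15,
  .ofNat 16, .ofNat 32, .ofNat 0, .negSucc 33, .negSucc 53, .ofNat 54, .ofNat 0, .negSucc 53, .ofNat 4,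
  .ofNat 0, .negSucc 47, .negSucc 45, .ofNat 0, .ofNat 0, .ofNat 54, .negSucc 107, .negSucc 95, .ofNat 32,
  .ofNat 108, .ofNat 0, .ofNat 108, .ofNat 0, .ofNat 4, .negSucc 7, .ofNat 8, .negSucc 13, .negSucc 1,
  .ofNat 22, .negSucc 27, .ofNat 20, .ofNat 40, .negSucc 45, .ofNat 2, .ofNat 62, .negSucc 43, .negSucc 43,
  .ofNat 20, .negSucc 39, .ofNat 46, .negSucc 1]

/-- the values at the type 23 -/
def cY23 : List ℤ :=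
  [.ofNat 0, .ofNat 0, .ofNat 0, .ofNat 0, .ofNat 0, .ofNat 0, .ofNat 0, .ofNat 0, .ofNat 0, .ofNat 0,
  .ofNat 0, .ofNat 0, .ofNat 0, .ofNat 0, .ofNat 0, .ofNat 0, .ofNat 0, .ofNat 0, .ofNat 0, .ofNat 0,
  .ofNat 0, .ofNat 0, .ofNat 0, .ofNat 0, .ofNat 0, .ofNat 0, .ofNat 0, .ofNat 0, .ofNat 0, .ofNat 0,
  .ofNat 0, .ofNat 0, .ofNat 0, .ofNat 0, .ofNat 0, .ofNat 0, .ofNat 0, .ofNat 0, .ofNat 0, .ofNat 0,
  .ofNat 0, .ofNat 0, .ofNat 0, .ofNat 0, .ofNat 0, .ofNat 0, .ofNat 0, .ofNat 0, .ofNat 0, .ofNat 0,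
  .ofNat 0, .ofNat 0, .ofNat 0, .ofNat 0, .ofNat 0, .ofNat 0, .ofNat 0, .ofNat 0, .ofNat 0, .ofNat 0,
  .ofNat 0, .ofNat 0, .ofNat 0, .ofNat 0, .ofNat 0, .ofNat 0, .ofNat 0]

/-- the values at the type 24 -/
def cY24 : List ℤ :=
  [.negSucc 17, .negSucc 17, .negSucc 53, .negSucc 35, .negSucc 35, .negSucc 53, .negSucc 17, .negSucc 35,
  .ofNat 0, .negSucc 53, .ofNat 0, .negSucc 17, .negSucc 53, .negSucc 17, .negSucc 35, .ofNat 0, .ofNat 36,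
  .ofNat 36, .ofNat 0, .ofNat 18, .negSucc 17, .ofNat 0, .ofNat 18, .ofNat 0, .ofNat 0, .ofNat 36, .ofNat 0,
  .ofNat 0, .ofNat 0, .ofNat 0, .ofNat 54, .ofNat 90, .ofNat 54, .ofNat 0, .negSucc 53, .negSucc 35,
  .ofNat 0, .ofNat 0, .ofNat 18, .negSucc 71, .ofNat 0, .ofNat 54, .ofNat 36, .ofNat 0, .ofNat 0,
  .negSucc 35, .ofNat 0, .ofNat 108, .ofNat 0, .ofNat 12, .negSucc 23, .negSucc 23, .negSucc 5, .ofNat 30,
  .ofNat 30, .ofNat 12, .ofNat 12, .negSucc 23, .negSucc 5, .ofNat 66, .negSucc 41, .ofNat 12, .ofNat 12,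
  .ofNat 12, .negSucc 23, .negSucc 41, .ofNat 6]

/-- the values at the type 25 -/
def cY25 : List ℤ :=
  [.ofNat 36, .ofNat 36, .ofNat 108, .ofNat 72, .ofNat 72, .ofNat 108, .ofNat 36, .ofNat 72, .ofNat 0,
  .ofNat 108, .ofNat 0, .ofNat 36, .ofNat 108, .ofNat 36, .ofNat 72, .ofNat 0, .negSucc 71, .negSucc 71,
  .ofNat 0, .negSucc 35, .ofNat 36, .ofNat 0, .negSucc 35, .ofNat 0, .ofNat 0, .negSucc 71, .ofNat 0,
  .ofNat 0, .ofNat 0, .ofNat 0, .negSucc 107, .negSucc 179, .negSucc 107, .ofNat 0, .ofNat 108, .ofNat 72,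
  .ofNat 0, .ofNat 0, .negSucc 35, .ofNat 144, .ofNat 0, .negSucc 107, .negSucc 71, .ofNat 0, .ofNat 0,
  .ofNat 72, .ofNat 0, .negSucc 215, .ofNat 0, .negSucc 23, .ofNat 48, .ofNat 48, .ofNat 12, .negSucc 59,
  .negSucc 59, .negSucc 23, .negSucc 23, .ofNat 48, .ofNat 12, .negSucc 131, .ofNat 84, .negSucc 23,
  .negSucc 23, .negSucc 23, .ofNat 48, .ofNat 84, .negSucc 11]

/-- the values at the type 26 -/
def cY26 : List ℤ :=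
  [.ofNat 0, .negSucc 17, .negSucc 17, .ofNat 18, .ofNat 18, .ofNat 54, .negSucc 35, .negSucc 53, .ofNat 90,
  .ofNat 0, .negSucc 71, .negSucc 17, .negSucc 17, .negSucc 35, .ofNat 18, .ofNat 54, .ofNat 18, .negSucc 71,
  .negSucc 71, .negSucc 35, .ofNat 36, .ofNat 54, .ofNat 90, .ofNat 0, .ofNat 0, .negSucc 71, .ofNat 0,
  .ofNat 0, .ofNat 0, .ofNat 0, .ofNat 18, .ofNat 36, .negSucc 89, .ofNat 0, .ofNat 72, .ofNat 0, .ofNat 0,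
  .ofNat 0, .ofNat 72, .ofNat 108, .ofNat 0, .ofNat 72, .negSucc 35, .negSucc 143, .ofNat 144, .ofNat 72,
  .ofNat 0, .ofNat 72, .ofNat 0, .negSucc 29, .ofNat 24, .negSucc 83, .negSucc 11, .ofNat 42, .ofNat 132,
  .negSucc 47, .ofNat 24, .ofNat 96, .ofNat 24, .negSucc 83, .negSucc 29, .negSucc 29, .ofNat 24, .ofNat 96,
  .ofNat 96, .negSucc 245, .negSucc 5]

/-- the values at the type 27 -/
def cY27 : List ℤ :=
  [.ofNat 0, .ofNat 9, .ofNat 9, .negSucc 8, .negSucc 8, .negSucc 26, .ofNat 18, .ofNat 27, .negSucc 44,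
  .ofNat 0, .ofNat 36, .ofNat 9, .ofNat 9, .ofNat 18, .negSucc 8, .negSucc 26, .negSucc 8, .ofNat 36,
  .ofNat 36, .ofNat 18, .negSucc 17, .negSucc 26, .negSucc 44, .ofNat 0, .ofNat 0, .ofNat 36, .ofNat 0,
  .ofNat 0, .ofNat 0, .ofNat 0, .negSucc 8, .negSucc 17, .ofNat 45, .ofNat 0, .negSucc 35, .ofNat 0,
  .ofNat 0, .ofNat 0, .negSucc 35, .negSucc 53, .ofNat 0, .negSucc 35, .ofNat 18, .ofNat 72, .negSucc 71,
  .negSucc 35, .ofNat 0, .negSucc 35, .ofNat 0, .ofNat 15, .negSucc 11, .ofNat 42, .ofNat 6, .negSucc 20,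
  .negSucc 65, .ofNat 24, .negSucc 11, .negSucc 47, .negSucc 11, .ofNat 42, .ofNat 15, .ofNat 15,
  .negSucc 11, .negSucc 47, .negSucc 47, .ofNat 123, .ofNat 3]

/-- the values at the type 28 -/
def cY28 : List ℤ :=
  [.ofNat 0, .ofNat 0, .ofNat 0, .ofNat 0, .ofNat 0, .ofNat 0, .ofNat 0, .ofNat 0, .ofNat 0, .ofNat 0,
  .ofNat 0, .ofNat 0, .ofNat 0, .ofNat 0, .ofNat 0, .ofNat 0, .ofNat 0, .ofNat 0, .ofNat 0, .ofNat 0,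
  .ofNat 0, .ofNat 0, .ofNat 0, .ofNat 0, .ofNat 0, .ofNat 0, .ofNat 0, .ofNat 0, .ofNat 0, .ofNat 0,
  .ofNat 0, .ofNat 0, .ofNat 0, .ofNat 0, .ofNat 0, .ofNat 0, .ofNat 0, .ofNat 0, .ofNat 0, .ofNat 0,
  .ofNat 0, .ofNat 0, .ofNat 0, .ofNat 0, .ofNat 0, .ofNat 0, .ofNat 0, .ofNat 0, .ofNat 0, .ofNat 0,
  .ofNat 0, .ofNat 0, .ofNat 0, .ofNat 0, .ofNat 0, .ofNat 0, .ofNat 0, .ofNat 0, .ofNat 0, .ofNat 0,
  .ofNat 0, .ofNat 0, .ofNat 0, .ofNat 0, .ofNat 0, .ofNat 0, .ofNat 0]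

/-- the values at the type 29 -/
def cY29 : List ℤ :=
  [.negSucc 49, .negSucc 49, .negSucc 57, .negSucc 115, .ofNat 208, .negSucc 581, .ofNat 258, .ofNat 1266,
  .ofNat 810, .negSucc 867, .negSucc 787, .negSucc 93, .ofNat 1080, .negSucc 675, .ofNat 608, .ofNat 1134,
  .negSucc 715, .ofNat 516, .negSucc 367, .ofNat 76, .ofNat 712, .negSucc 1133, .ofNat 168, .negSucc 895,
  .ofNat 1664, .negSucc 1103, .ofNat 950, .negSucc 895, .ofNat 1664, .negSucc 1133, .negSucc 1659,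
  .ofNat 2214, .ofNat 54, .ofNat 0, .negSucc 1511, .ofNat 1504, .ofNat 0, .negSucc 767, .negSucc 1527,
  .ofNat 162, .ofNat 0, .ofNat 54, .ofNat 216, .ofNat 84, .ofNat 152, .ofNat 432, .ofNat 0, .negSucc 539,
  .negSucc 971, .negSucc 61, .ofNat 16, .ofNat 254, .ofNat 82, .ofNat 490, .ofNat 712, .ofNat 2, .negSucc 39,
  .negSucc 511, .ofNat 200, .negSucc 435, .negSucc 825, .ofNat 304, .ofNat 304, .negSucc 1119, .ofNat 512,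
  .ofNat 124, .ofNat 4]

/-- the values at the type 30 -/
def cY30 : List ℤ :=
  [.ofNat 25, .ofNat 25, .ofNat 29, .ofNat 58, .negSucc 103, .ofNat 291, .negSucc 128, .negSucc 632,
  .negSucc 404, .ofNat 434, .ofNat 394, .ofNat 47, .negSucc 539, .ofNat 338, .negSucc 303, .negSucc 566,
  .ofNat 358, .negSucc 257, .ofNat 184, .negSucc 37, .negSucc 355, .ofNat 567, .negSucc 83, .ofNat 448,
  .negSucc 831, .ofNat 552, .negSucc 474, .ofNat 448, .negSucc 831, .ofNat 567, .ofNat 830, .negSucc 1106,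
  .negSucc 26, .ofNat 0, .ofNat 756, .negSucc 751, .ofNat 0, .ofNat 384, .ofNat 764, .negSucc 80, .ofNat 0,
  .negSucc 26, .negSucc 107, .negSucc 41, .negSucc 75, .negSucc 215, .ofNat 0, .ofNat 270, .ofNat 486,
  .ofNat 31, .negSucc 7, .negSucc 126, .negSucc 40, .negSucc 244, .negSucc 355, .negSucc 0, .ofNat 20,
  .ofNat 256, .negSucc 99, .ofNat 218, .ofNat 413, .negSucc 151, .negSucc 151, .ofNat 560, .negSucc 255,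
  .negSucc 61, .negSucc 1]

/-- the values at the type 31 -/
def cY31 : List ℤ :=
  [.ofNat 40, .ofNat 22, .ofNat 86, .ofNat 82, .ofNat 154, .ofNat 102, .ofNat 276, .ofNat 42, .ofNat 162,
  .negSucc 183, .negSucc 175, .negSucc 129, .ofNat 54, .ofNat 476, .negSucc 21, .negSucc 161, .ofNat 490,
  .ofNat 336, .negSucc 367, .negSucc 211, .negSucc 43, .negSucc 161, .negSucc 29, .negSucc 319, .negSucc 63,
  .negSucc 95, .ofNat 320, .negSucc 319, .negSucc 63, .ofNat 0, .negSucc 21, .negSucc 107, .ofNat 270,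
  .ofNat 0, .ofNat 216, .negSucc 223, .ofNat 0, .ofNat 384, .negSucc 87, .ofNat 324, .ofNat 0, .negSucc 215,
  .ofNat 108, .negSucc 95, .ofNat 224, .ofNat 216, .ofNat 0, .ofNat 216, .ofNat 0, .negSucc 61, .ofNat 16,
  .ofNat 20, .negSucc 259, .negSucc 13, .negSucc 43, .negSucc 15, .ofNat 32, .ofNat 64, .negSucc 87,
  .ofNat 356, .negSucc 141, .ofNat 106, .ofNat 160, .negSucc 111, .negSucc 63, .ofNat 34, .negSucc 13]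

/-- the values at the type 32 -/
def cY32 : List ℤ :=
  [.negSucc 19, .negSucc 10, .negSucc 42, .negSucc 40, .negSucc 76, .negSucc 50, .negSucc 137, .negSucc 20,
  .negSucc 80, .ofNat 92, .ofNat 88, .ofNat 65, .negSucc 26, .negSucc 237, .ofNat 11, .ofNat 81,
  .negSucc 244, .negSucc 167, .ofNat 184, .ofNat 106, .ofNat 22, .ofNat 81, .ofNat 15, .ofNat 160, .ofNat 32,
  .ofNat 48, .negSucc 159, .ofNat 160, .ofNat 32, .ofNat 0, .ofNat 11, .ofNat 54, .negSucc 134, .ofNat 0,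
  .negSucc 107, .ofNat 112, .ofNat 0, .negSucc 191, .ofNat 44, .negSucc 161, .ofNat 0, .ofNat 108,
  .negSucc 53, .ofNat 48, .negSucc 111, .negSucc 107, .ofNat 0, .negSucc 107, .ofNat 0, .ofNat 31,
  .negSucc 7, .negSucc 9, .ofNat 130, .ofNat 7, .ofNat 22, .ofNat 8, .negSucc 15, .negSucc 31, .ofNat 44,
  .negSucc 177, .ofNat 71, .negSucc 52, .negSucc 79, .ofNat 56, .ofNat 32, .negSucc 16, .ofNat 7]

/-- the values at the type 33 -/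
def cY33 : List ℤ :=
  [.negSucc 17, .negSucc 17, .ofNat 54, .negSucc 35, .negSucc 143, .negSucc 53, .negSucc 125, .ofNat 450,
  .negSucc 53, .ofNat 108, .ofNat 108, .ofNat 306, .ofNat 216, .ofNat 684, .ofNat 288, .negSucc 161,
  .negSucc 395, .ofNat 468, .ofNat 432, .negSucc 467, .negSucc 503, .ofNat 162, .ofNat 936, .ofNat 0,
  .ofNat 0, .ofNat 144, .negSucc 809, .ofNat 0, .ofNat 0, .ofNat 162, .ofNat 756, .ofNat 198, .negSucc 377,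
  .ofNat 0, .negSucc 647, .ofNat 288, .ofNat 0, .ofNat 0, .ofNat 72, .ofNat 738, .ofNat 0, .negSucc 377,
  .negSucc 71, .negSucc 107, .ofNat 1080, .negSucc 143, .ofNat 0, .ofNat 324, .negSucc 971, .negSucc 77,
  .ofNat 48, .negSucc 113, .negSucc 365, .negSucc 5, .ofNat 264, .ofNat 354, .ofNat 408, .negSucc 383,
  .ofNat 552, .ofNat 300, .ofNat 678, .negSucc 239, .negSucc 239, .negSucc 671, .negSucc 383, .negSucc 131,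
  .negSucc 11]

/-- the values at the type 34 -/
def cY34 : List ℤ :=
  [.ofNat 9, .ofNat 9, .negSucc 26, .ofNat 18, .ofNat 72, .ofNat 27, .ofNat 63, .negSucc 224, .ofNat 27,
  .negSucc 53, .negSucc 53, .negSucc 152, .negSucc 107, .negSucc 341, .negSucc 143, .ofNat 81, .ofNat 198,
  .negSucc 233, .negSucc 215, .ofNat 234, .ofNat 252, .negSucc 80, .negSucc 467, .ofNat 0, .ofNat 0,
  .negSucc 71, .ofNat 405, .ofNat 0, .ofNat 0, .negSucc 80, .negSucc 377, .negSucc 98, .ofNat 189, .ofNat 0,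
  .ofNat 324, .negSucc 143, .ofNat 0, .ofNat 0, .negSucc 35, .negSucc 368, .ofNat 0, .ofNat 189, .ofNat 36,
  .ofNat 54, .negSucc 539, .ofNat 72, .ofNat 0, .negSucc 161, .ofNat 486, .ofNat 39, .negSucc 23, .ofNat 57,
  .ofNat 183, .ofNat 3, .negSucc 131, .negSucc 176, .negSucc 203, .ofNat 192, .negSucc 275, .negSucc 149,
  .negSucc 338, .ofNat 120, .ofNat 120, .ofNat 336, .ofNat 192, .ofNat 66, .ofNat 6]

/-- the values at the type 35 -/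
def cY35 : List ℤ :=
  [.negSucc 71, .ofNat 198, .negSucc 377, .ofNat 882, .negSucc 629, .negSucc 377, .negSucc 1691,
  .negSucc 629, .ofNat 1458, .negSucc 1511, .ofNat 0, .ofNat 2142, .negSucc 377, .ofNat 252, .negSucc 1061,
  .negSucc 1457, .negSucc 1637, .negSucc 1151, .ofNat 0, .ofNat 1260, .negSucc 1259, .negSucc 1457,
  .ofNat 882, .ofNat 0, .ofNat 0, .negSucc 2447, .ofNat 0, .ofNat 0, .ofNat 0, .ofNat 0, .ofNat 378,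
  .negSucc 1259, .negSucc 1889, .ofNat 0, .ofNat 1080, .negSucc 1439, .ofNat 0, .ofNat 0, .negSucc 2519,
  .negSucc 1259, .ofNat 0, .ofNat 1512, .negSucc 179, .ofNat 0, .ofNat 0, .ofNat 504, .ofNat 0, .ofNat 1080,
  .ofNat 0, .negSucc 221, .ofNat 768, .ofNat 1092, .negSucc 1427, .negSucc 797, .ofNat 660, .negSucc 1679,
  .negSucc 1679, .ofNat 768, .ofNat 840, .ofNat 2100, .ofNat 210, .ofNat 1722, .negSucc 1679, .negSucc 1679,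
  .ofNat 768, .ofNat 210, .negSucc 29]

/-- the values at the type 36 -/
def cY36 : List ℤ :=
  [.ofNat 36, .negSucc 98, .ofNat 189, .negSucc 440, .ofNat 315, .ofNat 189, .ofNat 846, .ofNat 315,
  .negSucc 728, .ofNat 756, .ofNat 0, .negSucc 1070, .ofNat 189, .negSucc 125, .ofNat 531, .ofNat 729,
  .ofNat 819, .ofNat 576, .ofNat 0, .negSucc 629, .ofNat 630, .ofNat 729, .negSucc 440, .ofNat 0, .ofNat 0,
  .ofNat 1224, .ofNat 0, .ofNat 0, .ofNat 0, .ofNat 0, .negSucc 188, .ofNat 630, .ofNat 945, .ofNat 0,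
  .negSucc 539, .ofNat 720, .ofNat 0, .ofNat 0, .ofNat 1260, .ofNat 630, .ofNat 0, .negSucc 755, .ofNat 90,
  .ofNat 0, .ofNat 0, .negSucc 251, .ofNat 0, .negSucc 539, .ofNat 0, .ofNat 111, .negSucc 383, .negSucc 545,
  .ofNat 714, .ofNat 399, .negSucc 329, .ofNat 840, .ofNat 840, .negSucc 383, .negSucc 419, .negSucc 1049,
  .negSucc 104, .negSucc 860, .ofNat 840, .ofNat 840, .negSucc 383, .negSucc 104, .ofNat 15]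

/-- the values at the type 37 -/
def cY37 : List ℤ :=
  [.negSucc 31, .ofNat 256, .negSucc 255, .ofNat 928, .negSucc 223, .negSucc 671, .negSucc 191,
  .negSucc 1343, .ofNat 0, .negSucc 1119, .ofNat 4000, .ofNat 2912, .ofNat 0, .negSucc 639, .ofNat 2912,
  .ofNat 0, .negSucc 895, .ofNat 480, .negSucc 4255, .ofNat 1120, .ofNat 1792, .ofNat 5184, .ofNat 2688,
  .ofNat 256, .negSucc 1791, .ofNat 2208, .negSucc 1119, .ofNat 256, .negSucc 1791, .negSucc 5183,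
  .ofNat 2912, .ofNat 0, .ofNat 0, .ofNat 0, .ofNat 0, .ofNat 640, .ofNat 0, .ofNat 1536, .negSucc 4479,
  .ofNat 0, .ofNat 0, .ofNat 0, .ofNat 0, .ofNat 1344, .ofNat 2240, .ofNat 0, .ofNat 0, .ofNat 0, .ofNat 0,
  .negSucc 223, .ofNat 1312, .ofNat 1568, .negSucc 1087, .negSucc 31, .ofNat 1792, .negSucc 2463,
  .negSucc 3135, .ofNat 640, .ofNat 1568, .negSucc 1119, .negSucc 4479, .negSucc 5599, .ofNat 6496,
  .ofNat 896, .negSucc 639, .ofNat 4480, .negSucc 31]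

/-- the values at the type 38 -/
def cY38 : List ℤ :=
  [.ofNat 16, .negSucc 127, .ofNat 128, .negSucc 463, .ofNat 112, .ofNat 336, .ofNat 96, .ofNat 672,
  .ofNat 0, .ofNat 560, .negSucc 1999, .negSucc 1455, .ofNat 0, .ofNat 320, .negSucc 1455, .ofNat 0,
  .ofNat 448, .negSucc 239, .ofNat 2128, .negSucc 559, .negSucc 895, .negSucc 2591, .negSucc 1343,
  .negSucc 127, .ofNat 896, .negSucc 1103, .ofNat 560, .negSucc 127, .ofNat 896, .ofNat 2592, .negSucc 1455,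
  .ofNat 0, .ofNat 0, .ofNat 0, .ofNat 0, .negSucc 319, .ofNat 0, .negSucc 767, .ofNat 2240, .ofNat 0,
  .ofNat 0, .ofNat 0, .ofNat 0, .negSucc 671, .negSucc 1119, .ofNat 0, .ofNat 0, .ofNat 0, .ofNat 0,
  .ofNat 112, .negSucc 655, .negSucc 783, .ofNat 544, .ofNat 16, .negSucc 895, .ofNat 1232, .ofNat 1568,
  .negSucc 319, .negSucc 783, .ofNat 560, .ofNat 2240, .ofNat 2800, .negSucc 3247, .negSucc 447, .ofNat 320,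
  .negSucc 2239, .ofNat 16]

/-- the values at the type 39 -/
def cY39 : List ℤ :=
  [.ofNat 0, .ofNat 0, .ofNat 0, .ofNat 0, .ofNat 0, .ofNat 0, .ofNat 0, .ofNat 0, .ofNat 0, .ofNat 0,
  .ofNat 0, .ofNat 0, .ofNat 0, .ofNat 0, .ofNat 0, .ofNat 0, .ofNat 0, .ofNat 0, .ofNat 0, .ofNat 0,
  .ofNat 0, .ofNat 0, .ofNat 0, .ofNat 0, .ofNat 0, .ofNat 0, .ofNat 0, .ofNat 0, .ofNat 0, .ofNat 0,
  .ofNat 0, .ofNat 0, .ofNat 0, .ofNat 0, .ofNat 0, .ofNat 0, .ofNat 0, .ofNat 0, .ofNat 0, .ofNat 0,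
  .ofNat 0, .ofNat 0, .ofNat 0, .ofNat 0, .ofNat 0, .ofNat 0, .ofNat 0, .ofNat 0, .ofNat 0, .ofNat 0,
  .ofNat 0, .ofNat 0, .ofNat 0, .ofNat 0, .ofNat 0, .ofNat 0, .ofNat 0, .ofNat 0, .ofNat 0, .ofNat 0,
  .ofNat 0, .ofNat 0, .ofNat 0, .ofNat 0, .ofNat 0, .ofNat 0, .ofNat 0]

/-- the values at the type 40 -/
def cY40 : List ℤ :=
  [.ofNat 18, .ofNat 30, .ofNat 42, .ofNat 30, .ofNat 48, .ofNat 0, .ofNat 60, .ofNat 0, .negSucc 47,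
  .ofNat 42, .ofNat 42, .ofNat 0, .negSucc 47, .negSucc 41, .ofNat 0, .ofNat 18, .ofNat 0, .negSucc 17,
  .negSucc 41, .ofNat 0, .ofNat 0, .ofNat 12, .ofNat 0, .ofNat 30, .ofNat 30, .negSucc 29, .ofNat 0,
  .negSucc 41, .negSucc 41, .ofNat 42, .ofNat 0, .ofNat 42, .ofNat 0, .negSucc 17, .ofNat 0, .negSucc 59,
  .ofNat 66, .negSucc 11, .ofNat 0, .ofNat 0, .negSucc 41, .ofNat 0, .ofNat 0, .ofNat 0, .ofNat 0, .ofNat 0,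
  .negSucc 59, .ofNat 0, .ofNat 0, .negSucc 29, .ofNat 66, .ofNat 42, .negSucc 41, .ofNat 42, .ofNat 48,
  .ofNat 0, .ofNat 0, .negSucc 107, .ofNat 0, .ofNat 0, .ofNat 0, .ofNat 0, .negSucc 41, .ofNat 0, .ofNat 12,
  .ofNat 0, .negSucc 11]

/-- the values at the type 41 -/
def cY41 : List ℤ :=
  [.negSucc 8, .negSucc 14, .negSucc 20, .negSucc 14, .negSucc 23, .ofNat 0, .negSucc 29, .ofNat 0,
  .ofNat 24, .negSucc 20, .negSucc 20, .ofNat 0, .ofNat 24, .ofNat 21, .ofNat 0, .negSucc 8, .ofNat 0,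
  .ofNat 9, .ofNat 21, .ofNat 0, .ofNat 0, .negSucc 5, .ofNat 0, .negSucc 14, .negSucc 14, .ofNat 15,
  .ofNat 0, .ofNat 21, .ofNat 21, .negSucc 20, .ofNat 0, .negSucc 20, .ofNat 0, .ofNat 9, .ofNat 0,
  .ofNat 30, .negSucc 32, .ofNat 6, .ofNat 0, .ofNat 0, .ofNat 21, .ofNat 0, .ofNat 0, .ofNat 0, .ofNat 0,
  .ofNat 0, .ofNat 30, .ofNat 0, .ofNat 0, .ofNat 15, .negSucc 32, .negSucc 20, .ofNat 21, .negSucc 20,
  .negSucc 23, .ofNat 0, .ofNat 0, .ofNat 54, .ofNat 0, .ofNat 0, .ofNat 0, .ofNat 0, .ofNat 21, .ofNat 0,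
  .negSucc 5, .ofNat 0, .ofNat 6]

/-- the values at the type 42 -/
def cY42 : List ℤ :=
  [.negSucc 1, .negSucc 0, .ofNat 0, .ofNat 6, .ofNat 4, .ofNat 0, .negSucc 1, .ofNat 0, .negSucc 10,
  .ofNat 0, .ofNat 0, .ofNat 0, .negSucc 17, .ofNat 0, .negSucc 6, .negSucc 1, .ofNat 0, .ofNat 9, .ofNat 0,
  .ofNat 0, .ofNat 0, .ofNat 1, .ofNat 0, .ofNat 6, .ofNat 6, .negSucc 12, .ofNat 0, .ofNat 0, .ofNat 0,
  .ofNat 0, .ofNat 0, .ofNat 0, .ofNat 0, .ofNat 9, .ofNat 7, .ofNat 16, .negSucc 11, .ofNat 6, .ofNat 0,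
  .ofNat 0, .ofNat 0, .ofNat 0, .ofNat 14, .ofNat 0, .ofNat 0, .ofNat 0, .negSucc 11, .negSucc 13, .ofNat 0,
  .ofNat 1, .negSucc 4, .ofNat 0, .ofNat 0, .ofNat 0, .ofNat 11, .ofNat 0, .ofNat 0, .ofNat 5, .ofNat 0,
  .ofNat 0, .ofNat 0, .ofNat 0, .ofNat 0, .ofNat 0, .negSucc 12, .ofNat 0, .negSucc 0]

/-- the values at the type 43 -/
def cY43 : List ℤ :=
  [.ofNat 4, .ofNat 2, .ofNat 0, .negSucc 11, .negSucc 7, .ofNat 0, .ofNat 4, .ofNat 0, .ofNat 22, .ofNat 0,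
  .ofNat 0, .ofNat 0, .ofNat 36, .ofNat 0, .ofNat 14, .ofNat 4, .ofNat 0, .negSucc 17, .ofNat 0, .ofNat 0,
  .ofNat 0, .negSucc 1, .ofNat 0, .negSucc 11, .negSucc 11, .ofNat 26, .ofNat 0, .ofNat 0, .ofNat 0,
  .ofNat 0, .ofNat 0, .ofNat 0, .ofNat 0, .negSucc 17, .negSucc 13, .negSucc 31, .ofNat 24, .negSucc 11,
  .ofNat 0, .ofNat 0, .ofNat 0, .ofNat 0, .negSucc 27, .ofNat 0, .ofNat 0, .ofNat 0, .ofNat 24, .ofNat 28,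
  .ofNat 0, .negSucc 1, .ofNat 10, .ofNat 0, .ofNat 0, .ofNat 0, .negSucc 21, .ofNat 0, .ofNat 0, .negSucc 9,
  .ofNat 0, .ofNat 0, .ofNat 0, .ofNat 0, .ofNat 0, .ofNat 0, .ofNat 26, .ofNat 0, .ofNat 2]

/-- the values at the type 44 -/
def cY44 : List ℤ :=
  [.ofNat 16, .ofNat 10, .ofNat 26, .ofNat 12, .ofNat 6, .ofNat 22, .negSucc 15, .negSucc 1, .ofNat 8,
  .ofNat 0, .ofNat 4, .negSucc 7, .ofNat 0, .ofNat 6, .ofNat 0, .ofNat 2, .negSucc 21, .ofNat 0, .ofNat 0,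
  .negSucc 9, .ofNat 0, .ofNat 4, .ofNat 0, .ofNat 0, .ofNat 0, .ofNat 0, .ofNat 16, .ofNat 0, .ofNat 0,
  .ofNat 10, .ofNat 12, .ofNat 16, .ofNat 8, .negSucc 17, .ofNat 0, .ofNat 0, .negSucc 11, .ofNat 0,
  .ofNat 0, .negSucc 21, .ofNat 18, .negSucc 9, .ofNat 12, .negSucc 7, .ofNat 12, .ofNat 0, .negSucc 11,
  .ofNat 20, .ofNat 4, .negSucc 1, .ofNat 0, .ofNat 2, .ofNat 14, .negSucc 19, .ofNat 0, .ofNat 2, .ofNat 6,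
  .ofNat 0, .ofNat 0, .negSucc 1, .negSucc 7, .ofNat 0, .ofNat 0, .ofNat 0, .ofNat 0, .ofNat 2, .negSucc 5]

/-- the values at the type 45 -/
def cY45 : List ℤ :=
  [.negSucc 7, .negSucc 4, .negSucc 12, .negSucc 5, .negSucc 2, .negSucc 10, .ofNat 8, .ofNat 1, .negSucc 3,
  .ofNat 0, .negSucc 1, .ofNat 4, .ofNat 0, .negSucc 2, .ofNat 0, .negSucc 0, .ofNat 11, .ofNat 0, .ofNat 0,
  .ofNat 5, .ofNat 0, .negSucc 1, .ofNat 0, .ofNat 0, .ofNat 0, .ofNat 0, .negSucc 7, .ofNat 0, .ofNat 0,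
  .negSucc 4, .negSucc 5, .negSucc 7, .negSucc 3, .ofNat 9, .ofNat 0, .ofNat 0, .ofNat 6, .ofNat 0, .ofNat 0,
  .ofNat 11, .negSucc 8, .ofNat 5, .negSucc 5, .ofNat 4, .negSucc 5, .ofNat 0, .ofNat 6, .negSucc 9,
  .negSucc 1, .ofNat 1, .ofNat 0, .negSucc 0, .negSucc 6, .ofNat 10, .ofNat 0, .negSucc 0, .negSucc 2,
  .ofNat 0, .ofNat 0, .ofNat 1, .ofNat 4, .ofNat 0, .ofNat 0, .ofNat 0, .ofNat 0, .negSucc 0, .ofNat 3]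

/-- the values at the type 46 -/
def cY46 : List ℤ :=
  [.ofNat 0, .negSucc 5, .negSucc 5, .ofNat 12, .ofNat 6, .ofNat 6, .ofNat 0, .negSucc 17, .ofNat 24,
  .ofNat 0, .negSucc 11, .ofNat 24, .ofNat 0, .ofNat 6, .ofNat 0, .ofNat 18, .negSucc 5, .ofNat 0, .ofNat 0,
  .ofNat 6, .ofNat 0, .negSucc 11, .ofNat 0, .ofNat 0, .ofNat 0, .ofNat 0, .ofNat 0, .ofNat 0, .ofNat 0,
  .negSucc 5, .ofNat 12, .ofNat 0, .ofNat 24, .negSucc 17, .ofNat 0, .ofNat 0, .negSucc 11, .ofNat 0,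
  .ofNat 0, .negSucc 5, .negSucc 29, .ofNat 6, .ofNat 12, .ofNat 24, .ofNat 12, .ofNat 0, .negSucc 11,
  .negSucc 11, .ofNat 36, .negSucc 17, .ofNat 0, .negSucc 29, .negSucc 17, .ofNat 12, .ofNat 0, .ofNat 18,
  .ofNat 6, .ofNat 0, .ofNat 0, .negSucc 17, .ofNat 24, .ofNat 0, .ofNat 0, .ofNat 0, .ofNat 0, .ofNat 18,
  .negSucc 5]

/-- the values at the type 47 -/
def cY47 : List ℤ :=
  [.ofNat 0, .ofNat 3, .ofNat 3, .negSucc 5, .negSucc 2, .negSucc 2, .ofNat 0, .ofNat 9, .negSucc 11,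
  .ofNat 0, .ofNat 6, .negSucc 11, .ofNat 0, .negSucc 2, .ofNat 0, .negSucc 8, .ofNat 3, .ofNat 0, .ofNat 0,
  .negSucc 2, .ofNat 0, .ofNat 6, .ofNat 0, .ofNat 0, .ofNat 0, .ofNat 0, .ofNat 0, .ofNat 0, .ofNat 0,
  .ofNat 3, .negSucc 5, .ofNat 0, .negSucc 11, .ofNat 9, .ofNat 0, .ofNat 0, .ofNat 6, .ofNat 0, .ofNat 0,
  .ofNat 3, .ofNat 15, .negSucc 2, .negSucc 5, .negSucc 11, .negSucc 5, .ofNat 0, .ofNat 6, .ofNat 6,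
  .negSucc 17, .ofNat 9, .ofNat 0, .ofNat 15, .ofNat 9, .negSucc 5, .ofNat 0, .negSucc 8, .negSucc 2,
  .ofNat 0, .ofNat 0, .ofNat 9, .negSucc 11, .ofNat 0, .ofNat 0, .ofNat 0, .ofNat 0, .negSucc 8, .ofNat 3]

/-- the values at the type 48 -/
def cY48 : List ℤ :=
  [.ofNat 0, .ofNat 2, .ofNat 2, .ofNat 4, .negSucc 1, .negSucc 1, .ofNat 0, .negSucc 1, .ofNat 8, .ofNat 0,
  .ofNat 12, .negSucc 7, .ofNat 16, .ofNat 6, .negSucc 15, .ofNat 2, .ofNat 2, .ofNat 0, .ofNat 0, .ofNat 6,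
  .ofNat 0, .negSucc 3, .negSucc 15, .ofNat 0, .ofNat 0, .ofNat 0, .ofNat 0, .ofNat 0, .ofNat 0, .negSucc 5,
  .ofNat 4, .ofNat 0, .negSucc 7, .ofNat 6, .ofNat 0, .ofNat 0, .ofNat 12, .ofNat 0, .ofNat 0, .negSucc 5,
  .negSucc 5, .ofNat 6, .ofNat 28, .negSucc 23, .ofNat 12, .ofNat 0, .negSucc 11, .negSucc 11, .negSucc 11,
  .negSucc 1, .ofNat 0, .negSucc 5, .ofNat 6, .ofNat 4, .ofNat 0, .negSucc 5, .ofNat 6, .ofNat 0, .ofNat 0,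
  .ofNat 6, .ofNat 8, .negSucc 15, .ofNat 0, .ofNat 0, .ofNat 0, .ofNat 2, .ofNat 2]

/-- the values at the type 49 -/
def cY49 : List ℤ :=
  [.ofNat 0, .negSucc 0, .negSucc 0, .negSucc 1, .ofNat 1, .ofNat 1, .ofNat 0, .ofNat 1, .negSucc 3,
  .ofNat 0, .negSucc 5, .ofNat 4, .negSucc 7, .negSucc 2, .ofNat 8, .negSucc 0, .negSucc 0, .ofNat 0,
  .ofNat 0, .negSucc 2, .ofNat 0, .ofNat 2, .ofNat 8, .ofNat 0, .ofNat 0, .ofNat 0, .ofNat 0, .ofNat 0,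
  .ofNat 0, .ofNat 3, .negSucc 1, .ofNat 0, .ofNat 4, .negSucc 2, .ofNat 0, .ofNat 0, .negSucc 5, .ofNat 0,
  .ofNat 0, .ofNat 3, .ofNat 3, .negSucc 2, .negSucc 13, .ofNat 12, .negSucc 5, .ofNat 0, .ofNat 6, .ofNat 6,
  .ofNat 6, .ofNat 1, .ofNat 0, .ofNat 3, .negSucc 2, .negSucc 1, .ofNat 0, .ofNat 3, .negSucc 2, .ofNat 0,
  .ofNat 0, .negSucc 2, .negSucc 3, .ofNat 8, .ofNat 0, .ofNat 0, .ofNat 0, .negSucc 0, .negSucc 0]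

/-- the values at the type 50 -/
def cY50 : List ℤ :=
  [.ofNat 0, .ofNat 0, .ofNat 0, .ofNat 0, .ofNat 0, .ofNat 0, .ofNat 0, .ofNat 0, .ofNat 0, .ofNat 0,
  .ofNat 0, .ofNat 0, .ofNat 0, .ofNat 0, .ofNat 0, .ofNat 0, .ofNat 0, .ofNat 0, .ofNat 0, .ofNat 0,
  .ofNat 0, .ofNat 0, .ofNat 0, .ofNat 0, .ofNat 0, .ofNat 0, .ofNat 0, .ofNat 0, .ofNat 0, .ofNat 0,
  .ofNat 0, .ofNat 0, .ofNat 0, .ofNat 0, .ofNat 0, .ofNat 0, .ofNat 0, .ofNat 0, .ofNat 0, .ofNat 0,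
  .ofNat 0, .ofNat 0, .ofNat 0, .ofNat 0, .ofNat 0, .ofNat 0, .ofNat 0, .ofNat 0, .ofNat 0, .ofNat 0,
  .ofNat 0, .ofNat 0, .ofNat 0, .ofNat 0, .ofNat 0, .ofNat 0, .ofNat 0, .ofNat 0, .ofNat 0, .ofNat 0,
  .ofNat 0, .ofNat 0, .ofNat 0, .ofNat 0, .ofNat 0, .ofNat 0, .ofNat 0]

/-- the values at the type 51 -/
def cY51 : List ℤ :=
  [.ofNat 12, .ofNat 6, .ofNat 12, .ofNat 6, .ofNat 12, .ofNat 0, .ofNat 0, .ofNat 0, .ofNat 0, .negSucc 11,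
  .negSucc 11, .negSucc 5, .ofNat 0, .negSucc 11, .negSucc 5, .ofNat 0, .ofNat 12, .ofNat 0, .negSucc 11,
  .ofNat 6, .ofNat 6, .ofNat 0, .ofNat 0, .negSucc 11, .negSucc 11, .ofNat 0, .negSucc 23, .ofNat 12,
  .ofNat 12, .ofNat 0, .ofNat 12, .ofNat 0, .ofNat 0, .ofNat 0, .ofNat 0, .ofNat 12, .ofNat 0, .ofNat 0,
  .negSucc 11, .ofNat 0, .ofNat 0, .ofNat 0, .ofNat 0, .ofNat 0, .negSucc 23, .ofNat 0, .ofNat 0, .ofNat 0,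
  .ofNat 0, .negSucc 5, .negSucc 5, .ofNat 6, .negSucc 5, .negSucc 5, .negSucc 5, .ofNat 6, .ofNat 6,
  .negSucc 5, .ofNat 6, .ofNat 6, .ofNat 6, .negSucc 5, .negSucc 5, .ofNat 6, .ofNat 6, .negSucc 5,
  .negSucc 5]

/-- the values at the type 52 -/
def cY52 : List ℤ :=
  [.negSucc 5, .negSucc 2, .negSucc 5, .negSucc 2, .negSucc 5, .ofNat 0, .ofNat 0, .ofNat 0, .ofNat 0,
  .ofNat 6, .ofNat 6, .ofNat 3, .ofNat 0, .ofNat 6, .ofNat 3, .ofNat 0, .negSucc 5, .ofNat 0, .ofNat 6,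
  .negSucc 2, .negSucc 2, .ofNat 0, .ofNat 0, .ofNat 6, .ofNat 6, .ofNat 0, .ofNat 12, .negSucc 5,
  .negSucc 5, .ofNat 0, .negSucc 5, .ofNat 0, .ofNat 0, .ofNat 0, .ofNat 0, .negSucc 5, .ofNat 0, .ofNat 0,
  .ofNat 6, .ofNat 0, .ofNat 0, .ofNat 0, .ofNat 0, .ofNat 0, .ofNat 12, .ofNat 0, .ofNat 0, .ofNat 0,
  .ofNat 0, .ofNat 3, .ofNat 3, .negSucc 2, .ofNat 3, .ofNat 3, .ofNat 3, .negSucc 2, .negSucc 2, .ofNat 3,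
  .negSucc 2, .negSucc 2, .negSucc 2, .ofNat 3, .ofNat 3, .negSucc 2, .negSucc 2, .ofNat 3, .ofNat 3]

/-- the values at the type 53 -/
def cY53 : List ℤ :=
  [.ofNat 0, .ofNat 0, .ofNat 0, .ofNat 0, .ofNat 0, .ofNat 0, .ofNat 0, .ofNat 0, .ofNat 0, .ofNat 0,
  .ofNat 0, .ofNat 0, .ofNat 0, .ofNat 0, .ofNat 0, .ofNat 0, .ofNat 0, .ofNat 0, .ofNat 0, .ofNat 0,
  .ofNat 0, .ofNat 0, .ofNat 0, .ofNat 0, .ofNat 0, .ofNat 0, .ofNat 0, .ofNat 0, .ofNat 0, .ofNat 0,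
  .ofNat 0, .ofNat 0, .ofNat 0, .ofNat 0, .ofNat 0, .ofNat 0, .ofNat 0, .ofNat 0, .ofNat 0, .ofNat 0,
  .ofNat 0, .ofNat 0, .ofNat 0, .ofNat 0, .ofNat 0, .ofNat 0, .ofNat 0, .ofNat 0, .ofNat 0, .ofNat 0,
  .ofNat 0, .ofNat 0, .ofNat 0, .ofNat 0, .ofNat 0, .ofNat 0, .ofNat 0, .ofNat 0, .ofNat 0, .ofNat 0,
  .ofNat 0, .ofNat 0, .ofNat 0, .ofNat 0, .ofNat 0, .ofNat 0, .ofNat 0]

/-- the values at the type 54 -/
def cY54 : List ℤ :=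
  [.ofNat 0, .ofNat 0, .ofNat 0, .ofNat 0, .ofNat 0, .ofNat 0, .ofNat 0, .ofNat 0, .ofNat 0, .ofNat 0,
  .ofNat 0, .ofNat 0, .ofNat 0, .ofNat 0, .ofNat 0, .ofNat 0, .ofNat 0, .ofNat 0, .ofNat 0, .ofNat 0,
  .ofNat 0, .ofNat 0, .ofNat 0, .ofNat 0, .ofNat 0, .ofNat 0, .ofNat 0, .ofNat 0, .ofNat 0, .ofNat 0,
  .ofNat 0, .ofNat 0, .ofNat 0, .ofNat 0, .ofNat 0, .ofNat 0, .ofNat 0, .ofNat 0, .ofNat 0, .ofNat 0,
  .ofNat 0, .ofNat 0, .ofNat 0, .ofNat 0, .ofNat 0, .ofNat 0, .ofNat 0, .ofNat 0, .ofNat 0, .ofNat 0,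
  .ofNat 0, .ofNat 0, .ofNat 0, .ofNat 0, .ofNat 0, .ofNat 0, .ofNat 0, .ofNat 0, .ofNat 0, .ofNat 0,
  .ofNat 0, .ofNat 0, .ofNat 0, .ofNat 0, .ofNat 0, .ofNat 0, .ofNat 0]

/-- the values at the type 55 -/
def cY55 : List ℤ :=
  [.negSucc 17, .ofNat 72, .negSucc 71, .ofNat 180, .negSucc 71, .negSucc 107, .negSucc 107, .negSucc 107,
  .ofNat 0, .negSucc 89, .ofNat 72, .ofNat 90, .ofNat 0, .ofNat 180, .ofNat 90, .ofNat 0, .negSucc 71,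
  .ofNat 270, .ofNat 18, .negSucc 89, .ofNat 18, .ofNat 0, .negSucc 269, .negSucc 89, .negSucc 89,
  .ofNat 270, .ofNat 90, .negSucc 17, .negSucc 17, .ofNat 0, .ofNat 90, .ofNat 0, .ofNat 0, .ofNat 0,
  .ofNat 0, .ofNat 360, .ofNat 0, .negSucc 107, .ofNat 180, .ofNat 0, .ofNat 0, .ofNat 0, .ofNat 0,
  .negSucc 107, .negSucc 179, .ofNat 0, .ofNat 0, .ofNat 0, .ofNat 0, .negSucc 71, .ofNat 198, .ofNat 180,
  .negSucc 179, .negSucc 17, .ofNat 90, .negSucc 251, .negSucc 197, .negSucc 179, .negSucc 89, .negSucc 89,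
  .ofNat 180, .ofNat 252, .ofNat 90, .ofNat 72, .ofNat 180, .negSucc 179, .negSucc 17]

/-- the values at the type 56 -/
def cY56 : List ℤ :=
  [.ofNat 9, .negSucc 35, .ofNat 36, .negSucc 89, .ofNat 36, .ofNat 54, .ofNat 54, .ofNat 54, .ofNat 0,
  .ofNat 45, .negSucc 35, .negSucc 44, .ofNat 0, .negSucc 89, .negSucc 44, .ofNat 0, .ofNat 36, .negSucc 134,
  .negSucc 8, .ofNat 45, .negSucc 8, .ofNat 0, .ofNat 135, .ofNat 45, .ofNat 45, .negSucc 134, .negSucc 44,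
  .ofNat 9, .ofNat 9, .ofNat 0, .negSucc 44, .ofNat 0, .ofNat 0, .ofNat 0, .ofNat 0, .negSucc 179, .ofNat 0,
  .ofNat 54, .negSucc 89, .ofNat 0, .ofNat 0, .ofNat 0, .ofNat 0, .ofNat 54, .ofNat 90, .ofNat 0, .ofNat 0,
  .ofNat 0, .ofNat 0, .ofNat 36, .negSucc 98, .negSucc 89, .ofNat 90, .ofNat 9, .negSucc 44, .ofNat 126,
  .ofNat 99, .ofNat 90, .ofNat 45, .ofNat 45, .negSucc 89, .negSucc 125, .negSucc 44, .negSucc 35,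
  .negSucc 89, .ofNat 90, .ofNat 9]

/-- the values at the type 57 -/
def cY57 : List ℤ :=
  [.ofNat 0, .ofNat 0, .ofNat 0, .ofNat 0, .ofNat 0, .ofNat 0, .ofNat 0, .ofNat 0, .ofNat 0, .ofNat 0,
  .ofNat 0, .ofNat 0, .ofNat 0, .ofNat 0, .ofNat 0, .ofNat 0, .ofNat 0, .ofNat 0, .ofNat 0, .ofNat 0,
  .ofNat 0, .ofNat 0, .ofNat 0, .ofNat 0, .ofNat 0, .ofNat 0, .ofNat 0, .ofNat 0, .ofNat 0, .ofNat 0,
  .ofNat 0, .ofNat 0, .ofNat 0, .ofNat 0, .ofNat 0, .ofNat 0, .ofNat 0, .ofNat 0, .ofNat 0, .ofNat 0,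
  .ofNat 0, .ofNat 0, .ofNat 0, .ofNat 0, .ofNat 0, .ofNat 0, .ofNat 0, .ofNat 0, .ofNat 0, .ofNat 0,
  .ofNat 0, .ofNat 0, .ofNat 0, .ofNat 0, .ofNat 0, .ofNat 0, .ofNat 0, .ofNat 0, .ofNat 0, .ofNat 0,
  .ofNat 0, .ofNat 0, .ofNat 0, .ofNat 0, .ofNat 0, .ofNat 0, .ofNat 0]

/-- the values at the type 58 -/
def cY58 : List ℤ :=
  [.ofNat 4, .negSucc 7, .negSucc 3, .ofNat 2, .ofNat 0, .ofNat 8, .negSucc 7, .negSucc 11, .ofNat 16,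
  .ofNat 16, .negSucc 5, .negSucc 3, .ofNat 2, .negSucc 15, .negSucc 1, .negSucc 15, .ofNat 8, .ofNat 16,
  .ofNat 6, .ofNat 0, .ofNat 12, .ofNat 2, .ofNat 2, .ofNat 0, .ofNat 0, .ofNat 2, .ofNat 0, .ofNat 0,
  .ofNat 0, .negSucc 11, .negSucc 1, .negSucc 11, .ofNat 0, .negSucc 11, .ofNat 0, .ofNat 0, .ofNat 6,
  .ofNat 0, .ofNat 0, .ofNat 0, .ofNat 12, .negSucc 3, .ofNat 0, .ofNat 12, .ofNat 0, .negSucc 7, .ofNat 0,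
  .ofNat 0, .ofNat 0, .negSucc 7, .negSucc 1, .ofNat 8, .ofNat 8, .ofNat 14, .ofNat 12, .negSucc 11,
  .ofNat 12, .negSucc 7, .ofNat 0, .ofNat 0, .ofNat 0, .ofNat 2, .negSucc 5, .negSucc 11, .negSucc 7,
  .ofNat 0, .ofNat 0]

/-- the values at the type 59 -/
def cY59 : List ℤ :=
  [.negSucc 1, .ofNat 4, .ofNat 2, .negSucc 0, .ofNat 0, .negSucc 3, .ofNat 4, .ofNat 6, .negSucc 7,
  .negSucc 7, .ofNat 3, .ofNat 2, .negSucc 0, .ofNat 8, .ofNat 1, .ofNat 8, .negSucc 3, .negSucc 7,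
  .negSucc 2, .ofNat 0, .negSucc 5, .negSucc 0, .negSucc 0, .ofNat 0, .ofNat 0, .negSucc 0, .ofNat 0,
  .ofNat 0, .ofNat 0, .ofNat 6, .ofNat 1, .ofNat 6, .ofNat 0, .ofNat 6, .ofNat 0, .ofNat 0, .negSucc 2,
  .ofNat 0, .ofNat 0, .ofNat 0, .negSucc 5, .ofNat 2, .ofNat 0, .negSucc 5, .ofNat 0, .ofNat 4, .ofNat 0,
  .ofNat 0, .ofNat 0, .ofNat 4, .ofNat 1, .negSucc 3, .negSucc 3, .negSucc 6, .negSucc 5, .ofNat 6,
  .negSucc 5, .ofNat 4, .ofNat 0, .ofNat 0, .ofNat 0, .negSucc 0, .ofNat 3, .ofNat 6, .ofNat 4, .ofNat 0,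
  .ofNat 0]

/-- the values at the type 60 -/
def cY60 : List ℤ :=
  [.ofNat 4, .ofNat 8, .ofNat 4, .ofNat 10, .ofNat 8, .negSucc 7, .ofNat 16, .negSucc 11, .ofNat 0, .ofNat 0,
  .negSucc 5, .negSucc 3, .ofNat 18, .ofNat 0, .negSucc 9, .ofNat 0, .negSucc 7, .ofNat 0, .negSucc 17,
  .ofNat 0, .negSucc 3, .negSucc 5, .ofNat 10, .ofNat 24, .negSucc 7, .ofNat 10, .ofNat 0, .ofNat 24,
  .negSucc 7, .negSucc 11, .negSucc 9, .ofNat 12, .ofNat 0, .ofNat 12, .ofNat 0, .ofNat 0, .ofNat 6,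
  .negSucc 15, .ofNat 0, .ofNat 0, .ofNat 36, .negSucc 11, .ofNat 0, .negSucc 19, .ofNat 0, .negSucc 23,
  .ofNat 0, .ofNat 0, .ofNat 0, .negSucc 15, .ofNat 14, .negSucc 7, .negSucc 15, .ofNat 22, .negSucc 3,
  .ofNat 20, .negSucc 19, .ofNat 24, .negSucc 7, .ofNat 0, .ofNat 0, .ofNat 18, .negSucc 5, .negSucc 3,
  .negSucc 23, .ofNat 0, .negSucc 7]

/-- the values at the type 61 -/
def cY61 : List ℤ :=
  [.negSucc 1, .negSucc 3, .negSucc 1, .negSucc 4, .negSucc 3, .ofNat 4, .negSucc 7, .ofNat 6, .ofNat 0,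
  .ofNat 0, .ofNat 3, .ofNat 2, .negSucc 8, .ofNat 0, .ofNat 5, .ofNat 0, .ofNat 4, .ofNat 0, .ofNat 9,
  .ofNat 0, .ofNat 2, .ofNat 3, .negSucc 4, .negSucc 11, .ofNat 4, .negSucc 4, .ofNat 0, .negSucc 11,
  .ofNat 4, .ofNat 6, .ofNat 5, .negSucc 5, .ofNat 0, .negSucc 5, .ofNat 0, .ofNat 0, .negSucc 2, .ofNat 8,
  .ofNat 0, .ofNat 0, .negSucc 17, .ofNat 6, .ofNat 0, .ofNat 10, .ofNat 0, .ofNat 12, .ofNat 0, .ofNat 0,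
  .ofNat 0, .ofNat 8, .negSucc 6, .ofNat 4, .ofNat 8, .negSucc 10, .ofNat 2, .negSucc 9, .ofNat 10,
  .negSucc 11, .ofNat 4, .ofNat 0, .ofNat 0, .negSucc 8, .ofNat 3, .ofNat 2, .ofNat 12, .ofNat 0, .ofNat 4]

/-- the values at the type 62 -/
def cY62 : List ℤ :=
  [.ofNat 6, .ofNat 2, .ofNat 6, .ofNat 0, .ofNat 0, .ofNat 0, .ofNat 0, .ofNat 0, .ofNat 0, .negSucc 5,
  .ofNat 0, .ofNat 0, .ofNat 0, .ofNat 0, .ofNat 0, .negSucc 5, .ofNat 0, .ofNat 0, .ofNat 0, .ofNat 2,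
  .ofNat 0, .ofNat 0, .ofNat 0, .ofNat 6, .ofNat 6, .ofNat 0, .ofNat 0, .negSucc 1, .negSucc 1, .negSucc 5,
  .ofNat 0, .ofNat 0, .negSucc 3, .ofNat 0, .negSucc 3, .ofNat 2, .ofNat 0, .ofNat 4, .ofNat 6, .ofNat 0,
  .negSucc 5, .ofNat 0, .negSucc 3, .ofNat 0, .ofNat 0, .ofNat 0, .ofNat 12, .ofNat 0, .ofNat 4, .negSucc 1,
  .ofNat 0, .negSucc 1, .ofNat 2, .ofNat 0, .ofNat 0, .ofNat 0, .ofNat 0, .ofNat 0, .negSucc 3, .ofNat 2,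
  .ofNat 0, .ofNat 0, .ofNat 0, .ofNat 0, .ofNat 0, .ofNat 0, .negSucc 3]

/-- the values at the type 63 -/
def cY63 : List ℤ :=
  [.negSucc 2, .negSucc 0, .negSucc 2, .ofNat 0, .ofNat 0, .ofNat 0, .ofNat 0, .ofNat 0, .ofNat 0, .ofNat 3,
  .ofNat 0, .ofNat 0, .ofNat 0, .ofNat 0, .ofNat 0, .ofNat 3, .ofNat 0, .ofNat 0, .ofNat 0, .negSucc 0,
  .ofNat 0, .ofNat 0, .ofNat 0, .negSucc 2, .negSucc 2, .ofNat 0, .ofNat 0, .ofNat 1, .ofNat 1, .ofNat 3,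
  .ofNat 0, .ofNat 0, .ofNat 2, .ofNat 0, .ofNat 2, .negSucc 0, .ofNat 0, .negSucc 1, .negSucc 2, .ofNat 0,
  .ofNat 3, .ofNat 0, .ofNat 2, .ofNat 0, .ofNat 0, .ofNat 0, .negSucc 5, .ofNat 0, .negSucc 1, .ofNat 1,
  .ofNat 0, .ofNat 1, .negSucc 0, .ofNat 0, .ofNat 0, .ofNat 0, .ofNat 0, .ofNat 0, .ofNat 2, .negSucc 0,
  .ofNat 0, .ofNat 0, .ofNat 0, .ofNat 0, .ofNat 0, .ofNat 0, .ofNat 2]

/-- the values at the type 64 -/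
def cY64 : List ℤ :=
  [.negSucc 1, .ofNat 6, .ofNat 6, .negSucc 3, .ofNat 0, .negSucc 13, .negSucc 5, .negSucc 5, .negSucc 5,
  .ofNat 4, .ofNat 12, .negSucc 13, .ofNat 24, .negSucc 11, .negSucc 31, .ofNat 6, .ofNat 12, .negSucc 3,
  .ofNat 16, .negSucc 3, .negSucc 31, .negSucc 5, .negSucc 7, .negSucc 15, .ofNat 16, .negSucc 15,
  .negSucc 1, .ofNat 16, .negSucc 15, .negSucc 5, .ofNat 4, .ofNat 6, .ofNat 6, .ofNat 0, .ofNat 0, .ofNat 0,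
  .ofNat 0, .ofNat 0, .ofNat 0, .ofNat 18, .ofNat 0, .negSucc 17, .negSucc 23, .ofNat 4, .negSucc 7,
  .ofNat 0, .ofNat 0, .ofNat 36, .ofNat 36, .negSucc 5, .negSucc 15, .ofNat 6, .negSucc 5, .negSucc 13,
  .ofNat 32, .negSucc 5, .negSucc 7, .ofNat 0, .ofNat 8, .negSucc 19, .ofNat 6, .ofNat 0, .ofNat 16,
  .ofNat 0, .ofNat 0, .ofNat 12, .ofNat 4]

/-- the values at the type 65 -/
def cY65 : List ℤ :=
  [.ofNat 1, .negSucc 2, .negSucc 2, .ofNat 2, .ofNat 0, .ofNat 7, .ofNat 3, .ofNat 3, .ofNat 3, .negSucc 1,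
  .negSucc 5, .ofNat 7, .negSucc 11, .ofNat 6, .ofNat 16, .negSucc 2, .negSucc 5, .ofNat 2, .negSucc 7,
  .ofNat 2, .ofNat 16, .ofNat 3, .ofNat 4, .ofNat 8, .negSucc 7, .ofNat 8, .ofNat 1, .negSucc 7, .ofNat 8,
  .ofNat 3, .negSucc 1, .negSucc 2, .negSucc 2, .ofNat 0, .ofNat 0, .ofNat 0, .ofNat 0, .ofNat 0, .ofNat 0,
  .negSucc 8, .ofNat 0, .ofNat 9, .ofNat 12, .negSucc 1, .ofNat 4, .ofNat 0, .ofNat 0, .negSucc 17,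
  .negSucc 17, .ofNat 3, .ofNat 8, .negSucc 2, .ofNat 3, .ofNat 7, .negSucc 15, .ofNat 3, .ofNat 4, .ofNat 0,
  .negSucc 3, .ofNat 10, .negSucc 2, .ofNat 0, .negSucc 7, .ofNat 0, .ofNat 0, .negSucc 5, .negSucc 1]

/-- the values at the type 66 -/
def cY66 : List ℤ :=
  [.ofNat 4, .ofNat 4, .ofNat 4, .ofNat 0, .ofNat 0, .negSucc 3, .negSucc 3, .ofNat 0, .ofNat 0, .ofNat 4,
  .ofNat 0, .ofNat 4, .negSucc 3, .ofNat 4, .ofNat 0, .ofNat 0, .ofNat 0, .ofNat 0, .ofNat 0, .ofNat 4,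
  .negSucc 3, .ofNat 0, .negSucc 3, .ofNat 0, .ofNat 0, .ofNat 0, .ofNat 0, .ofNat 0, .ofNat 0, .ofNat 0,
  .negSucc 3, .negSucc 3, .ofNat 4, .ofNat 0, .negSucc 3, .ofNat 0, .ofNat 0, .ofNat 0, .negSucc 3, .ofNat 8,
  .ofNat 0, .ofNat 4, .ofNat 8, .ofNat 0, .ofNat 0, .negSucc 7, .ofNat 0, .ofNat 8, .ofNat 0, .ofNat 0,
  .ofNat 0, .ofNat 0, .ofNat 4, .ofNat 4, .negSucc 3, .ofNat 0, .ofNat 0, .ofNat 0, .ofNat 4, .negSucc 3,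
  .negSucc 3, .ofNat 0, .ofNat 0, .ofNat 0, .ofNat 0, .negSucc 3, .negSucc 3]

/-- the values at the type 67 -/
def cY67 : List ℤ :=
  [.negSucc 1, .negSucc 1, .negSucc 1, .ofNat 0, .ofNat 0, .ofNat 2, .ofNat 2, .ofNat 0, .ofNat 0,
  .negSucc 1, .ofNat 0, .negSucc 1, .ofNat 2, .negSucc 1, .ofNat 0, .ofNat 0, .ofNat 0, .ofNat 0, .ofNat 0,
  .negSucc 1, .ofNat 2, .ofNat 0, .ofNat 2, .ofNat 0, .ofNat 0, .ofNat 0, .ofNat 0, .ofNat 0, .ofNat 0,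
  .ofNat 0, .ofNat 2, .ofNat 2, .negSucc 1, .ofNat 0, .ofNat 2, .ofNat 0, .ofNat 0, .ofNat 0, .ofNat 2,
  .negSucc 3, .ofNat 0, .negSucc 1, .negSucc 3, .ofNat 0, .ofNat 0, .ofNat 4, .ofNat 0, .negSucc 3, .ofNat 0,
  .ofNat 0, .ofNat 0, .ofNat 0, .negSucc 1, .negSucc 1, .ofNat 2, .ofNat 0, .ofNat 0, .ofNat 0, .negSucc 1,
  .ofNat 2, .ofNat 2, .ofNat 0, .ofNat 0, .ofNat 0, .ofNat 0, .ofNat 2, .ofNat 2]

/-- the values at the type 68 -/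
def cY68 : List ℤ :=
  [.negSucc 7, .negSucc 1, .negSucc 1, .negSucc 5, .ofNat 18, .negSucc 9, .negSucc 3, .ofNat 18, .ofNat 18,
  .negSucc 7, .ofNat 0, .negSucc 1, .negSucc 9, .ofNat 4, .negSucc 5, .ofNat 6, .negSucc 5, .ofNat 0,
  .ofNat 0, .ofNat 4, .negSucc 3, .ofNat 6, .ofNat 2, .ofNat 0, .ofNat 0, .ofNat 0, .ofNat 0, .ofNat 0,
  .ofNat 0, .ofNat 0, .ofNat 2, .negSucc 3, .negSucc 1, .ofNat 0, .ofNat 8, .ofNat 0, .ofNat 0, .ofNat 0,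
  .ofNat 8, .negSucc 3, .ofNat 0, .negSucc 7, .negSucc 3, .ofNat 0, .ofNat 0, .negSucc 7, .ofNat 0, .ofNat 8,
  .ofNat 0, .negSucc 5, .ofNat 0, .ofNat 12, .ofNat 4, .ofNat 10, .negSucc 3, .ofNat 0, .ofNat 0, .ofNat 0,
  .negSucc 7, .negSucc 3, .ofNat 2, .negSucc 5, .ofNat 0, .ofNat 0, .ofNat 0, .ofNat 2, .ofNat 2]

/-- the values at the type 69 -/
def cY69 : List ℤ :=
  [.ofNat 4, .ofNat 1, .ofNat 1, .ofNat 3, .negSucc 8, .ofNat 5, .ofNat 2, .negSucc 8, .negSucc 8, .ofNat 4,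
  .ofNat 0, .ofNat 1, .ofNat 5, .negSucc 1, .ofNat 3, .negSucc 2, .ofNat 3, .ofNat 0, .ofNat 0, .negSucc 1,
  .ofNat 2, .negSucc 2, .negSucc 0, .ofNat 0, .ofNat 0, .ofNat 0, .ofNat 0, .ofNat 0, .ofNat 0, .ofNat 0,
  .negSucc 0, .ofNat 2, .ofNat 1, .ofNat 0, .negSucc 3, .ofNat 0, .ofNat 0, .ofNat 0, .negSucc 3, .ofNat 2,
  .ofNat 0, .ofNat 4, .ofNat 2, .ofNat 0, .ofNat 0, .ofNat 4, .ofNat 0, .negSucc 3, .ofNat 0, .ofNat 3,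
  .ofNat 0, .negSucc 5, .negSucc 1, .negSucc 4, .ofNat 2, .ofNat 0, .ofNat 0, .ofNat 0, .ofNat 4, .ofNat 2,
  .negSucc 0, .ofNat 3, .ofNat 0, .ofNat 0, .ofNat 0, .negSucc 0, .negSucc 0]

/-- the values at the type 70 -/
def cY70 : List ℤ :=
  [.ofNat 0, .ofNat 0, .ofNat 0, .ofNat 0, .ofNat 0, .ofNat 0, .ofNat 0, .ofNat 0, .ofNat 0, .ofNat 0,
  .ofNat 0, .ofNat 0, .ofNat 0, .ofNat 0, .ofNat 0, .ofNat 0, .ofNat 0, .ofNat 0, .ofNat 0, .ofNat 0,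
  .ofNat 0, .ofNat 0, .ofNat 0, .ofNat 0, .ofNat 0, .ofNat 0, .ofNat 0, .ofNat 0, .ofNat 0, .ofNat 0,
  .ofNat 0, .ofNat 0, .ofNat 0, .ofNat 0, .ofNat 0, .ofNat 0, .ofNat 0, .ofNat 0, .ofNat 0, .ofNat 0,
  .ofNat 0, .ofNat 0, .ofNat 0, .ofNat 0, .ofNat 0, .ofNat 0, .ofNat 0, .ofNat 0, .ofNat 0, .ofNat 0,
  .ofNat 0, .ofNat 0, .ofNat 0, .ofNat 0, .ofNat 0, .ofNat 0, .ofNat 0, .ofNat 0, .ofNat 0, .ofNat 0,
  .ofNat 0, .ofNat 0, .ofNat 0, .ofNat 0, .ofNat 0, .ofNat 0, .ofNat 0]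

/-- the values at the type 71 -/
def cY71 : List ℤ :=
  [.ofNat 4, .negSucc 5, .negSucc 5, .ofNat 2, .ofNat 6, .negSucc 1, .ofNat 0, .negSucc 5, .ofNat 6,
  .ofNat 4, .ofNat 12, .negSucc 1, .negSucc 5, .ofNat 12, .negSucc 1, .negSucc 5, .ofNat 6, .negSucc 3,
  .ofNat 4, .negSucc 3, .ofNat 4, .negSucc 5, .negSucc 1, .ofNat 8, .negSucc 7, .negSucc 3, .negSucc 7,
  .negSucc 7, .ofNat 8, .ofNat 0, .negSucc 1, .ofNat 12, .negSucc 5, .ofNat 0, .ofNat 0, .ofNat 0, .ofNat 0,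
  .ofNat 0, .ofNat 0, .ofNat 0, .ofNat 0, .ofNat 0, .negSucc 11, .negSucc 7, .negSucc 7, .ofNat 0, .ofNat 0,
  .ofNat 0, .ofNat 0, .negSucc 5, .negSucc 3, .ofNat 0, .ofNat 0, .negSucc 1, .negSucc 3, .ofNat 0, .ofNat 4,
  .ofNat 0, .ofNat 8, .negSucc 7, .negSucc 5, .ofNat 6, .ofNat 4, .ofNat 0, .ofNat 0, .ofNat 6, .negSucc 1]

/-- the values at the type 72 -/
def cY72 : List ℤ :=
  [.negSucc 1, .ofNat 3, .ofNat 3, .negSucc 0, .negSucc 2, .ofNat 1, .ofNat 0, .ofNat 3, .negSucc 2,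
  .negSucc 1, .negSucc 5, .ofNat 1, .ofNat 3, .negSucc 5, .ofNat 1, .ofNat 3, .negSucc 2, .ofNat 2,
  .negSucc 1, .ofNat 2, .negSucc 1, .ofNat 3, .ofNat 1, .negSucc 3, .ofNat 4, .ofNat 2, .ofNat 4, .ofNat 4,
  .negSucc 3, .ofNat 0, .ofNat 1, .negSucc 5, .ofNat 3, .ofNat 0, .ofNat 0, .ofNat 0, .ofNat 0, .ofNat 0,
  .ofNat 0, .ofNat 0, .ofNat 0, .ofNat 0, .ofNat 6, .ofNat 4, .ofNat 4, .ofNat 0, .ofNat 0, .ofNat 0,
  .ofNat 0, .ofNat 3, .ofNat 2, .ofNat 0, .ofNat 0, .ofNat 1, .ofNat 2, .ofNat 0, .negSucc 1, .ofNat 0,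
  .negSucc 3, .ofNat 4, .ofNat 3, .negSucc 2, .negSucc 1, .ofNat 0, .ofNat 0, .negSucc 2, .ofNat 1]

/-- the values at the type 73 -/
def cY73 : List ℤ :=
  [.negSucc 1, .negSucc 1, .negSucc 1, .negSucc 11, .ofNat 0, .ofNat 2, .ofNat 2, .negSucc 5, .negSucc 5,
  .ofNat 4, .ofNat 12, .ofNat 10, .ofNat 8, .ofNat 4, .ofNat 0, .ofNat 6, .negSucc 11, .ofNat 12, .ofNat 0,
  .ofNat 28, .ofNat 8, .negSucc 5, .ofNat 8, .ofNat 0, .ofNat 0, .ofNat 0, .ofNat 6, .ofNat 0, .ofNat 0,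
  .negSucc 5, .negSucc 3, .negSucc 9, .negSucc 1, .ofNat 0, .ofNat 8, .ofNat 0, .ofNat 0, .ofNat 0, .ofNat 8,
  .ofNat 2, .ofNat 0, .negSucc 1, .ofNat 8, .negSucc 11, .negSucc 23, .ofNat 16, .ofNat 0, .ofNat 20,
  .negSucc 11, .negSucc 5, .ofNat 0, .ofNat 6, .negSucc 13, .negSucc 13, .ofNat 8, .ofNat 18, .ofNat 24,
  .ofNat 0, .negSucc 7, .negSucc 3, .negSucc 9, .ofNat 0, .ofNat 0, .ofNat 0, .ofNat 0, .negSucc 3,
  .negSucc 3]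

/-- the values at the type 74 -/
def cY74 : List ℤ :=
  [.ofNat 1, .ofNat 1, .ofNat 1, .ofNat 6, .ofNat 0, .negSucc 0, .negSucc 0, .ofNat 3, .ofNat 3, .negSucc 1,
  .negSucc 5, .negSucc 4, .negSucc 3, .negSucc 1, .ofNat 0, .negSucc 2, .ofNat 6, .negSucc 5, .ofNat 0,
  .negSucc 13, .negSucc 3, .ofNat 3, .negSucc 3, .ofNat 0, .ofNat 0, .ofNat 0, .negSucc 2, .ofNat 0,
  .ofNat 0, .ofNat 3, .ofNat 2, .ofNat 5, .ofNat 1, .ofNat 0, .negSucc 3, .ofNat 0, .ofNat 0, .ofNat 0,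
  .negSucc 3, .negSucc 0, .ofNat 0, .ofNat 1, .negSucc 3, .ofNat 6, .ofNat 12, .negSucc 7, .ofNat 0,
  .negSucc 9, .ofNat 6, .ofNat 3, .ofNat 0, .negSucc 2, .ofNat 7, .ofNat 7, .negSucc 3, .negSucc 8,
  .negSucc 11, .ofNat 0, .ofNat 4, .ofNat 2, .ofNat 5, .ofNat 0, .ofNat 0, .ofNat 0, .ofNat 0, .ofNat 2,
  .ofNat 2]

/-- the values at the type 75 -/
def cY75 : List ℤ :=
  [.ofNat 0, .ofNat 0, .ofNat 0, .ofNat 0, .ofNat 0, .ofNat 0, .ofNat 0, .ofNat 0, .ofNat 0, .ofNat 0,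
  .ofNat 0, .ofNat 0, .ofNat 0, .ofNat 0, .ofNat 0, .ofNat 0, .ofNat 0, .ofNat 0, .ofNat 0, .ofNat 0,
  .ofNat 0, .ofNat 0, .ofNat 0, .ofNat 0, .ofNat 0, .ofNat 0, .ofNat 0, .ofNat 0, .ofNat 0, .ofNat 0,
  .ofNat 0, .ofNat 0, .ofNat 0, .ofNat 0, .ofNat 0, .ofNat 0, .ofNat 0, .ofNat 0, .ofNat 0, .ofNat 0,
  .ofNat 0, .ofNat 0, .ofNat 0, .ofNat 0, .ofNat 0, .ofNat 0, .ofNat 0, .ofNat 0, .ofNat 0, .ofNat 0,
  .ofNat 0, .ofNat 0, .ofNat 0, .ofNat 0, .ofNat 0, .ofNat 0, .ofNat 0, .ofNat 0, .ofNat 0, .ofNat 0,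
  .ofNat 0, .ofNat 0, .ofNat 0, .ofNat 0, .ofNat 0, .ofNat 0, .ofNat 0]

/-- the values at the type 76 -/
def cY76 : List ℤ :=
  [.ofNat 0, .negSucc 2, .negSucc 2, .ofNat 3, .ofNat 3, .negSucc 2, .ofNat 6, .negSucc 8, .ofNat 3,
  .ofNat 0, .negSucc 11, .ofNat 9, .negSucc 14, .negSucc 17, .negSucc 8, .ofNat 9, .negSucc 8, .negSucc 11,
  .negSucc 11, .ofNat 6, .negSucc 5, .ofNat 9, .negSucc 20, .ofNat 0, .ofNat 0, .ofNat 12, .ofNat 0,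
  .ofNat 0, .ofNat 0, .ofNat 0, .ofNat 3, .negSucc 5, .negSucc 2, .ofNat 0, .negSucc 11, .ofNat 0, .ofNat 0,
  .ofNat 0, .ofNat 12, .ofNat 6, .ofNat 0, .negSucc 11, .negSucc 5, .negSucc 23, .ofNat 24, .ofNat 12,
  .ofNat 0, .negSucc 11, .ofNat 0, .ofNat 3, .negSucc 11, .ofNat 6, .negSucc 5, .negSucc 8, .negSucc 5,
  .ofNat 0, .ofNat 12, .ofNat 0, .ofNat 12, .ofNat 6, .negSucc 8, .ofNat 15, .ofNat 12, .negSucc 23,
  .ofNat 0, .ofNat 3, .ofNat 3]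

/-- the values at the type 77 -/
def cY77 : List ℤ :=
  [.ofNat 0, .ofNat 6, .ofNat 6, .negSucc 5, .negSucc 5, .ofNat 6, .negSucc 11, .ofNat 18, .negSucc 5,
  .ofNat 0, .ofNat 24, .negSucc 17, .ofNat 30, .ofNat 36, .ofNat 18, .negSucc 17, .ofNat 18, .ofNat 24,
  .ofNat 24, .negSucc 11, .ofNat 12, .negSucc 17, .ofNat 42, .ofNat 0, .ofNat 0, .negSucc 23, .ofNat 0,
  .ofNat 0, .ofNat 0, .ofNat 0, .negSucc 5, .ofNat 12, .ofNat 6, .ofNat 0, .ofNat 24, .ofNat 0, .ofNat 0,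
  .ofNat 0, .negSucc 23, .negSucc 11, .ofNat 0, .ofNat 24, .ofNat 12, .ofNat 48, .negSucc 47, .negSucc 23,
  .ofNat 0, .ofNat 24, .ofNat 0, .negSucc 5, .ofNat 24, .negSucc 11, .ofNat 12, .ofNat 18, .ofNat 12,
  .ofNat 0, .negSucc 23, .ofNat 0, .negSucc 23, .negSucc 11, .ofNat 18, .negSucc 29, .negSucc 23, .ofNat 48,
  .ofNat 0, .negSucc 5, .negSucc 5]

/-- the values at the type 78 -/
def cY78 : List ℤ :=
  [.ofNat 0, .ofNat 0, .ofNat 0, .ofNat 0, .ofNat 0, .ofNat 0, .ofNat 0, .ofNat 0, .ofNat 0, .ofNat 0,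
  .ofNat 0, .ofNat 0, .ofNat 0, .ofNat 0, .ofNat 0, .ofNat 0, .ofNat 0, .ofNat 0, .ofNat 0, .ofNat 0,
  .ofNat 0, .ofNat 0, .ofNat 0, .ofNat 0, .ofNat 0, .ofNat 0, .ofNat 0, .ofNat 0, .ofNat 0, .ofNat 0,
  .ofNat 0, .ofNat 0, .ofNat 0, .ofNat 0, .ofNat 0, .ofNat 0, .ofNat 0, .ofNat 0, .ofNat 0, .ofNat 0,
  .ofNat 0, .ofNat 0, .ofNat 0, .ofNat 0, .ofNat 0, .ofNat 0, .ofNat 0, .ofNat 0, .ofNat 0, .ofNat 0,
  .ofNat 0, .ofNat 0, .ofNat 0, .ofNat 0, .ofNat 0, .ofNat 0, .ofNat 0, .ofNat 0, .ofNat 0, .ofNat 0,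
  .ofNat 0, .ofNat 0, .ofNat 0, .ofNat 0, .ofNat 0, .ofNat 0, .ofNat 0]

/-- the values at the type 79 -/
def cY79 : List ℤ :=
  [.negSucc 7, .ofNat 0, .ofNat 0, .ofNat 8, .negSucc 23, .negSucc 7, .negSucc 47, .ofNat 48, .ofNat 0,
  .ofNat 40, .negSucc 23, .negSucc 7, .ofNat 0, .ofNat 0, .negSucc 7, .ofNat 0, .ofNat 0, .negSucc 39,
  .negSucc 7, .negSucc 39, .negSucc 31, .ofNat 48, .negSucc 31, .ofNat 32, .negSucc 31, .ofNat 8, .ofNat 40,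
  .negSucc 31, .ofNat 32, .negSucc 47, .negSucc 7, .ofNat 0, .ofNat 0, .ofNat 0, .ofNat 0, .ofNat 0,
  .ofNat 0, .ofNat 0, .ofNat 0, .ofNat 0, .ofNat 0, .ofNat 0, .ofNat 0, .ofNat 16, .negSucc 79, .ofNat 0,
  .ofNat 0, .ofNat 0, .ofNat 0, .negSucc 23, .ofNat 8, .negSucc 23, .negSucc 47, .negSucc 7, .ofNat 32,
  .ofNat 24, .ofNat 16, .ofNat 0, .ofNat 8, .ofNat 40, .ofNat 0, .negSucc 23, .negSucc 7, .ofNat 0, .ofNat 0,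
  .ofNat 0, .negSucc 7]

/-- the values at the type 80 -/
def cY80 : List ℤ :=
  [.ofNat 4, .ofNat 0, .ofNat 0, .negSucc 3, .ofNat 12, .ofNat 4, .ofNat 24, .negSucc 23, .ofNat 0,
  .negSucc 19, .ofNat 12, .ofNat 4, .ofNat 0, .ofNat 0, .ofNat 4, .ofNat 0, .ofNat 0, .ofNat 20, .ofNat 4,
  .ofNat 20, .ofNat 16, .negSucc 23, .ofNat 16, .negSucc 15, .ofNat 16, .negSucc 3, .negSucc 19, .ofNat 16,
  .negSucc 15, .ofNat 24, .ofNat 4, .ofNat 0, .ofNat 0, .ofNat 0, .ofNat 0, .ofNat 0, .ofNat 0, .ofNat 0,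
  .ofNat 0, .ofNat 0, .ofNat 0, .ofNat 0, .ofNat 0, .negSucc 7, .ofNat 40, .ofNat 0, .ofNat 0, .ofNat 0,
  .ofNat 0, .ofNat 12, .negSucc 3, .ofNat 12, .ofNat 24, .ofNat 4, .negSucc 15, .negSucc 11, .negSucc 7,
  .ofNat 0, .negSucc 3, .negSucc 19, .ofNat 0, .ofNat 12, .ofNat 4, .ofNat 0, .ofNat 0, .ofNat 0, .ofNat 4]

/-- the values at the type 81 -/
def cY81 : List ℤ :=
  [.negSucc 17, .ofNat 30, .negSucc 41, .ofNat 60, .negSucc 47, .negSucc 5, .negSucc 77, .ofNat 18,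
  .ofNat 42, .negSucc 35, .ofNat 12, .ofNat 18, .ofNat 24, .negSucc 35, .ofNat 0, .negSucc 17, .ofNat 36,
  .negSucc 59, .ofNat 48, .ofNat 12, .ofNat 24, .ofNat 18, .negSucc 23, .ofNat 0, .ofNat 0, .negSucc 47,
  .negSucc 89, .ofNat 0, .ofNat 0, .ofNat 18, .negSucc 11, .ofNat 6, .ofNat 102, .ofNat 0, .negSucc 23,
  .ofNat 0, .ofNat 0, .ofNat 0, .ofNat 24, .ofNat 66, .ofNat 0, .negSucc 41, .ofNat 24, .negSucc 11,
  .ofNat 120, .negSucc 47, .ofNat 0, .negSucc 59, .negSucc 107, .negSucc 29, .ofNat 48, .ofNat 30,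
  .negSucc 29, .negSucc 53, .ofNat 24, .ofNat 18, .ofNat 24, .ofNat 0, .negSucc 119, .ofNat 12, .negSucc 89,
  .ofNat 48, .negSucc 47, .ofNat 96, .ofNat 0, .ofNat 60, .negSucc 11]

/-- the values at the type 82 -/
def cY82 : List ℤ :=
  [.ofNat 9, .negSucc 14, .ofNat 21, .negSucc 29, .ofNat 24, .ofNat 3, .ofNat 39, .negSucc 8, .negSucc 20,
  .ofNat 18, .negSucc 5, .negSucc 8, .negSucc 11, .ofNat 18, .ofNat 0, .ofNat 9, .negSucc 17, .ofNat 30,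
  .negSucc 23, .negSucc 5, .negSucc 11, .negSucc 8, .ofNat 12, .ofNat 0, .ofNat 0, .ofNat 24, .ofNat 45,
  .ofNat 0, .ofNat 0, .negSucc 8, .ofNat 6, .negSucc 2, .negSucc 50, .ofNat 0, .ofNat 12, .ofNat 0, .ofNat 0,
  .ofNat 0, .negSucc 11, .negSucc 32, .ofNat 0, .ofNat 21, .negSucc 11, .ofNat 6, .negSucc 59, .ofNat 24,
  .ofNat 0, .ofNat 30, .ofNat 54, .ofNat 15, .negSucc 23, .negSucc 14, .ofNat 15, .ofNat 27, .negSucc 11,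
  .negSucc 8, .negSucc 11, .ofNat 0, .ofNat 60, .negSucc 5, .ofNat 45, .negSucc 23, .ofNat 24, .negSucc 47,
  .ofNat 0, .negSucc 29, .ofNat 6]

/-- the values at the type 83 -/
def cY83 : List ℤ :=
  [.ofNat 0, .ofNat 0, .ofNat 0, .ofNat 0, .ofNat 0, .ofNat 0, .ofNat 0, .ofNat 0, .ofNat 0, .ofNat 0,
  .ofNat 0, .ofNat 0, .ofNat 0, .ofNat 0, .ofNat 0, .ofNat 0, .ofNat 0, .ofNat 0, .ofNat 0, .ofNat 0,
  .ofNat 0, .ofNat 0, .ofNat 0, .ofNat 0, .ofNat 0, .ofNat 0, .ofNat 0, .ofNat 0, .ofNat 0, .ofNat 0,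
  .ofNat 0, .ofNat 0, .ofNat 0, .ofNat 0, .ofNat 0, .ofNat 0, .ofNat 0, .ofNat 0, .ofNat 0, .ofNat 0,
  .ofNat 0, .ofNat 0, .ofNat 0, .ofNat 0, .ofNat 0, .ofNat 0, .ofNat 0, .ofNat 0, .ofNat 0, .ofNat 0,
  .ofNat 0, .ofNat 0, .ofNat 0, .ofNat 0, .ofNat 0, .ofNat 0, .ofNat 0, .ofNat 0, .ofNat 0, .ofNat 0,
  .ofNat 0, .ofNat 0, .ofNat 0, .ofNat 0, .ofNat 0, .ofNat 0, .ofNat 0]

/-- the values at the type 84 -/
def cY84 : List ℤ :=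
  [.ofNat 0, .ofNat 6, .ofNat 0, .ofNat 0, .ofNat 0, .negSucc 5, .ofNat 0, .ofNat 0, .negSucc 5, .ofNat 6,
  .ofNat 0, .negSucc 5, .ofNat 0, .ofNat 0, .ofNat 0, .ofNat 0, .ofNat 0, .ofNat 0, .ofNat 6, .ofNat 0,
  .ofNat 0, .ofNat 0, .ofNat 0, .negSucc 5, .negSucc 5, .ofNat 0, .ofNat 0, .ofNat 6, .ofNat 6, .ofNat 0,
  .ofNat 0, .ofNat 0, .ofNat 0, .ofNat 0, .ofNat 6, .ofNat 0, .negSucc 5, .ofNat 0, .ofNat 0, .negSucc 5,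
  .negSucc 5, .ofNat 0, .ofNat 0, .ofNat 0, .ofNat 12, .ofNat 12, .ofNat 12, .ofNat 0, .ofNat 0, .negSucc 5,
  .ofNat 6, .ofNat 0, .ofNat 0, .ofNat 6, .ofNat 0, .ofNat 0, .ofNat 0, .ofNat 0, .ofNat 0, .ofNat 0,
  .negSucc 5, .ofNat 0, .ofNat 0, .negSucc 5, .ofNat 0, .ofNat 0, .negSucc 5]

/-- the values at the type 85 -/
def cY85 : List ℤ :=
  [.ofNat 0, .negSucc 2, .ofNat 0, .ofNat 0, .ofNat 0, .ofNat 3, .ofNat 0, .ofNat 0, .ofNat 3, .negSucc 2,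
  .ofNat 0, .ofNat 3, .ofNat 0, .ofNat 0, .ofNat 0, .ofNat 0, .ofNat 0, .ofNat 0, .negSucc 2, .ofNat 0,
  .ofNat 0, .ofNat 0, .ofNat 0, .ofNat 3, .ofNat 3, .ofNat 0, .ofNat 0, .negSucc 2, .negSucc 2, .ofNat 0,
  .ofNat 0, .ofNat 0, .ofNat 0, .ofNat 0, .negSucc 2, .ofNat 0, .ofNat 3, .ofNat 0, .ofNat 0, .ofNat 3,
  .ofNat 3, .ofNat 0, .ofNat 0, .ofNat 0, .negSucc 5, .negSucc 5, .negSucc 5, .ofNat 0, .ofNat 0, .ofNat 3,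
  .negSucc 2, .ofNat 0, .ofNat 0, .negSucc 2, .ofNat 0, .ofNat 0, .ofNat 0, .ofNat 0, .ofNat 0, .ofNat 0,
  .ofNat 3, .ofNat 0, .ofNat 0, .ofNat 3, .ofNat 0, .ofNat 0, .ofNat 3]

/-- the values at the type 86 -/
def cY86 : List ℤ :=
  [.ofNat 2, .negSucc 1, .ofNat 2, .negSucc 1, .ofNat 0, .ofNat 0, .ofNat 4, .ofNat 0, .ofNat 0, .negSucc 5,
  .ofNat 2, .ofNat 0, .ofNat 0, .negSucc 1, .ofNat 0, .negSucc 5, .ofNat 0, .negSucc 1, .ofNat 6, .ofNat 0,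
  .ofNat 0, .ofNat 4, .ofNat 0, .negSucc 1, .ofNat 6, .ofNat 2, .ofNat 0, .negSucc 1, .ofNat 6, .ofNat 2,
  .ofNat 0, .negSucc 5, .ofNat 0, .ofNat 6, .ofNat 0, .negSucc 3, .negSucc 5, .negSucc 3, .ofNat 0, .ofNat 0,
  .ofNat 6, .ofNat 0, .ofNat 0, .ofNat 0, .ofNat 0, .ofNat 0, .negSucc 11, .ofNat 0, .ofNat 0, .negSucc 5,
  .ofNat 2, .negSucc 5, .negSucc 1, .ofNat 2, .ofNat 0, .ofNat 0, .ofNat 0, .negSucc 3, .ofNat 0, .ofNat 0,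
  .ofNat 0, .ofNat 0, .ofNat 6, .ofNat 0, .ofNat 4, .ofNat 0, .negSucc 3]

/-- the values at the type 87 -/
def cY87 : List ℤ :=
  [.negSucc 0, .ofNat 1, .negSucc 0, .ofNat 1, .ofNat 0, .ofNat 0, .negSucc 1, .ofNat 0, .ofNat 0, .ofNat 3,
  .negSucc 0, .ofNat 0, .ofNat 0, .ofNat 1, .ofNat 0, .ofNat 3, .ofNat 0, .ofNat 1, .negSucc 2, .ofNat 0,
  .ofNat 0, .negSucc 1, .ofNat 0, .ofNat 1, .negSucc 2, .negSucc 0, .ofNat 0, .ofNat 1, .negSucc 2,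
  .negSucc 0, .ofNat 0, .ofNat 3, .ofNat 0, .negSucc 2, .ofNat 0, .ofNat 2, .ofNat 3, .ofNat 2, .ofNat 0,
  .ofNat 0, .negSucc 2, .ofNat 0, .ofNat 0, .ofNat 0, .ofNat 0, .ofNat 0, .ofNat 6, .ofNat 0, .ofNat 0,
  .ofNat 3, .negSucc 0, .ofNat 3, .ofNat 1, .negSucc 0, .ofNat 0, .ofNat 0, .ofNat 0, .ofNat 2, .ofNat 0,
  .ofNat 0, .ofNat 0, .ofNat 0, .negSucc 2, .ofNat 0, .negSucc 1, .ofNat 0, .ofNat 2]

/-- the values at the type 88 -/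
def cY88 : List ℤ :=
  [.negSucc 1, .negSucc 0, .ofNat 0, .ofNat 0, .ofNat 0, .ofNat 0, .ofNat 2, .ofNat 0, .negSucc 0, .ofNat 0,
  .ofNat 0, .ofNat 0, .ofNat 0, .ofNat 0, .negSucc 0, .negSucc 1, .ofNat 0, .negSucc 0, .ofNat 0, .ofNat 0,
  .ofNat 0, .ofNat 1, .ofNat 0, .ofNat 0, .ofNat 0, .negSucc 0, .ofNat 0, .ofNat 0, .ofNat 0, .ofNat 0,
  .ofNat 0, .ofNat 0, .ofNat 0, .negSucc 2, .negSucc 0, .ofNat 2, .ofNat 0, .ofNat 0, .ofNat 0, .ofNat 0,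
  .ofNat 0, .ofNat 0, .ofNat 2, .ofNat 0, .ofNat 0, .ofNat 0, .ofNat 0, .ofNat 2, .ofNat 0, .negSucc 0,
  .ofNat 1, .ofNat 0, .ofNat 0, .ofNat 0, .negSucc 0, .ofNat 0, .ofNat 0, .ofNat 1, .ofNat 0, .ofNat 0,
  .ofNat 0, .ofNat 0, .ofNat 0, .ofNat 0, .ofNat 1, .ofNat 0, .ofNat 1]

/-- the values at the type 89 -/
def cY89 : List ℤ :=
  [.ofNat 4, .ofNat 2, .ofNat 0, .ofNat 0, .ofNat 0, .ofNat 0, .negSucc 3, .ofNat 0, .ofNat 2, .ofNat 0,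
  .ofNat 0, .ofNat 0, .ofNat 0, .ofNat 0, .ofNat 2, .ofNat 4, .ofNat 0, .ofNat 2, .ofNat 0, .ofNat 0,
  .ofNat 0, .negSucc 1, .ofNat 0, .ofNat 0, .ofNat 0, .ofNat 2, .ofNat 0, .ofNat 0, .ofNat 0, .ofNat 0,
  .ofNat 0, .ofNat 0, .ofNat 0, .ofNat 6, .ofNat 2, .negSucc 3, .ofNat 0, .ofNat 0, .ofNat 0, .ofNat 0,
  .ofNat 0, .ofNat 0, .negSucc 3, .ofNat 0, .ofNat 0, .ofNat 0, .ofNat 0, .negSucc 3, .ofNat 0, .ofNat 2,
  .negSucc 1, .ofNat 0, .ofNat 0, .ofNat 0, .ofNat 2, .ofNat 0, .ofNat 0, .negSucc 1, .ofNat 0, .ofNat 0,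
  .ofNat 0, .ofNat 0, .ofNat 0, .ofNat 0, .negSucc 1, .ofNat 0, .negSucc 1]

/-- the values at the type 90 -/
def cY90 : List ℤ :=
  [.ofNat 2, .ofNat 2, .negSucc 1, .negSucc 5, .ofNat 4, .ofNat 2, .ofNat 2, .negSucc 3, .negSucc 5,
  .negSucc 5, .negSucc 3, .negSucc 5, .ofNat 6, .ofNat 6, .ofNat 6, .ofNat 6, .negSucc 1, .negSucc 5,
  .ofNat 4, .ofNat 0, .ofNat 4, .ofNat 6, .negSucc 5, .ofNat 0, .ofNat 0, .negSucc 5, .ofNat 0, .negSucc 3,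
  .negSucc 3, .ofNat 0, .ofNat 6, .ofNat 0, .ofNat 0, .ofNat 0, .ofNat 0, .ofNat 0, .ofNat 0, .negSucc 3,
  .ofNat 0, .ofNat 0, .ofNat 0, .ofNat 6, .ofNat 0, .ofNat 8, .ofNat 0, .negSucc 11, .ofNat 0, .ofNat 0,
  .ofNat 0, .negSucc 1, .negSucc 1, .ofNat 6, .negSucc 5, .ofNat 2, .ofNat 0, .negSucc 7, .ofNat 8, .ofNat 6,
  .ofNat 0, .ofNat 0, .ofNat 0, .ofNat 2, .ofNat 0, .negSucc 3, .negSucc 5, .ofNat 0, .negSucc 3]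

/-- the values at the type 91 -/
def cY91 : List ℤ :=
  [.negSucc 0, .negSucc 0, .ofNat 1, .ofNat 3, .negSucc 1, .negSucc 0, .negSucc 0, .ofNat 2, .ofNat 3,
  .ofNat 3, .ofNat 2, .ofNat 3, .negSucc 2, .negSucc 2, .negSucc 2, .negSucc 2, .ofNat 1, .ofNat 3,
  .negSucc 1, .ofNat 0, .negSucc 1, .negSucc 2, .ofNat 3, .ofNat 0, .ofNat 0, .ofNat 3, .ofNat 0, .ofNat 2,
  .ofNat 2, .ofNat 0, .negSucc 2, .ofNat 0, .ofNat 0, .ofNat 0, .ofNat 0, .ofNat 0, .ofNat 0, .ofNat 2,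
  .ofNat 0, .ofNat 0, .ofNat 0, .negSucc 2, .ofNat 0, .negSucc 3, .ofNat 0, .ofNat 6, .ofNat 0, .ofNat 0,
  .ofNat 0, .ofNat 1, .ofNat 1, .negSucc 2, .ofNat 3, .negSucc 0, .ofNat 0, .ofNat 4, .negSucc 3, .negSucc 2,
  .ofNat 0, .ofNat 0, .ofNat 0, .negSucc 0, .ofNat 0, .ofNat 2, .ofNat 3, .ofNat 0, .ofNat 2]

/-- the values at the type 92 -/
def cY92 : List ℤ :=
  [.negSucc 9, .ofNat 20, .negSucc 19, .ofNat 30, .negSucc 19, .negSucc 9, .negSucc 9, .negSucc 9, .ofNat 0,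
  .ofNat 0, .negSucc 39, .negSucc 29, .ofNat 0, .ofNat 0, .negSucc 29, .ofNat 0, .negSucc 19, .ofNat 0,
  .ofNat 10, .ofNat 0, .ofNat 10, .negSucc 29, .ofNat 30, .ofNat 30, .ofNat 30, .ofNat 30, .ofNat 0,
  .negSucc 9, .negSucc 9, .ofNat 30, .negSucc 29, .ofNat 0, .ofNat 0, .ofNat 0, .ofNat 0, .ofNat 0, .ofNat 0,
  .ofNat 20, .ofNat 0, .ofNat 0, .ofNat 0, .ofNat 0, .ofNat 0, .ofNat 20, .ofNat 0, .ofNat 0, .ofNat 0,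
  .ofNat 0, .ofNat 0, .negSucc 19, .ofNat 10, .ofNat 30, .negSucc 29, .negSucc 9, .negSucc 29, .negSucc 19,
  .ofNat 20, .ofNat 0, .ofNat 30, .ofNat 0, .ofNat 0, .negSucc 39, .ofNat 30, .ofNat 20, .ofNat 0, .ofNat 0,
  .negSucc 9]

/-- the values at the type 93 -/
def cY93 : List ℤ :=
  [.ofNat 5, .negSucc 9, .ofNat 10, .negSucc 14, .ofNat 10, .ofNat 5, .ofNat 5, .ofNat 5, .ofNat 0, .ofNat 0,
  .ofNat 20, .ofNat 15, .ofNat 0, .ofNat 0, .ofNat 15, .ofNat 0, .ofNat 10, .ofNat 0, .negSucc 4, .ofNat 0,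
  .negSucc 4, .ofNat 15, .negSucc 14, .negSucc 14, .negSucc 14, .negSucc 14, .ofNat 0, .ofNat 5, .ofNat 5,
  .negSucc 14, .ofNat 15, .ofNat 0, .ofNat 0, .ofNat 0, .ofNat 0, .ofNat 0, .ofNat 0, .negSucc 9, .ofNat 0,
  .ofNat 0, .ofNat 0, .ofNat 0, .ofNat 0, .negSucc 9, .ofNat 0, .ofNat 0, .ofNat 0, .ofNat 0, .ofNat 0,
  .ofNat 10, .negSucc 4, .negSucc 14, .ofNat 15, .ofNat 5, .ofNat 15, .ofNat 10, .negSucc 9, .ofNat 0,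
  .negSucc 14, .ofNat 0, .ofNat 0, .ofNat 20, .negSucc 14, .negSucc 9, .ofNat 0, .ofNat 0, .ofNat 5]

/-- the values at the type 94 -/
def cY94 : List ℤ :=
  [.negSucc 3, .ofNat 2, .negSucc 1, .negSucc 5, .ofNat 10, .negSucc 3, .negSucc 3, .ofNat 2, .ofNat 6,
  .ofNat 6, .negSucc 3, .ofNat 0, .ofNat 12, .negSucc 5, .ofNat 6, .negSucc 5, .negSucc 1, .ofNat 6,
  .negSucc 1, .ofNat 0, .negSucc 1, .ofNat 6, .negSucc 5, .ofNat 6, .ofNat 6, .negSucc 5, .ofNat 0, .ofNat 2,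
  .ofNat 2, .ofNat 6, .ofNat 6, .ofNat 0, .ofNat 0, .ofNat 0, .ofNat 0, .ofNat 0, .ofNat 0, .ofNat 8,
  .ofNat 0, .ofNat 0, .ofNat 0, .ofNat 12, .ofNat 0, .negSucc 3, .ofNat 0, .ofNat 12, .ofNat 0, .ofNat 0,
  .ofNat 0, .negSucc 1, .ofNat 4, .ofNat 0, .ofNat 0, .negSucc 3, .negSucc 5, .ofNat 4, .negSucc 3,
  .negSucc 5, .ofNat 6, .ofNat 0, .ofNat 0, .ofNat 8, .ofNat 6, .ofNat 8, .negSucc 11, .ofNat 0, .ofNat 2]

/-- the values at the type 95 -/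
def cY95 : List ℤ :=
  [.ofNat 2, .negSucc 0, .ofNat 1, .ofNat 3, .negSucc 4, .ofNat 2, .ofNat 2, .negSucc 0, .negSucc 2,
  .negSucc 2, .ofNat 2, .ofNat 0, .negSucc 5, .ofNat 3, .negSucc 2, .ofNat 3, .ofNat 1, .negSucc 2, .ofNat 1,
  .ofNat 0, .ofNat 1, .negSucc 2, .ofNat 3, .negSucc 2, .negSucc 2, .ofNat 3, .ofNat 0, .negSucc 0,
  .negSucc 0, .negSucc 2, .negSucc 2, .ofNat 0, .ofNat 0, .ofNat 0, .ofNat 0, .ofNat 0, .ofNat 0, .negSucc 3,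
  .ofNat 0, .ofNat 0, .ofNat 0, .negSucc 5, .ofNat 0, .ofNat 2, .ofNat 0, .negSucc 5, .ofNat 0, .ofNat 0,
  .ofNat 0, .ofNat 1, .negSucc 1, .ofNat 0, .ofNat 0, .ofNat 2, .ofNat 3, .negSucc 1, .ofNat 2, .ofNat 3,
  .negSucc 2, .ofNat 0, .ofNat 0, .negSucc 3, .negSucc 2, .negSucc 3, .ofNat 6, .ofNat 0, .negSucc 0]

/-- the values at the type 96 -/
def cY96 : List ℤ :=
  [.ofNat 0, .negSucc 1, .negSucc 1, .ofNat 0, .ofNat 2, .ofNat 2, .ofNat 0, .negSucc 1, .ofNat 0, .ofNat 0,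
  .ofNat 0, .ofNat 0, .ofNat 0, .negSucc 1, .ofNat 0, .ofNat 2, .negSucc 1, .ofNat 0, .ofNat 0, .negSucc 1,
  .ofNat 0, .ofNat 0, .ofNat 0, .ofNat 0, .ofNat 0, .ofNat 0, .ofNat 0, .ofNat 0, .ofNat 0, .ofNat 2,
  .ofNat 0, .ofNat 0, .ofNat 0, .ofNat 2, .ofNat 0, .ofNat 0, .ofNat 0, .ofNat 0, .ofNat 0, .ofNat 2,
  .negSucc 1, .negSucc 1, .ofNat 4, .ofNat 0, .negSucc 3, .ofNat 0, .ofNat 4, .ofNat 4, .negSucc 3,
  .negSucc 1, .ofNat 0, .negSucc 1, .ofNat 2, .ofNat 0, .ofNat 0, .negSucc 1, .negSucc 1, .ofNat 0, .ofNat 0,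
  .ofNat 2, .ofNat 0, .ofNat 0, .ofNat 0, .ofNat 0, .ofNat 0, .ofNat 2, .negSucc 1]

/-- the values at the type 97 -/
def cY97 : List ℤ :=
  [.ofNat 0, .ofNat 1, .ofNat 1, .ofNat 0, .negSucc 0, .negSucc 0, .ofNat 0, .ofNat 1, .ofNat 0, .ofNat 0,
  .ofNat 0, .ofNat 0, .ofNat 0, .ofNat 1, .ofNat 0, .negSucc 0, .ofNat 1, .ofNat 0, .ofNat 0, .ofNat 1,
  .ofNat 0, .ofNat 0, .ofNat 0, .ofNat 0, .ofNat 0, .ofNat 0, .ofNat 0, .ofNat 0, .ofNat 0, .negSucc 0,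
  .ofNat 0, .ofNat 0, .ofNat 0, .negSucc 0, .ofNat 0, .ofNat 0, .ofNat 0, .ofNat 0, .ofNat 0, .negSucc 0,
  .ofNat 1, .ofNat 1, .negSucc 1, .ofNat 0, .ofNat 2, .ofNat 0, .negSucc 1, .negSucc 1, .ofNat 2, .ofNat 1,
  .ofNat 0, .ofNat 1, .negSucc 0, .ofNat 0, .ofNat 0, .ofNat 1, .ofNat 1, .ofNat 0, .ofNat 0, .negSucc 0,
  .ofNat 0, .ofNat 0, .ofNat 0, .ofNat 0, .ofNat 0, .negSucc 0, .ofNat 1]

/-- the values at the type 98 -/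
def cY98 : List ℤ :=
  [.ofNat 2, .ofNat 0, .ofNat 0, .ofNat 0, .ofNat 0, .negSucc 1, .ofNat 0, .ofNat 0, .ofNat 0, .ofNat 0,
  .ofNat 0, .ofNat 0, .ofNat 0, .ofNat 0, .ofNat 0, .ofNat 0, .ofNat 0, .ofNat 0, .ofNat 0, .ofNat 0,
  .ofNat 0, .ofNat 0, .ofNat 0, .ofNat 0, .ofNat 0, .ofNat 0, .ofNat 0, .ofNat 0, .ofNat 0, .ofNat 0,
  .ofNat 0, .ofNat 0, .ofNat 0, .negSucc 1, .ofNat 0, .ofNat 0, .ofNat 2, .ofNat 0, .ofNat 2, .ofNat 0,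
  .ofNat 0, .ofNat 0, .ofNat 0, .ofNat 4, .ofNat 0, .ofNat 4, .negSucc 3, .ofNat 0, .negSucc 3, .ofNat 0,
  .negSucc 1, .ofNat 0, .ofNat 0, .ofNat 0, .ofNat 0, .ofNat 0, .negSucc 1, .ofNat 2, .ofNat 0, .ofNat 0,
  .ofNat 0, .ofNat 0, .ofNat 0, .ofNat 0, .ofNat 0, .ofNat 0, .negSucc 1]

/-- the values at the type 99 -/
def cY99 : List ℤ :=
  [.negSucc 0, .ofNat 0, .ofNat 0, .ofNat 0, .ofNat 0, .ofNat 1, .ofNat 0, .ofNat 0, .ofNat 0, .ofNat 0,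
  .ofNat 0, .ofNat 0, .ofNat 0, .ofNat 0, .ofNat 0, .ofNat 0, .ofNat 0, .ofNat 0, .ofNat 0, .ofNat 0,
  .ofNat 0, .ofNat 0, .ofNat 0, .ofNat 0, .ofNat 0, .ofNat 0, .ofNat 0, .ofNat 0, .ofNat 0, .ofNat 0,
  .ofNat 0, .ofNat 0, .ofNat 0, .ofNat 1, .ofNat 0, .ofNat 0, .negSucc 0, .ofNat 0, .negSucc 0, .ofNat 0,
  .ofNat 0, .ofNat 0, .ofNat 0, .negSucc 1, .ofNat 0, .negSucc 1, .ofNat 2, .ofNat 0, .ofNat 2, .ofNat 0,
  .ofNat 1, .ofNat 0, .ofNat 0, .ofNat 0, .ofNat 0, .ofNat 0, .ofNat 1, .negSucc 0, .ofNat 0, .ofNat 0,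
  .ofNat 0, .ofNat 0, .ofNat 0, .ofNat 0, .ofNat 0, .ofNat 0, .ofNat 1]

/-- the values at the type 100 -/
def cY100 : List ℤ :=
  [.ofNat 0, .ofNat 0, .ofNat 0, .ofNat 0, .ofNat 0, .ofNat 0, .ofNat 0, .ofNat 0, .ofNat 0, .ofNat 0,
  .ofNat 0, .ofNat 0, .ofNat 0, .ofNat 0, .ofNat 0, .ofNat 0, .ofNat 0, .ofNat 0, .ofNat 0, .ofNat 0,
  .ofNat 0, .ofNat 0, .ofNat 0, .ofNat 0, .ofNat 0, .ofNat 0, .ofNat 0, .ofNat 0, .ofNat 0, .ofNat 0,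
  .ofNat 0, .ofNat 0, .ofNat 0, .ofNat 0, .ofNat 0, .ofNat 0, .ofNat 0, .ofNat 0, .ofNat 0, .ofNat 0,
  .ofNat 0, .ofNat 0, .ofNat 0, .ofNat 0, .ofNat 0, .ofNat 0, .ofNat 0, .ofNat 0, .ofNat 0, .ofNat 0,
  .ofNat 0, .ofNat 0, .ofNat 0, .ofNat 0, .ofNat 0, .ofNat 0, .ofNat 0, .ofNat 0, .ofNat 0, .ofNat 0,
  .ofNat 0, .ofNat 0, .ofNat 0, .ofNat 0, .ofNat 0, .ofNat 0, .ofNat 0]

/-- the values at the type 101 -/
def cY101 : List ℤ :=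
  [.ofNat 0, .ofNat 0, .ofNat 0, .ofNat 0, .ofNat 0, .ofNat 0, .ofNat 0, .ofNat 0, .ofNat 0, .ofNat 0,
  .ofNat 0, .ofNat 0, .ofNat 0, .ofNat 0, .ofNat 0, .ofNat 0, .ofNat 0, .ofNat 0, .ofNat 0, .ofNat 0,
  .ofNat 0, .ofNat 0, .ofNat 0, .ofNat 0, .ofNat 0, .ofNat 0, .ofNat 0, .ofNat 0, .ofNat 0, .ofNat 0,
  .ofNat 0, .ofNat 0, .ofNat 0, .ofNat 0, .ofNat 0, .ofNat 0, .ofNat 0, .ofNat 0, .ofNat 0, .ofNat 0,
  .ofNat 0, .ofNat 0, .ofNat 0, .ofNat 0, .ofNat 0, .ofNat 0, .ofNat 0, .ofNat 0, .ofNat 0, .ofNat 0,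
  .ofNat 0, .ofNat 0, .ofNat 0, .ofNat 0, .ofNat 0, .ofNat 0, .ofNat 0, .ofNat 0, .ofNat 0, .ofNat 0,
  .ofNat 0, .ofNat 0, .ofNat 0, .ofNat 0, .ofNat 0, .ofNat 0, .ofNat 0]

/-- the values at the type 102 -/
def cY102 : List ℤ :=
  [.ofNat 4, .negSucc 1, .negSucc 3, .negSucc 1, .ofNat 4, .ofNat 0, .ofNat 0, .ofNat 0, .ofNat 0,
  .negSucc 3, .ofNat 4, .ofNat 2, .ofNat 0, .negSucc 3, .ofNat 2, .ofNat 0, .ofNat 4, .ofNat 0, .ofNat 4,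
  .negSucc 1, .negSucc 1, .ofNat 0, .ofNat 0, .ofNat 4, .negSucc 3, .ofNat 0, .ofNat 8, .ofNat 4, .negSucc 3,
  .ofNat 0, .negSucc 3, .ofNat 0, .ofNat 0, .ofNat 0, .ofNat 0, .ofNat 4, .ofNat 0, .ofNat 0, .negSucc 3,
  .ofNat 0, .ofNat 0, .ofNat 0, .ofNat 0, .ofNat 0, .ofNat 8, .ofNat 0, .ofNat 0, .ofNat 0, .ofNat 0,
  .negSucc 1, .negSucc 1, .ofNat 2, .negSucc 1, .negSucc 1, .negSucc 1, .ofNat 2, .ofNat 2, .negSucc 1,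
  .ofNat 2, .ofNat 2, .ofNat 2, .negSucc 1, .negSucc 1, .ofNat 2, .ofNat 2, .negSucc 1, .negSucc 1]

/-- the values at the type 103 -/
def cY103 : List ℤ :=
  [.negSucc 1, .ofNat 1, .ofNat 2, .ofNat 1, .negSucc 1, .ofNat 0, .ofNat 0, .ofNat 0, .ofNat 0, .ofNat 2,
  .negSucc 1, .negSucc 0, .ofNat 0, .ofNat 2, .negSucc 0, .ofNat 0, .negSucc 1, .ofNat 0, .negSucc 1,
  .ofNat 1, .ofNat 1, .ofNat 0, .ofNat 0, .negSucc 1, .ofNat 2, .ofNat 0, .negSucc 3, .negSucc 1, .ofNat 2,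
  .ofNat 0, .ofNat 2, .ofNat 0, .ofNat 0, .ofNat 0, .ofNat 0, .negSucc 1, .ofNat 0, .ofNat 0, .ofNat 2,
  .ofNat 0, .ofNat 0, .ofNat 0, .ofNat 0, .ofNat 0, .negSucc 3, .ofNat 0, .ofNat 0, .ofNat 0, .ofNat 0,
  .ofNat 1, .ofNat 1, .negSucc 0, .ofNat 1, .ofNat 1, .ofNat 1, .negSucc 0, .negSucc 0, .ofNat 1, .negSucc 0,
  .negSucc 0, .negSucc 0, .ofNat 1, .ofNat 1, .negSucc 0, .negSucc 0, .ofNat 1, .ofNat 1]

/-- the values at the type 104 -/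
def cY104 : List ℤ :=
  [.ofNat 0, .ofNat 0, .ofNat 0, .ofNat 0, .ofNat 0, .ofNat 0, .ofNat 0, .ofNat 0, .ofNat 0, .ofNat 0,
  .ofNat 0, .ofNat 0, .ofNat 0, .ofNat 0, .ofNat 0, .ofNat 0, .ofNat 0, .ofNat 0, .ofNat 0, .ofNat 0,
  .ofNat 0, .ofNat 0, .ofNat 0, .ofNat 0, .ofNat 0, .ofNat 0, .ofNat 0, .ofNat 0, .ofNat 0, .ofNat 0,
  .ofNat 0, .ofNat 0, .ofNat 0, .ofNat 0, .ofNat 0, .ofNat 0, .ofNat 0, .ofNat 0, .ofNat 0, .ofNat 0,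
  .ofNat 0, .ofNat 0, .ofNat 0, .ofNat 0, .ofNat 0, .ofNat 0, .ofNat 0, .ofNat 0, .ofNat 0, .ofNat 0,
  .ofNat 0, .ofNat 0, .ofNat 0, .ofNat 0, .ofNat 0, .ofNat 0, .ofNat 0, .ofNat 0, .ofNat 0, .ofNat 0,
  .ofNat 0, .ofNat 0, .ofNat 0, .ofNat 0, .ofNat 0, .ofNat 0, .ofNat 0]

/-- the values at the type 105 -/
def cY105 : List ℤ :=
  [.negSucc 1, .negSucc 7, .ofNat 8, .ofNat 4, .negSucc 7, .negSucc 11, .ofNat 12, .ofNat 12, .ofNat 0,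
  .negSucc 9, .negSucc 7, .ofNat 2, .ofNat 0, .negSucc 3, .ofNat 2, .ofNat 0, .negSucc 7, .ofNat 6,
  .ofNat 10, .negSucc 1, .ofNat 10, .ofNat 0, .negSucc 5, .negSucc 1, .negSucc 9, .ofNat 6, .ofNat 2,
  .negSucc 1, .negSucc 9, .ofNat 0, .ofNat 2, .ofNat 0, .ofNat 0, .ofNat 0, .ofNat 0, .negSucc 7, .ofNat 0,
  .ofNat 12, .negSucc 3, .ofNat 0, .ofNat 0, .ofNat 0, .ofNat 0, .negSucc 11, .negSucc 3, .ofNat 0, .ofNat 0,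
  .ofNat 0, .ofNat 0, .negSucc 7, .negSucc 1, .negSucc 3, .ofNat 4, .negSucc 1, .ofNat 10, .negSucc 3,
  .ofNat 2, .ofNat 4, .ofNat 14, .negSucc 9, .negSucc 3, .ofNat 4, .negSucc 13, .ofNat 8, .negSucc 3,
  .ofNat 4, .negSucc 1]

/-- the values at the type 106 -/
def cY106 : List ℤ :=
  [.ofNat 1, .ofNat 4, .negSucc 3, .negSucc 1, .ofNat 4, .ofNat 6, .negSucc 5, .negSucc 5, .ofNat 0,
  .ofNat 5, .ofNat 4, .negSucc 0, .ofNat 0, .ofNat 2, .negSucc 0, .ofNat 0, .ofNat 4, .negSucc 2, .negSucc 4,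
  .ofNat 1, .negSucc 4, .ofNat 0, .ofNat 3, .ofNat 1, .ofNat 5, .negSucc 2, .negSucc 0, .ofNat 1, .ofNat 5,
  .ofNat 0, .negSucc 0, .ofNat 0, .ofNat 0, .ofNat 0, .ofNat 0, .ofNat 4, .ofNat 0, .negSucc 5, .ofNat 2,
  .ofNat 0, .ofNat 0, .ofNat 0, .ofNat 0, .ofNat 6, .ofNat 2, .ofNat 0, .ofNat 0, .ofNat 0, .ofNat 0,
  .ofNat 4, .ofNat 1, .ofNat 2, .negSucc 1, .ofNat 1, .negSucc 4, .ofNat 2, .negSucc 0, .negSucc 1,
  .negSucc 6, .ofNat 5, .ofNat 2, .negSucc 1, .ofNat 7, .negSucc 3, .ofNat 2, .negSucc 1, .ofNat 1]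

/-- the values at the type 107 -/
def cY107 : List ℤ :=
  [.negSucc 7, .ofNat 16, .negSucc 15, .ofNat 16, .negSucc 7, .ofNat 0, .ofNat 0, .ofNat 0, .ofNat 0,
  .negSucc 15, .ofNat 16, .ofNat 8, .ofNat 0, .negSucc 15, .ofNat 8, .ofNat 0, .ofNat 16, .ofNat 0,
  .negSucc 7, .negSucc 7, .negSucc 7, .ofNat 0, .ofNat 0, .negSucc 7, .ofNat 8, .ofNat 0, .ofNat 8,
  .negSucc 7, .ofNat 8, .ofNat 0, .ofNat 8, .ofNat 0, .ofNat 0, .ofNat 0, .ofNat 0, .negSucc 7, .ofNat 0,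
  .ofNat 0, .ofNat 8, .ofNat 0, .ofNat 0, .ofNat 0, .ofNat 0, .ofNat 0, .negSucc 15, .ofNat 0, .ofNat 0,
  .ofNat 0, .ofNat 0, .negSucc 7, .ofNat 16, .ofNat 8, .ofNat 16, .negSucc 7, .negSucc 7, .ofNat 8, .ofNat 8,
  .ofNat 16, .ofNat 8, .negSucc 15, .ofNat 8, .negSucc 7, .negSucc 7, .negSucc 15, .negSucc 15, .negSucc 7,
  .negSucc 7]

/-- the values at the type 108 -/
def cY108 : List ℤ :=
  [.ofNat 4, .negSucc 7, .ofNat 8, .negSucc 7, .ofNat 4, .ofNat 0, .ofNat 0, .ofNat 0, .ofNat 0, .ofNat 8,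
  .negSucc 7, .negSucc 3, .ofNat 0, .ofNat 8, .negSucc 3, .ofNat 0, .negSucc 7, .ofNat 0, .ofNat 4, .ofNat 4,
  .ofNat 4, .ofNat 0, .ofNat 0, .ofNat 4, .negSucc 3, .ofNat 0, .negSucc 3, .ofNat 4, .negSucc 3, .ofNat 0,
  .negSucc 3, .ofNat 0, .ofNat 0, .ofNat 0, .ofNat 0, .ofNat 4, .ofNat 0, .ofNat 0, .negSucc 3, .ofNat 0,
  .ofNat 0, .ofNat 0, .ofNat 0, .ofNat 0, .ofNat 8, .ofNat 0, .ofNat 0, .ofNat 0, .ofNat 0, .ofNat 4,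
  .negSucc 7, .negSucc 3, .negSucc 7, .ofNat 4, .ofNat 4, .negSucc 3, .negSucc 3, .negSucc 7, .negSucc 3,
  .ofNat 8, .negSucc 3, .ofNat 4, .ofNat 4, .ofNat 8, .ofNat 8, .ofNat 4, .ofNat 4]

/-- the values at the type 109 -/
def cY109 : List ℤ :=
  [.ofNat 0, .negSucc 5, .ofNat 0, .ofNat 6, .ofNat 0, .ofNat 0, .ofNat 0, .ofNat 0, .ofNat 0, .ofNat 0,
  .ofNat 0, .negSucc 5, .ofNat 0, .ofNat 0, .ofNat 6, .ofNat 0, .ofNat 0, .ofNat 0, .ofNat 0, .ofNat 6,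
  .negSucc 5, .ofNat 0, .ofNat 0, .ofNat 0, .ofNat 0, .ofNat 0, .ofNat 0, .ofNat 0, .ofNat 0, .ofNat 0,
  .ofNat 0, .ofNat 0, .ofNat 0, .ofNat 0, .ofNat 0, .ofNat 0, .ofNat 0, .ofNat 0, .ofNat 0, .ofNat 0,
  .ofNat 0, .ofNat 0, .ofNat 0, .ofNat 0, .ofNat 0, .ofNat 0, .ofNat 0, .ofNat 0, .ofNat 0, .ofNat 0,
  .ofNat 0, .ofNat 0, .ofNat 0, .ofNat 0, .ofNat 0, .ofNat 0, .ofNat 0, .ofNat 0, .ofNat 0, .ofNat 0,
  .ofNat 0, .ofNat 0, .ofNat 0, .ofNat 0, .ofNat 0, .ofNat 0, .ofNat 0]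

/-- the values at the type 110 -/
def cY110 : List ℤ :=
  [.ofNat 0, .ofNat 3, .ofNat 0, .negSucc 2, .ofNat 0, .ofNat 0, .ofNat 0, .ofNat 0, .ofNat 0, .ofNat 0,
  .ofNat 0, .ofNat 3, .ofNat 0, .ofNat 0, .negSucc 2, .ofNat 0, .ofNat 0, .ofNat 0, .ofNat 0, .negSucc 2,
  .ofNat 3, .ofNat 0, .ofNat 0, .ofNat 0, .ofNat 0, .ofNat 0, .ofNat 0, .ofNat 0, .ofNat 0, .ofNat 0,
  .ofNat 0, .ofNat 0, .ofNat 0, .ofNat 0, .ofNat 0, .ofNat 0, .ofNat 0, .ofNat 0, .ofNat 0, .ofNat 0,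
  .ofNat 0, .ofNat 0, .ofNat 0, .ofNat 0, .ofNat 0, .ofNat 0, .ofNat 0, .ofNat 0, .ofNat 0, .negSucc 2,
  .negSucc 2, .negSucc 2, .negSucc 2, .negSucc 2, .negSucc 2, .negSucc 2, .negSucc 2, .negSucc 2, .negSucc 2,
  .negSucc 2, .negSucc 2, .negSucc 2, .negSucc 2, .negSucc 2, .negSucc 2, .negSucc 2, .ofNat 3]

/-- the values at the type 111 -/
def cY111 : List ℤ :=
  [.ofNat 0, .ofNat 3, .ofNat 0, .negSucc 2, .ofNat 0, .ofNat 0, .ofNat 0, .ofNat 0, .ofNat 0, .ofNat 0,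
  .ofNat 0, .ofNat 3, .ofNat 0, .ofNat 0, .negSucc 2, .ofNat 0, .ofNat 0, .ofNat 0, .ofNat 0, .negSucc 2,
  .ofNat 3, .ofNat 0, .ofNat 0, .ofNat 0, .ofNat 0, .ofNat 0, .ofNat 0, .ofNat 0, .ofNat 0, .ofNat 0,
  .ofNat 0, .ofNat 0, .ofNat 0, .ofNat 0, .ofNat 0, .ofNat 0, .ofNat 0, .ofNat 0, .ofNat 0, .ofNat 0,
  .ofNat 0, .ofNat 0, .ofNat 0, .ofNat 0, .ofNat 0, .ofNat 0, .ofNat 0, .ofNat 0, .ofNat 0, .ofNat 3,
  .ofNat 3, .ofNat 3, .ofNat 3, .ofNat 3, .ofNat 3, .ofNat 3, .ofNat 3, .ofNat 3, .ofNat 3, .ofNat 3,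
  .ofNat 3, .ofNat 3, .ofNat 3, .ofNat 3, .ofNat 3, .ofNat 3, .negSucc 2]

/-- the values at the type 112 -/
def cY112 : List ℤ :=
  [.negSucc 3, .ofNat 0, .ofNat 0, .negSucc 1, .negSucc 3, .ofNat 8, .negSucc 3, .ofNat 4, .ofNat 0,
  .ofNat 0, .ofNat 2, .negSucc 3, .negSucc 5, .ofNat 0, .ofNat 2, .ofNat 0, .ofNat 0, .ofNat 0, .ofNat 2,
  .ofNat 0, .ofNat 4, .negSucc 1, .negSucc 1, .negSucc 3, .ofNat 4, .negSucc 1, .ofNat 0, .ofNat 4,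
  .negSucc 3, .negSucc 3, .ofNat 2, .ofNat 0, .ofNat 0, .ofNat 0, .ofNat 0, .ofNat 0, .ofNat 6, .ofNat 0,
  .ofNat 0, .ofNat 0, .ofNat 0, .ofNat 0, .ofNat 0, .negSucc 3, .ofNat 0, .ofNat 0, .ofNat 0, .ofNat 0,
  .ofNat 0, .negSucc 3, .negSucc 1, .ofNat 0, .negSucc 3, .ofNat 2, .negSucc 3, .ofNat 4, .negSucc 3,
  .ofNat 0, .ofNat 4, .ofNat 0, .ofNat 0, .ofNat 2, .ofNat 2, .ofNat 0, .ofNat 0, .ofNat 0, .negSucc 3]

/-- the values at the type 113 -/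
def cY113 : List ℤ :=
  [.ofNat 2, .ofNat 0, .ofNat 0, .ofNat 1, .ofNat 2, .negSucc 3, .ofNat 2, .negSucc 1, .ofNat 0, .ofNat 0,
  .negSucc 0, .ofNat 2, .ofNat 3, .ofNat 0, .negSucc 0, .ofNat 0, .ofNat 0, .ofNat 0, .negSucc 0, .ofNat 0,
  .negSucc 1, .ofNat 1, .ofNat 1, .ofNat 2, .negSucc 1, .ofNat 1, .ofNat 0, .negSucc 1, .ofNat 2, .ofNat 2,
  .negSucc 0, .ofNat 0, .ofNat 0, .ofNat 0, .ofNat 0, .ofNat 0, .negSucc 2, .ofNat 0, .ofNat 0, .ofNat 0,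
  .ofNat 0, .ofNat 0, .ofNat 0, .ofNat 2, .ofNat 0, .ofNat 0, .ofNat 0, .ofNat 0, .ofNat 0, .ofNat 2,
  .ofNat 1, .ofNat 0, .ofNat 2, .negSucc 0, .ofNat 2, .negSucc 1, .ofNat 2, .ofNat 0, .negSucc 1, .ofNat 0,
  .ofNat 0, .negSucc 0, .negSucc 0, .ofNat 0, .ofNat 0, .ofNat 0, .ofNat 2]

/-- the values at the type 114 -/
def cY114 : List ℤ :=
  [.ofNat 4, .ofNat 0, .negSucc 3, .ofNat 2, .ofNat 0, .ofNat 0, .ofNat 0, .ofNat 4, .ofNat 0, .ofNat 0,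
  .ofNat 2, .negSucc 3, .ofNat 2, .ofNat 0, .negSucc 1, .ofNat 0, .ofNat 0, .ofNat 0, .negSucc 1, .ofNat 0,
  .ofNat 4, .ofNat 2, .ofNat 2, .ofNat 0, .ofNat 0, .ofNat 2, .ofNat 0, .ofNat 0, .ofNat 0, .ofNat 4,
  .negSucc 1, .negSucc 3, .ofNat 0, .negSucc 3, .ofNat 0, .ofNat 0, .negSucc 1, .ofNat 0, .ofNat 0, .ofNat 0,
  .negSucc 3, .ofNat 4, .ofNat 0, .negSucc 3, .ofNat 0, .negSucc 7, .ofNat 0, .ofNat 0, .ofNat 0, .ofNat 0,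
  .negSucc 1, .ofNat 0, .ofNat 0, .negSucc 1, .ofNat 4, .ofNat 4, .negSucc 3, .ofNat 0, .ofNat 0, .ofNat 0,
  .ofNat 0, .ofNat 2, .ofNat 2, .negSucc 3, .ofNat 0, .ofNat 0, .ofNat 0]

/-- the values at the type 115 -/
def cY115 : List ℤ :=
  [.negSucc 1, .ofNat 0, .ofNat 2, .negSucc 0, .ofNat 0, .ofNat 0, .ofNat 0, .negSucc 1, .ofNat 0, .ofNat 0,
  .negSucc 0, .ofNat 2, .negSucc 0, .ofNat 0, .ofNat 1, .ofNat 0, .ofNat 0, .ofNat 0, .ofNat 1, .ofNat 0,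
  .negSucc 1, .negSucc 0, .negSucc 0, .ofNat 0, .ofNat 0, .negSucc 0, .ofNat 0, .ofNat 0, .ofNat 0,
  .negSucc 1, .ofNat 1, .ofNat 2, .ofNat 0, .ofNat 2, .ofNat 0, .ofNat 0, .ofNat 1, .ofNat 0, .ofNat 0,
  .ofNat 0, .ofNat 2, .negSucc 1, .ofNat 0, .ofNat 2, .ofNat 0, .ofNat 4, .ofNat 0, .ofNat 0, .ofNat 0,
  .ofNat 0, .ofNat 1, .ofNat 0, .ofNat 0, .ofNat 1, .negSucc 1, .negSucc 1, .ofNat 2, .ofNat 0, .ofNat 0,
  .ofNat 0, .ofNat 0, .negSucc 0, .negSucc 0, .ofNat 2, .ofNat 0, .ofNat 0, .ofNat 0]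

/-- the values at the type 116 -/
def cY116 : List ℤ :=
  [.ofNat 0, .ofNat 0, .ofNat 0, .ofNat 0, .ofNat 0, .ofNat 0, .ofNat 0, .ofNat 0, .ofNat 0, .ofNat 0,
  .ofNat 0, .ofNat 0, .ofNat 0, .ofNat 0, .ofNat 0, .ofNat 0, .ofNat 0, .ofNat 0, .ofNat 0, .ofNat 0,
  .ofNat 0, .ofNat 0, .ofNat 0, .ofNat 0, .ofNat 0, .ofNat 0, .ofNat 0, .ofNat 0, .ofNat 0, .ofNat 0,
  .ofNat 0, .ofNat 0, .ofNat 0, .ofNat 0, .ofNat 0, .ofNat 0, .ofNat 0, .ofNat 0, .ofNat 0, .ofNat 0,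
  .ofNat 0, .ofNat 0, .ofNat 0, .ofNat 0, .ofNat 0, .ofNat 0, .ofNat 0, .ofNat 0, .ofNat 0, .ofNat 0,
  .ofNat 0, .ofNat 0, .ofNat 0, .ofNat 0, .ofNat 0, .ofNat 0, .ofNat 0, .ofNat 0, .ofNat 0, .ofNat 0,
  .ofNat 0, .ofNat 0, .ofNat 0, .ofNat 0, .ofNat 0, .ofNat 0, .ofNat 0]

/-- the values at the type 117 -/
def cY117 : List ℤ :=
  [.ofNat 0, .ofNat 0, .ofNat 0, .ofNat 0, .ofNat 0, .ofNat 0, .ofNat 0, .ofNat 0, .ofNat 0, .ofNat 0,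
  .ofNat 0, .ofNat 0, .ofNat 0, .ofNat 0, .ofNat 0, .ofNat 0, .ofNat 0, .ofNat 0, .ofNat 0, .ofNat 0,
  .ofNat 0, .ofNat 0, .ofNat 0, .ofNat 0, .ofNat 0, .ofNat 0, .ofNat 0, .ofNat 0, .ofNat 0, .ofNat 0,
  .ofNat 0, .ofNat 0, .ofNat 0, .ofNat 0, .ofNat 0, .ofNat 0, .ofNat 0, .ofNat 0, .ofNat 0, .ofNat 0,
  .ofNat 0, .ofNat 0, .ofNat 0, .ofNat 0, .ofNat 0, .ofNat 0, .ofNat 0, .ofNat 0, .ofNat 0, .ofNat 0,
  .ofNat 0, .ofNat 0, .ofNat 0, .ofNat 0, .ofNat 0, .ofNat 0, .ofNat 0, .ofNat 0, .ofNat 0, .ofNat 0,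
  .ofNat 0, .ofNat 0, .ofNat 0, .ofNat 0, .ofNat 0, .ofNat 0, .ofNat 0]

/-- the values at the type 118 -/
def cY118 : List ℤ :=
  [.negSucc 1, .ofNat 2, .ofNat 0, .ofNat 0, .ofNat 4, .ofNat 0, .negSucc 1, .ofNat 0, .negSucc 1, .ofNat 0,
  .ofNat 0, .ofNat 0, .ofNat 0, .ofNat 0, .ofNat 2, .negSucc 1, .ofNat 0, .ofNat 0, .ofNat 0, .ofNat 0,
  .ofNat 0, .negSucc 1, .ofNat 0, .ofNat 0, .ofNat 0, .ofNat 2, .ofNat 0, .ofNat 0, .ofNat 0, .ofNat 0,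
  .ofNat 0, .ofNat 0, .ofNat 0, .ofNat 0, .negSucc 1, .negSucc 1, .ofNat 0, .ofNat 0, .ofNat 0, .ofNat 0,
  .ofNat 0, .ofNat 0, .ofNat 2, .ofNat 0, .ofNat 0, .ofNat 0, .ofNat 0, .negSucc 1, .ofNat 0, .negSucc 1,
  .negSucc 1, .ofNat 0, .ofNat 0, .ofNat 0, .ofNat 2, .ofNat 0, .ofNat 0, .ofNat 2, .ofNat 0, .ofNat 0,
  .ofNat 0, .ofNat 0, .ofNat 0, .ofNat 0, .ofNat 2, .ofNat 0, .ofNat 2]

/-- the values at the type 119 -/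
def cY119 : List ℤ :=
  [.ofNat 1, .negSucc 0, .ofNat 0, .ofNat 0, .negSucc 1, .ofNat 0, .ofNat 1, .ofNat 0, .ofNat 1, .ofNat 0,
  .ofNat 0, .ofNat 0, .ofNat 0, .ofNat 0, .negSucc 0, .ofNat 1, .ofNat 0, .ofNat 0, .ofNat 0, .ofNat 0,
  .ofNat 0, .ofNat 1, .ofNat 0, .ofNat 0, .ofNat 0, .negSucc 0, .ofNat 0, .ofNat 0, .ofNat 0, .ofNat 0,
  .ofNat 0, .ofNat 0, .ofNat 0, .ofNat 0, .ofNat 1, .ofNat 1, .ofNat 0, .ofNat 0, .ofNat 0, .ofNat 0,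
  .ofNat 0, .ofNat 0, .negSucc 0, .ofNat 0, .ofNat 0, .ofNat 0, .ofNat 0, .ofNat 1, .ofNat 0, .ofNat 1,
  .ofNat 1, .ofNat 0, .ofNat 0, .ofNat 0, .negSucc 0, .ofNat 0, .ofNat 0, .negSucc 0, .ofNat 0, .ofNat 0,
  .ofNat 0, .ofNat 0, .ofNat 0, .ofNat 0, .negSucc 0, .ofNat 0, .negSucc 0]

/-- the values at the type 120 -/
def cY120 : List ℤ :=
  [.negSucc 1, .ofNat 2, .negSucc 1, .ofNat 0, .ofNat 0, .ofNat 0, .ofNat 0, .ofNat 0, .ofNat 0, .ofNat 2,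
  .ofNat 0, .ofNat 0, .ofNat 0, .ofNat 0, .ofNat 0, .ofNat 2, .ofNat 0, .ofNat 0, .ofNat 0, .ofNat 2,
  .ofNat 0, .ofNat 0, .ofNat 0, .negSucc 1, .negSucc 1, .ofNat 0, .ofNat 0, .negSucc 1, .negSucc 1, .ofNat 2,
  .ofNat 0, .ofNat 0, .negSucc 3, .ofNat 0, .negSucc 3, .ofNat 2, .ofNat 0, .ofNat 4, .negSucc 1, .ofNat 0,
  .ofNat 2, .ofNat 0, .negSucc 3, .ofNat 0, .ofNat 0, .ofNat 0, .negSucc 3, .ofNat 0, .ofNat 4, .negSucc 1,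
  .ofNat 0, .negSucc 1, .ofNat 2, .ofNat 0, .ofNat 0, .ofNat 0, .ofNat 0, .ofNat 0, .negSucc 3, .ofNat 2,
  .ofNat 0, .ofNat 0, .ofNat 0, .ofNat 0, .ofNat 0, .ofNat 0, .negSucc 3]

/-- the values at the type 121 -/
def cY121 : List ℤ :=
  [.ofNat 1, .negSucc 0, .ofNat 1, .ofNat 0, .ofNat 0, .ofNat 0, .ofNat 0, .ofNat 0, .ofNat 0, .negSucc 0,
  .ofNat 0, .ofNat 0, .ofNat 0, .ofNat 0, .ofNat 0, .negSucc 0, .ofNat 0, .ofNat 0, .ofNat 0, .negSucc 0,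
  .ofNat 0, .ofNat 0, .ofNat 0, .ofNat 1, .ofNat 1, .ofNat 0, .ofNat 0, .ofNat 1, .ofNat 1, .negSucc 0,
  .ofNat 0, .ofNat 0, .ofNat 2, .ofNat 0, .ofNat 2, .negSucc 0, .ofNat 0, .negSucc 1, .ofNat 1, .ofNat 0,
  .negSucc 0, .ofNat 0, .ofNat 2, .ofNat 0, .ofNat 0, .ofNat 0, .ofNat 2, .ofNat 0, .negSucc 1, .ofNat 1,
  .ofNat 0, .ofNat 1, .negSucc 0, .ofNat 0, .ofNat 0, .ofNat 0, .ofNat 0, .ofNat 0, .ofNat 2, .negSucc 0,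
  .ofNat 0, .ofNat 0, .ofNat 0, .ofNat 0, .ofNat 0, .ofNat 0, .ofNat 2]

/-- the values at the type 122 -/
def cY122 : List ℤ :=
  [.ofNat 0, .ofNat 0, .ofNat 0, .negSucc 1, .ofNat 0, .ofNat 0, .ofNat 0, .ofNat 0, .ofNat 0, .ofNat 0,
  .ofNat 0, .ofNat 0, .ofNat 0, .ofNat 0, .ofNat 0, .ofNat 0, .ofNat 0, .ofNat 0, .ofNat 0, .ofNat 0,
  .negSucc 1, .ofNat 0, .ofNat 2, .ofNat 0, .ofNat 0, .ofNat 0, .ofNat 0, .ofNat 0, .ofNat 0, .ofNat 0,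
  .ofNat 0, .ofNat 0, .ofNat 2, .negSucc 1, .ofNat 0, .ofNat 0, .ofNat 0, .ofNat 0, .ofNat 0, .ofNat 0,
  .ofNat 0, .ofNat 0, .ofNat 0, .negSucc 3, .negSucc 1, .ofNat 0, .ofNat 0, .negSucc 3, .ofNat 0, .ofNat 0,
  .ofNat 0, .ofNat 0, .ofNat 0, .ofNat 0, .ofNat 0, .negSucc 1, .ofNat 0, .ofNat 0, .ofNat 0, .ofNat 0,
  .ofNat 0, .ofNat 0, .ofNat 0, .ofNat 0, .ofNat 0, .ofNat 0, .negSucc 1]

/-- the values at the type 123 -/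
def cY123 : List ℤ :=
  [.ofNat 0, .ofNat 0, .ofNat 0, .ofNat 1, .ofNat 0, .ofNat 0, .ofNat 0, .ofNat 0, .ofNat 0, .ofNat 0,
  .ofNat 0, .ofNat 0, .ofNat 0, .ofNat 0, .ofNat 0, .ofNat 0, .ofNat 0, .ofNat 0, .ofNat 0, .ofNat 0,
  .ofNat 1, .ofNat 0, .negSucc 0, .ofNat 0, .ofNat 0, .ofNat 0, .ofNat 0, .ofNat 0, .ofNat 0, .ofNat 0,
  .ofNat 0, .ofNat 0, .negSucc 0, .ofNat 1, .ofNat 0, .ofNat 0, .ofNat 0, .ofNat 0, .ofNat 0, .ofNat 0,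
  .ofNat 0, .ofNat 0, .ofNat 0, .ofNat 2, .ofNat 1, .ofNat 0, .ofNat 0, .ofNat 2, .ofNat 0, .ofNat 0,
  .ofNat 0, .ofNat 0, .ofNat 0, .ofNat 0, .ofNat 0, .ofNat 1, .ofNat 0, .ofNat 0, .ofNat 0, .ofNat 0,
  .ofNat 0, .ofNat 0, .ofNat 0, .ofNat 0, .ofNat 0, .ofNat 0, .ofNat 1]

/-- the values at the type 124 -/
def cY124 : List ℤ :=
  [.ofNat 1, .ofNat 1, .negSucc 0, .ofNat 0, .ofNat 0, .ofNat 1, .negSucc 0, .ofNat 1, .negSucc 0, .ofNat 0,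
  .negSucc 1, .ofNat 1, .ofNat 0, .ofNat 0, .ofNat 0, .negSucc 0, .ofNat 2, .ofNat 0, .ofNat 0, .ofNat 2,
  .ofNat 0, .ofNat 1, .ofNat 0, .ofNat 0, .ofNat 0, .ofNat 0, .ofNat 1, .ofNat 0, .ofNat 0, .ofNat 1,
  .ofNat 0, .ofNat 1, .negSucc 0, .ofNat 0, .ofNat 0, .ofNat 0, .ofNat 0, .ofNat 0, .ofNat 0, .negSucc 0,
  .ofNat 0, .negSucc 0, .ofNat 0, .negSucc 1, .ofNat 0, .ofNat 0, .ofNat 0, .ofNat 2, .negSucc 1, .ofNat 1,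
  .ofNat 0, .negSucc 0, .negSucc 0, .ofNat 1, .ofNat 0, .negSucc 0, .ofNat 0, .ofNat 0, .ofNat 0, .negSucc 1,
  .ofNat 1, .ofNat 0, .ofNat 0, .ofNat 0, .ofNat 0, .ofNat 2, .ofNat 0]

/-- the values at the type 125 -/
def cY125 : List ℤ :=
  [.negSucc 1, .negSucc 1, .ofNat 2, .ofNat 0, .ofNat 0, .negSucc 1, .ofNat 2, .negSucc 1, .ofNat 2,
  .ofNat 0, .ofNat 4, .negSucc 1, .ofNat 0, .ofNat 0, .ofNat 0, .ofNat 2, .negSucc 3, .ofNat 0, .ofNat 0,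
  .negSucc 3, .ofNat 0, .negSucc 1, .ofNat 0, .ofNat 0, .ofNat 0, .ofNat 0, .negSucc 1, .ofNat 0, .ofNat 0,
  .negSucc 1, .ofNat 0, .negSucc 1, .ofNat 2, .ofNat 0, .ofNat 0, .ofNat 0, .ofNat 0, .ofNat 0, .ofNat 0,
  .ofNat 2, .ofNat 0, .ofNat 2, .ofNat 0, .ofNat 4, .ofNat 0, .ofNat 0, .ofNat 0, .negSucc 3, .ofNat 4,
  .negSucc 1, .ofNat 0, .ofNat 2, .ofNat 2, .negSucc 1, .ofNat 0, .ofNat 2, .ofNat 0, .ofNat 0, .ofNat 0,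
  .ofNat 4, .negSucc 1, .ofNat 0, .ofNat 0, .ofNat 0, .ofNat 0, .negSucc 3, .ofNat 0]

/-- the values at the type 126 -/
def cY126 : List ℤ :=
  [.ofNat 0, .ofNat 0, .ofNat 0, .ofNat 0, .ofNat 0, .ofNat 0, .ofNat 0, .ofNat 0, .ofNat 0, .ofNat 0,
  .ofNat 0, .ofNat 0, .ofNat 0, .ofNat 0, .ofNat 0, .ofNat 0, .ofNat 0, .ofNat 0, .ofNat 0, .ofNat 0,
  .ofNat 0, .ofNat 0, .ofNat 0, .ofNat 0, .ofNat 0, .ofNat 0, .ofNat 0, .ofNat 0, .ofNat 0, .ofNat 0,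
  .ofNat 0, .ofNat 0, .ofNat 0, .ofNat 0, .ofNat 0, .ofNat 0, .ofNat 0, .ofNat 0, .ofNat 0, .ofNat 0,
  .ofNat 0, .ofNat 0, .ofNat 0, .ofNat 0, .ofNat 0, .ofNat 0, .ofNat 0, .ofNat 0, .ofNat 0, .ofNat 0,
  .ofNat 0, .ofNat 0, .ofNat 0, .ofNat 0, .ofNat 0, .ofNat 0, .ofNat 0, .ofNat 0, .ofNat 0, .ofNat 0,
  .ofNat 0, .ofNat 0, .ofNat 0, .ofNat 0, .ofNat 0, .ofNat 0, .ofNat 0]

/-- the values at the type 127 -/
def cY127 : List ℤ :=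
  [.ofNat 0, .ofNat 0, .ofNat 0, .ofNat 0, .ofNat 0, .ofNat 0, .ofNat 0, .ofNat 0, .ofNat 0, .ofNat 0,
  .ofNat 0, .ofNat 0, .ofNat 0, .ofNat 0, .ofNat 0, .ofNat 0, .ofNat 0, .ofNat 0, .ofNat 0, .ofNat 0,
  .ofNat 0, .ofNat 0, .ofNat 0, .ofNat 0, .ofNat 0, .ofNat 0, .ofNat 0, .ofNat 0, .ofNat 0, .ofNat 0,
  .ofNat 0, .ofNat 0, .ofNat 0, .ofNat 0, .ofNat 0, .ofNat 0, .ofNat 0, .ofNat 0, .ofNat 0, .ofNat 0,
  .ofNat 0, .ofNat 0, .ofNat 0, .ofNat 0, .ofNat 0, .ofNat 0, .ofNat 0, .ofNat 0, .ofNat 0, .ofNat 0,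
  .ofNat 0, .ofNat 0, .ofNat 0, .ofNat 0, .ofNat 0, .ofNat 0, .ofNat 0, .ofNat 0, .ofNat 0, .ofNat 0,
  .ofNat 0, .ofNat 0, .ofNat 0, .ofNat 0, .ofNat 0, .ofNat 0, .ofNat 0]

/-- the values at the type 128 -/
def cY128 : List ℤ :=
  [.ofNat 0, .ofNat 2, .ofNat 2, .negSucc 1, .negSucc 1, .negSucc 1, .ofNat 0, .negSucc 1, .ofNat 2,
  .ofNat 0, .ofNat 0, .negSucc 1, .negSucc 1, .ofNat 0, .ofNat 2, .ofNat 2, .ofNat 2, .ofNat 0, .ofNat 0,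
  .ofNat 0, .ofNat 0, .ofNat 2, .ofNat 2, .ofNat 0, .ofNat 0, .ofNat 0, .ofNat 0, .ofNat 0, .ofNat 0,
  .ofNat 0, .negSucc 1, .ofNat 0, .negSucc 1, .ofNat 0, .ofNat 0, .ofNat 0, .ofNat 0, .ofNat 0, .ofNat 0,
  .ofNat 0, .ofNat 0, .ofNat 0, .ofNat 4, .ofNat 0, .ofNat 0, .ofNat 0, .ofNat 0, .ofNat 0, .ofNat 0,
  .negSucc 1, .ofNat 0, .ofNat 0, .ofNat 0, .negSucc 1, .ofNat 0, .ofNat 0, .ofNat 0, .ofNat 0, .ofNat 0,
  .ofNat 0, .ofNat 2, .ofNat 2, .ofNat 0, .ofNat 0, .ofNat 0, .ofNat 2, .ofNat 2]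

/-- the values at the type 129 -/
def cY129 : List ℤ :=
  [.ofNat 0, .negSucc 0, .negSucc 0, .ofNat 1, .ofNat 1, .ofNat 1, .ofNat 0, .ofNat 1, .negSucc 0, .ofNat 0,
  .ofNat 0, .ofNat 1, .ofNat 1, .ofNat 0, .negSucc 0, .negSucc 0, .negSucc 0, .ofNat 0, .ofNat 0, .ofNat 0,
  .ofNat 0, .negSucc 0, .negSucc 0, .ofNat 0, .ofNat 0, .ofNat 0, .ofNat 0, .ofNat 0, .ofNat 0, .ofNat 0,
  .ofNat 1, .ofNat 0, .ofNat 1, .ofNat 0, .ofNat 0, .ofNat 0, .ofNat 0, .ofNat 0, .ofNat 0, .ofNat 0,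
  .ofNat 0, .ofNat 0, .negSucc 1, .ofNat 0, .ofNat 0, .ofNat 0, .ofNat 0, .ofNat 0, .ofNat 0, .ofNat 1,
  .ofNat 0, .ofNat 0, .ofNat 0, .ofNat 1, .ofNat 0, .ofNat 0, .ofNat 0, .ofNat 0, .ofNat 0, .ofNat 0,
  .negSucc 0, .negSucc 0, .ofNat 0, .ofNat 0, .ofNat 0, .negSucc 0, .negSucc 0]

/-- the values at the type 130 -/
def cY130 : List ℤ :=
  [.ofNat 0, .ofNat 0, .ofNat 0, .ofNat 0, .ofNat 0, .ofNat 0, .ofNat 0, .ofNat 0, .ofNat 0, .ofNat 0,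
  .ofNat 0, .ofNat 0, .ofNat 0, .ofNat 0, .ofNat 0, .ofNat 0, .ofNat 0, .ofNat 0, .ofNat 0, .ofNat 0,
  .ofNat 0, .ofNat 0, .ofNat 0, .ofNat 0, .ofNat 0, .ofNat 0, .ofNat 0, .ofNat 0, .ofNat 0, .ofNat 0,
  .ofNat 0, .ofNat 0, .ofNat 0, .ofNat 0, .ofNat 0, .ofNat 0, .ofNat 0, .ofNat 0, .ofNat 0, .ofNat 0,
  .ofNat 0, .ofNat 0, .ofNat 0, .ofNat 0, .ofNat 0, .ofNat 0, .ofNat 0, .ofNat 0, .ofNat 0, .ofNat 0,
  .ofNat 0, .ofNat 0, .ofNat 0, .ofNat 0, .ofNat 0, .ofNat 0, .ofNat 0, .ofNat 0, .ofNat 0, .ofNat 0,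
  .ofNat 0, .ofNat 0, .ofNat 0, .ofNat 0, .ofNat 0, .ofNat 0, .ofNat 0]

/-- the values at the type 131 -/
def cY131 : List ℤ :=
  [.ofNat 0, .negSucc 1, .ofNat 0, .ofNat 0, .ofNat 0, .negSucc 1, .ofNat 0, .ofNat 0, .negSucc 1, .ofNat 2,
  .ofNat 0, .ofNat 2, .ofNat 0, .ofNat 0, .ofNat 0, .ofNat 0, .ofNat 0, .ofNat 0, .negSucc 1, .ofNat 0,
  .ofNat 0, .ofNat 0, .ofNat 0, .negSucc 1, .ofNat 2, .ofNat 0, .ofNat 0, .negSucc 1, .ofNat 2, .ofNat 0,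
  .ofNat 0, .ofNat 0, .ofNat 0, .ofNat 0, .ofNat 2, .ofNat 0, .ofNat 2, .ofNat 0, .ofNat 0, .negSucc 1,
  .ofNat 2, .ofNat 0, .ofNat 0, .ofNat 0, .ofNat 4, .negSucc 3, .ofNat 4, .ofNat 0, .ofNat 0, .negSucc 1,
  .negSucc 1, .ofNat 0, .ofNat 0, .negSucc 1, .ofNat 0, .ofNat 0, .ofNat 0, .ofNat 0, .ofNat 0, .ofNat 0,
  .ofNat 2, .ofNat 0, .ofNat 0, .ofNat 2, .ofNat 0, .ofNat 0, .negSucc 1]

/-- the values at the type 132 -/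
def cY132 : List ℤ :=
  [.ofNat 0, .ofNat 1, .ofNat 0, .ofNat 0, .ofNat 0, .ofNat 1, .ofNat 0, .ofNat 0, .ofNat 1, .negSucc 0,
  .ofNat 0, .negSucc 0, .ofNat 0, .ofNat 0, .ofNat 0, .ofNat 0, .ofNat 0, .ofNat 0, .ofNat 1, .ofNat 0,
  .ofNat 0, .ofNat 0, .ofNat 0, .ofNat 1, .negSucc 0, .ofNat 0, .ofNat 0, .ofNat 1, .negSucc 0, .ofNat 0,
  .ofNat 0, .ofNat 0, .ofNat 0, .ofNat 0, .negSucc 0, .ofNat 0, .negSucc 0, .ofNat 0, .ofNat 0, .ofNat 1,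
  .negSucc 0, .ofNat 0, .ofNat 0, .ofNat 0, .negSucc 1, .ofNat 2, .negSucc 1, .ofNat 0, .ofNat 0, .ofNat 1,
  .ofNat 1, .ofNat 0, .ofNat 0, .ofNat 1, .ofNat 0, .ofNat 0, .ofNat 0, .ofNat 0, .ofNat 0, .ofNat 0,
  .negSucc 0, .ofNat 0, .ofNat 0, .negSucc 0, .ofNat 0, .ofNat 0, .ofNat 1]

/-- the values at the type 133 -/
def cY133 : List ℤ :=
  [.ofNat 0, .ofNat 0, .ofNat 0, .ofNat 0, .ofNat 0, .ofNat 0, .ofNat 0, .ofNat 0, .ofNat 0, .ofNat 0,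
  .ofNat 0, .ofNat 0, .ofNat 0, .ofNat 0, .ofNat 0, .ofNat 0, .ofNat 0, .ofNat 0, .ofNat 0, .ofNat 0,
  .ofNat 0, .ofNat 0, .ofNat 0, .ofNat 0, .ofNat 0, .ofNat 0, .ofNat 0, .ofNat 0, .ofNat 0, .ofNat 0,
  .ofNat 0, .ofNat 0, .ofNat 0, .ofNat 0, .ofNat 0, .ofNat 0, .ofNat 0, .ofNat 0, .ofNat 0, .ofNat 0,
  .ofNat 0, .ofNat 0, .ofNat 0, .ofNat 0, .ofNat 0, .ofNat 0, .ofNat 0, .ofNat 0, .ofNat 0, .ofNat 0,
  .ofNat 0, .ofNat 0, .ofNat 0, .ofNat 0, .ofNat 0, .ofNat 0, .ofNat 0, .ofNat 0, .ofNat 0, .ofNat 0,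
  .ofNat 0, .ofNat 0, .ofNat 0, .ofNat 0, .ofNat 0, .ofNat 0, .ofNat 0]

/-- the values at the type 134 -/
def cY134 : List ℤ :=
  [.ofNat 0, .ofNat 0, .ofNat 0, .ofNat 0, .ofNat 0, .ofNat 0, .ofNat 0, .ofNat 0, .ofNat 0, .ofNat 0,
  .ofNat 0, .ofNat 0, .ofNat 0, .ofNat 0, .ofNat 0, .ofNat 0, .ofNat 0, .ofNat 0, .ofNat 0, .ofNat 0,
  .ofNat 0, .ofNat 0, .ofNat 0, .ofNat 0, .ofNat 0, .ofNat 0, .ofNat 0, .ofNat 0, .ofNat 0, .ofNat 0,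
  .ofNat 0, .ofNat 0, .ofNat 0, .ofNat 0, .ofNat 0, .ofNat 0, .ofNat 0, .ofNat 0, .ofNat 0, .ofNat 0,
  .ofNat 0, .ofNat 0, .ofNat 0, .ofNat 0, .ofNat 0, .ofNat 0, .ofNat 0, .ofNat 0, .ofNat 0, .ofNat 0,
  .ofNat 0, .ofNat 0, .ofNat 0, .ofNat 0, .ofNat 0, .ofNat 0, .ofNat 0, .ofNat 0, .ofNat 0, .ofNat 0,
  .ofNat 0, .ofNat 0, .ofNat 0, .ofNat 0, .ofNat 0, .ofNat 0, .ofNat 0]

/-- the values at the type 135 -/
def cY135 : List ℤ :=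
  [.ofNat 2, .negSucc 1, .negSucc 1, .negSucc 1, .ofNat 0, .ofNat 0, .ofNat 0, .ofNat 0, .ofNat 0, .ofNat 2,
  .negSucc 1, .ofNat 0, .ofNat 0, .ofNat 2, .ofNat 0, .negSucc 1, .ofNat 0, .negSucc 1, .negSucc 1, .ofNat 0,
  .ofNat 0, .ofNat 0, .ofNat 0, .negSucc 1, .ofNat 2, .ofNat 2, .ofNat 0, .ofNat 2, .negSucc 1, .negSucc 1,
  .ofNat 0, .ofNat 2, .ofNat 0, .ofNat 2, .ofNat 0, .ofNat 0, .negSucc 1, .ofNat 0, .ofNat 0, .ofNat 0,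
  .negSucc 1, .ofNat 0, .ofNat 0, .ofNat 0, .ofNat 0, .ofNat 0, .negSucc 3, .ofNat 0, .ofNat 0, .negSucc 1,
  .ofNat 2, .ofNat 2, .ofNat 2, .negSucc 1, .ofNat 0, .ofNat 0, .ofNat 0, .ofNat 0, .ofNat 0, .ofNat 0,
  .ofNat 0, .ofNat 0, .negSucc 1, .ofNat 0, .ofNat 0, .ofNat 0, .ofNat 0]

/-- the values at the type 136 -/
def cY136 : List ℤ :=
  [.negSucc 0, .ofNat 1, .ofNat 1, .ofNat 1, .ofNat 0, .ofNat 0, .ofNat 0, .ofNat 0, .ofNat 0, .negSucc 0,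
  .ofNat 1, .ofNat 0, .ofNat 0, .negSucc 0, .ofNat 0, .ofNat 1, .ofNat 0, .ofNat 1, .ofNat 1, .ofNat 0,
  .ofNat 0, .ofNat 0, .ofNat 0, .ofNat 1, .negSucc 0, .negSucc 0, .ofNat 0, .negSucc 0, .ofNat 1, .ofNat 1,
  .ofNat 0, .negSucc 0, .ofNat 0, .negSucc 0, .ofNat 0, .ofNat 0, .ofNat 1, .ofNat 0, .ofNat 0, .ofNat 0,
  .ofNat 1, .ofNat 0, .ofNat 0, .ofNat 0, .ofNat 0, .ofNat 0, .ofNat 2, .ofNat 0, .ofNat 0, .ofNat 1,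
  .negSucc 0, .negSucc 0, .negSucc 0, .ofNat 1, .ofNat 0, .ofNat 0, .ofNat 0, .ofNat 0, .ofNat 0, .ofNat 0,
  .ofNat 0, .ofNat 0, .ofNat 1, .ofNat 0, .ofNat 0, .ofNat 0, .ofNat 0]

/-- the values at the type 137 -/
def cY137 : List ℤ :=
  [.negSucc 0, .ofNat 0, .ofNat 1, .ofNat 0, .ofNat 0, .ofNat 0, .ofNat 0, .negSucc 0, .ofNat 0, .ofNat 0,
  .ofNat 0, .ofNat 0, .ofNat 0, .ofNat 0, .ofNat 0, .ofNat 0, .ofNat 0, .ofNat 0, .ofNat 0, .ofNat 0,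
  .ofNat 0, .ofNat 0, .ofNat 0, .ofNat 0, .ofNat 0, .ofNat 0, .ofNat 1, .ofNat 1, .ofNat 1, .ofNat 0,
  .ofNat 0, .ofNat 0, .ofNat 0, .ofNat 0, .ofNat 0, .ofNat 0, .ofNat 0, .ofNat 1, .ofNat 0, .ofNat 0,
  .negSucc 0, .ofNat 0, .negSucc 1, .ofNat 0, .ofNat 0, .negSucc 1, .negSucc 0, .ofNat 0, .negSucc 1,
  .ofNat 0, .ofNat 0, .ofNat 0, .ofNat 0, .ofNat 0, .ofNat 0, .ofNat 0, .ofNat 0, .ofNat 0, .ofNat 0,
  .ofNat 0, .ofNat 0, .ofNat 0, .ofNat 0, .ofNat 0, .ofNat 0, .ofNat 0, .ofNat 0]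

/-- the values at the type 138 -/
def cY138 : List ℤ :=
  [.ofNat 2, .ofNat 0, .negSucc 1, .ofNat 0, .ofNat 0, .ofNat 0, .ofNat 0, .ofNat 2, .ofNat 0, .ofNat 0,
  .ofNat 0, .ofNat 0, .ofNat 0, .ofNat 0, .ofNat 0, .ofNat 0, .ofNat 0, .ofNat 0, .ofNat 0, .ofNat 0,
  .ofNat 0, .ofNat 0, .ofNat 0, .ofNat 0, .ofNat 0, .ofNat 0, .negSucc 1, .negSucc 1, .negSucc 1, .ofNat 0,
  .ofNat 0, .ofNat 0, .ofNat 0, .ofNat 0, .ofNat 0, .ofNat 0, .ofNat 0, .negSucc 1, .ofNat 0, .ofNat 0,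
  .ofNat 2, .ofNat 0, .ofNat 4, .ofNat 0, .ofNat 0, .ofNat 4, .ofNat 2, .ofNat 0, .ofNat 4, .ofNat 0,
  .ofNat 0, .ofNat 0, .ofNat 0, .ofNat 0, .ofNat 0, .ofNat 0, .ofNat 0, .ofNat 0, .ofNat 0, .ofNat 0,
  .ofNat 0, .ofNat 0, .ofNat 0, .ofNat 0, .ofNat 0, .ofNat 0, .ofNat 0]

/-- the values at the type 139 -/
def cY139 : List ℤ :=
  [.negSucc 1, .negSucc 1, .ofNat 2, .ofNat 2, .ofNat 0, .ofNat 2, .negSucc 1, .ofNat 0, .negSucc 1,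
  .negSucc 1, .ofNat 0, .ofNat 2, .ofNat 2, .ofNat 2, .negSucc 1, .ofNat 2, .ofNat 2, .negSucc 1, .ofNat 0,
  .ofNat 0, .ofNat 0, .ofNat 2, .ofNat 2, .ofNat 0, .ofNat 0, .ofNat 2, .ofNat 0, .ofNat 0, .ofNat 0,
  .ofNat 0, .negSucc 1, .ofNat 0, .ofNat 0, .ofNat 0, .ofNat 0, .ofNat 0, .ofNat 0, .ofNat 0, .ofNat 0,
  .ofNat 0, .ofNat 0, .ofNat 2, .ofNat 0, .ofNat 0, .ofNat 0, .ofNat 4, .ofNat 0, .ofNat 0, .ofNat 0,
  .negSucc 1, .negSucc 1, .ofNat 2, .ofNat 2, .ofNat 2, .ofNat 0, .ofNat 0, .ofNat 0, .negSucc 1, .ofNat 0,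
  .ofNat 0, .ofNat 0, .ofNat 2, .ofNat 0, .ofNat 0, .negSucc 1, .ofNat 0, .ofNat 0]

/-- the values at the type 140 -/
def cY140 : List ℤ :=
  [.ofNat 1, .ofNat 1, .negSucc 0, .negSucc 0, .ofNat 0, .negSucc 0, .ofNat 1, .ofNat 0, .ofNat 1, .ofNat 1,
  .ofNat 0, .negSucc 0, .negSucc 0, .negSucc 0, .ofNat 1, .negSucc 0, .negSucc 0, .ofNat 1, .ofNat 0,
  .ofNat 0, .ofNat 0, .negSucc 0, .negSucc 0, .ofNat 0, .ofNat 0, .negSucc 0, .ofNat 0, .ofNat 0, .ofNat 0,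
  .ofNat 0, .ofNat 1, .ofNat 0, .ofNat 0, .ofNat 0, .ofNat 0, .ofNat 0, .ofNat 0, .ofNat 0, .ofNat 0,
  .ofNat 0, .ofNat 0, .negSucc 0, .ofNat 0, .ofNat 0, .ofNat 0, .negSucc 1, .ofNat 0, .ofNat 0, .ofNat 0,
  .ofNat 1, .ofNat 1, .negSucc 0, .negSucc 0, .negSucc 0, .ofNat 0, .ofNat 0, .ofNat 0, .ofNat 1, .ofNat 0,
  .ofNat 0, .ofNat 0, .negSucc 0, .ofNat 0, .ofNat 0, .ofNat 1, .ofNat 0, .ofNat 0]

/-- the values at the type 141 -/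
def cY141 : List ℤ :=
  [.negSucc 1, .negSucc 3, .ofNat 4, .negSucc 1, .negSucc 3, .negSucc 1, .negSucc 1, .ofNat 6, .ofNat 0,
  .ofNat 0, .ofNat 0, .ofNat 2, .ofNat 0, .ofNat 0, .ofNat 2, .ofNat 0, .ofNat 4, .ofNat 0, .negSucc 5,
  .ofNat 0, .ofNat 2, .negSucc 5, .negSucc 1, .ofNat 6, .negSucc 1, .negSucc 1, .ofNat 0, .ofNat 6,
  .negSucc 1, .ofNat 6, .ofNat 2, .ofNat 0, .ofNat 0, .ofNat 0, .ofNat 0, .ofNat 0, .ofNat 0, .negSucc 3,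
  .ofNat 0, .ofNat 0, .ofNat 0, .ofNat 0, .ofNat 0, .ofNat 4, .ofNat 0, .ofNat 0, .ofNat 0, .ofNat 0,
  .ofNat 0, .negSucc 3, .ofNat 2, .negSucc 1, .ofNat 2, .negSucc 1, .ofNat 2, .negSucc 3, .ofNat 4, .ofNat 0,
  .negSucc 1, .ofNat 0, .ofNat 0, .ofNat 0, .ofNat 6, .negSucc 3, .ofNat 0, .ofNat 0, .negSucc 1]

/-- the values at the type 142 -/
def cY142 : List ℤ :=
  [.ofNat 1, .ofNat 2, .negSucc 1, .ofNat 1, .ofNat 2, .ofNat 1, .ofNat 1, .negSucc 2, .ofNat 0, .ofNat 0,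
  .ofNat 0, .negSucc 0, .ofNat 0, .ofNat 0, .negSucc 0, .ofNat 0, .negSucc 1, .ofNat 0, .ofNat 3, .ofNat 0,
  .negSucc 0, .ofNat 3, .ofNat 1, .negSucc 2, .ofNat 1, .ofNat 1, .ofNat 0, .negSucc 2, .ofNat 1, .negSucc 2,
  .negSucc 0, .ofNat 0, .ofNat 0, .ofNat 0, .ofNat 0, .ofNat 0, .ofNat 0, .ofNat 2, .ofNat 0, .ofNat 0,
  .ofNat 0, .ofNat 0, .ofNat 0, .negSucc 1, .ofNat 0, .ofNat 0, .ofNat 0, .ofNat 0, .ofNat 0, .ofNat 2,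
  .negSucc 0, .ofNat 1, .negSucc 0, .ofNat 1, .negSucc 0, .ofNat 2, .negSucc 1, .ofNat 0, .ofNat 1, .ofNat 0,
  .ofNat 0, .ofNat 0, .negSucc 2, .ofNat 2, .ofNat 0, .ofNat 0, .ofNat 1]

/-- the values at the type 143 -/
def cY143 : List ℤ :=
  [.ofNat 0, .ofNat 2, .ofNat 0, .ofNat 0, .ofNat 0, .ofNat 0, .ofNat 0, .ofNat 0, .ofNat 0, .ofNat 0,
  .ofNat 0, .ofNat 0, .ofNat 0, .ofNat 0, .ofNat 0, .ofNat 0, .ofNat 0, .ofNat 0, .ofNat 0, .ofNat 2,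
  .ofNat 0, .ofNat 0, .ofNat 0, .ofNat 0, .ofNat 0, .ofNat 0, .ofNat 0, .negSucc 1, .negSucc 1, .ofNat 0,
  .ofNat 0, .ofNat 0, .ofNat 2, .ofNat 0, .ofNat 2, .ofNat 2, .ofNat 0, .negSucc 1, .ofNat 0, .ofNat 0,
  .ofNat 0, .ofNat 0, .negSucc 3, .ofNat 0, .ofNat 0, .ofNat 0, .ofNat 0, .ofNat 0, .negSucc 1, .negSucc 1,
  .ofNat 0, .negSucc 1, .ofNat 2, .ofNat 0, .ofNat 0, .ofNat 0, .ofNat 0, .ofNat 0, .ofNat 2, .ofNat 2,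
  .ofNat 0, .ofNat 0, .ofNat 0, .ofNat 0, .ofNat 0, .ofNat 0, .ofNat 2]

/-- the values at the type 144 -/
def cY144 : List ℤ :=
  [.ofNat 0, .negSucc 0, .ofNat 0, .ofNat 0, .ofNat 0, .ofNat 0, .ofNat 0, .ofNat 0, .ofNat 0, .ofNat 0,
  .ofNat 0, .ofNat 0, .ofNat 0, .ofNat 0, .ofNat 0, .ofNat 0, .ofNat 0, .ofNat 0, .ofNat 0, .negSucc 0,
  .ofNat 0, .ofNat 0, .ofNat 0, .ofNat 0, .ofNat 0, .ofNat 0, .ofNat 0, .ofNat 1, .ofNat 1, .ofNat 0,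
  .ofNat 0, .ofNat 0, .negSucc 0, .ofNat 0, .negSucc 0, .negSucc 0, .ofNat 0, .ofNat 1, .ofNat 0, .ofNat 0,
  .ofNat 0, .ofNat 0, .ofNat 2, .ofNat 0, .ofNat 0, .ofNat 0, .ofNat 0, .ofNat 0, .ofNat 1, .ofNat 1,
  .ofNat 0, .ofNat 1, .negSucc 0, .ofNat 0, .ofNat 0, .ofNat 0, .ofNat 0, .ofNat 0, .negSucc 0, .negSucc 0,
  .ofNat 0, .ofNat 0, .ofNat 0, .ofNat 0, .ofNat 0, .ofNat 0, .negSucc 0]

/-- the values at the type 145 -/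
def cY145 : List ℤ :=
  [.negSucc 1, .ofNat 0, .ofNat 2, .ofNat 0, .negSucc 1, .ofNat 0, .ofNat 0, .ofNat 0, .ofNat 2, .ofNat 2,
  .ofNat 2, .ofNat 0, .ofNat 2, .negSucc 1, .ofNat 0, .negSucc 1, .ofNat 0, .ofNat 2, .negSucc 1, .ofNat 0,
  .ofNat 0, .ofNat 2, .ofNat 0, .ofNat 0, .ofNat 0, .ofNat 0, .ofNat 0, .negSucc 1, .negSucc 1, .ofNat 2,
  .ofNat 0, .ofNat 2, .ofNat 0, .ofNat 2, .ofNat 0, .ofNat 0, .negSucc 3, .negSucc 1, .ofNat 0, .ofNat 0,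
  .negSucc 1, .ofNat 0, .ofNat 0, .ofNat 0, .ofNat 0, .ofNat 0, .ofNat 0, .ofNat 0, .ofNat 0, .ofNat 0,
  .negSucc 3, .ofNat 2, .negSucc 1, .ofNat 2, .negSucc 1, .ofNat 0, .ofNat 0, .ofNat 2, .ofNat 0, .ofNat 0,
  .ofNat 0, .ofNat 0, .negSucc 1, .ofNat 0, .ofNat 2, .ofNat 0, .negSucc 1]

/-- the values at the type 146 -/
def cY146 : List ℤ :=
  [.ofNat 1, .ofNat 0, .negSucc 0, .ofNat 0, .ofNat 1, .ofNat 0, .ofNat 0, .ofNat 0, .negSucc 0, .negSucc 0,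
  .negSucc 0, .ofNat 0, .negSucc 0, .ofNat 1, .ofNat 0, .ofNat 1, .ofNat 0, .negSucc 0, .ofNat 1, .ofNat 0,
  .ofNat 0, .negSucc 0, .ofNat 0, .ofNat 0, .ofNat 0, .ofNat 0, .ofNat 0, .ofNat 1, .ofNat 1, .negSucc 0,
  .ofNat 0, .negSucc 0, .ofNat 0, .negSucc 0, .ofNat 0, .ofNat 0, .ofNat 2, .ofNat 1, .ofNat 0, .ofNat 0,
  .ofNat 1, .ofNat 0, .ofNat 0, .ofNat 0, .ofNat 0, .ofNat 0, .ofNat 0, .ofNat 0, .ofNat 0, .ofNat 0,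
  .ofNat 2, .negSucc 0, .ofNat 1, .negSucc 0, .ofNat 1, .ofNat 0, .ofNat 0, .negSucc 0, .ofNat 0, .ofNat 0,
  .ofNat 0, .ofNat 0, .ofNat 1, .ofNat 0, .negSucc 0, .ofNat 0, .ofNat 1]

/-- the values at the type 147 -/
def cY147 : List ℤ :=
  [.ofNat 0, .ofNat 0, .ofNat 0, .ofNat 0, .ofNat 0, .ofNat 0, .ofNat 0, .ofNat 0, .ofNat 0, .ofNat 0,
  .ofNat 0, .ofNat 0, .ofNat 0, .ofNat 0, .ofNat 0, .ofNat 0, .ofNat 0, .ofNat 0, .ofNat 0, .ofNat 0,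
  .ofNat 0, .ofNat 0, .ofNat 0, .ofNat 0, .ofNat 0, .ofNat 0, .ofNat 0, .ofNat 0, .ofNat 0, .ofNat 0,
  .ofNat 0, .ofNat 0, .ofNat 0, .ofNat 0, .ofNat 0, .ofNat 0, .ofNat 0, .ofNat 0, .ofNat 0, .ofNat 0,
  .ofNat 0, .ofNat 0, .ofNat 0, .ofNat 0, .ofNat 0, .ofNat 0, .ofNat 0, .ofNat 0, .ofNat 0, .ofNat 0,
  .ofNat 0, .ofNat 0, .ofNat 0, .ofNat 0, .ofNat 0, .ofNat 0, .ofNat 0, .ofNat 0, .ofNat 0, .ofNat 0,
  .ofNat 0, .ofNat 0, .ofNat 0, .ofNat 0, .ofNat 0, .ofNat 0, .ofNat 0]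

/-- the values at the type 148 -/
def cY148 : List ℤ :=
  [.negSucc 1, .ofNat 0, .ofNat 0, .negSucc 3, .ofNat 0, .ofNat 4, .ofNat 0, .ofNat 0, .ofNat 0, .negSucc 1,
  .ofNat 0, .negSucc 1, .ofNat 0, .ofNat 0, .negSucc 1, .ofNat 0, .ofNat 0, .ofNat 2, .negSucc 1, .ofNat 2,
  .negSucc 1, .ofNat 0, .negSucc 1, .ofNat 2, .negSucc 1, .ofNat 2, .negSucc 1, .negSucc 1, .ofNat 2,
  .ofNat 0, .negSucc 1, .ofNat 0, .ofNat 0, .ofNat 0, .ofNat 0, .ofNat 0, .ofNat 0, .ofNat 0, .ofNat 0,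
  .ofNat 0, .ofNat 0, .ofNat 0, .ofNat 0, .ofNat 4, .ofNat 4, .ofNat 0, .ofNat 0, .ofNat 0, .ofNat 0,
  .ofNat 0, .ofNat 2, .ofNat 0, .ofNat 0, .negSucc 1, .ofNat 2, .ofNat 0, .negSucc 1, .ofNat 0, .ofNat 2,
  .negSucc 1, .ofNat 0, .ofNat 0, .negSucc 1, .ofNat 0, .ofNat 0, .ofNat 0, .negSucc 1]

/-- the values at the type 149 -/
def cY149 : List ℤ :=
  [.ofNat 1, .ofNat 0, .ofNat 0, .ofNat 2, .ofNat 0, .negSucc 1, .ofNat 0, .ofNat 0, .ofNat 0, .ofNat 1,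
  .ofNat 0, .ofNat 1, .ofNat 0, .ofNat 0, .ofNat 1, .ofNat 0, .ofNat 0, .negSucc 0, .ofNat 1, .negSucc 0,
  .ofNat 1, .ofNat 0, .ofNat 1, .negSucc 0, .ofNat 1, .negSucc 0, .ofNat 1, .ofNat 1, .negSucc 0, .ofNat 0,
  .ofNat 1, .ofNat 0, .ofNat 0, .ofNat 0, .ofNat 0, .ofNat 0, .ofNat 0, .ofNat 0, .ofNat 0, .ofNat 0,
  .ofNat 0, .ofNat 0, .ofNat 0, .negSucc 1, .negSucc 1, .ofNat 0, .ofNat 0, .ofNat 0, .ofNat 0, .ofNat 0,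
  .negSucc 0, .ofNat 0, .ofNat 0, .ofNat 1, .negSucc 0, .ofNat 0, .ofNat 1, .ofNat 0, .negSucc 0, .ofNat 1,
  .ofNat 0, .ofNat 0, .ofNat 1, .ofNat 0, .ofNat 0, .ofNat 0, .ofNat 1]

/-- the values at the type 150 -/
def cY150 : List ℤ :=
  [.ofNat 0, .ofNat 0, .ofNat 0, .ofNat 0, .ofNat 0, .ofNat 0, .ofNat 0, .ofNat 0, .ofNat 0, .ofNat 0,
  .ofNat 0, .ofNat 0, .ofNat 0, .ofNat 0, .ofNat 0, .ofNat 0, .ofNat 0, .ofNat 0, .ofNat 0, .ofNat 0,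
  .ofNat 0, .ofNat 0, .ofNat 0, .ofNat 0, .ofNat 0, .ofNat 0, .ofNat 0, .ofNat 0, .ofNat 0, .ofNat 0,
  .ofNat 0, .ofNat 0, .ofNat 0, .ofNat 0, .ofNat 0, .ofNat 0, .ofNat 0, .ofNat 0, .ofNat 0, .ofNat 0,
  .ofNat 0, .ofNat 0, .ofNat 0, .ofNat 0, .ofNat 0, .ofNat 0, .ofNat 0, .ofNat 0, .ofNat 0, .ofNat 0,
  .ofNat 0, .ofNat 0, .ofNat 0, .ofNat 0, .ofNat 0, .ofNat 0, .ofNat 0, .ofNat 0, .ofNat 0, .ofNat 0,
  .ofNat 0, .ofNat 0, .ofNat 0, .ofNat 0, .ofNat 0, .ofNat 0, .ofNat 0]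

/-- the values at the type 151 -/
def cY151 : List ℤ :=
  [.ofNat 0, .ofNat 0, .ofNat 0, .ofNat 0, .ofNat 0, .ofNat 0, .ofNat 0, .ofNat 0, .ofNat 0, .ofNat 0,
  .ofNat 0, .ofNat 0, .ofNat 0, .ofNat 0, .ofNat 0, .ofNat 0, .ofNat 0, .ofNat 0, .ofNat 0, .ofNat 0,
  .ofNat 0, .ofNat 0, .ofNat 0, .ofNat 0, .ofNat 0, .ofNat 0, .ofNat 0, .ofNat 0, .ofNat 0, .ofNat 0,
  .ofNat 0, .ofNat 0, .ofNat 0, .ofNat 0, .ofNat 0, .ofNat 0, .ofNat 0, .ofNat 0, .ofNat 0, .ofNat 0,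
  .ofNat 0, .ofNat 0, .ofNat 0, .ofNat 0, .ofNat 0, .ofNat 0, .ofNat 0, .ofNat 0, .ofNat 0, .ofNat 0,
  .ofNat 0, .ofNat 0, .ofNat 0, .ofNat 0, .ofNat 0, .ofNat 0, .ofNat 0, .ofNat 0, .ofNat 0, .ofNat 0,
  .ofNat 0, .ofNat 0, .ofNat 0, .ofNat 0, .ofNat 0, .ofNat 0, .ofNat 0]

/-- the values at the type 152 -/
def cY152 : List ℤ :=
  [.ofNat 0, .ofNat 0, .ofNat 0, .ofNat 0, .ofNat 0, .ofNat 0, .ofNat 0, .ofNat 0, .ofNat 0, .ofNat 0,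
  .ofNat 0, .ofNat 0, .ofNat 0, .ofNat 0, .ofNat 0, .ofNat 0, .ofNat 0, .ofNat 0, .ofNat 0, .ofNat 0,
  .ofNat 0, .ofNat 0, .ofNat 0, .ofNat 0, .ofNat 0, .ofNat 0, .ofNat 0, .ofNat 0, .ofNat 0, .ofNat 0,
  .ofNat 0, .ofNat 0, .ofNat 0, .ofNat 0, .ofNat 0, .ofNat 0, .ofNat 0, .ofNat 0, .ofNat 0, .ofNat 0,
  .ofNat 0, .ofNat 0, .ofNat 0, .ofNat 0, .ofNat 0, .ofNat 0, .ofNat 0, .ofNat 0, .ofNat 0, .ofNat 0,
  .ofNat 0, .ofNat 0, .ofNat 0, .ofNat 0, .ofNat 0, .ofNat 0, .ofNat 0, .ofNat 0, .ofNat 0, .ofNat 0,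
  .ofNat 0, .ofNat 0, .ofNat 0, .ofNat 0, .ofNat 0, .ofNat 0, .ofNat 0]

/-- the values at the type 153 -/
def cY153 : List ℤ :=
  [.negSucc 3, .ofNat 4, .negSucc 3, .ofNat 4, .ofNat 0, .ofNat 0, .ofNat 4, .ofNat 0, .ofNat 0, .ofNat 0,
  .negSucc 3, .ofNat 0, .ofNat 0, .ofNat 4, .ofNat 0, .ofNat 0, .ofNat 0, .ofNat 4, .ofNat 0, .ofNat 0,
  .ofNat 0, .ofNat 4, .ofNat 0, .ofNat 4, .ofNat 0, .negSucc 3, .ofNat 0, .ofNat 4, .ofNat 0, .negSucc 3,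
  .ofNat 0, .ofNat 0, .ofNat 0, .ofNat 0, .ofNat 0, .negSucc 3, .ofNat 0, .negSucc 3, .ofNat 0, .ofNat 0,
  .ofNat 0, .ofNat 0, .ofNat 0, .ofNat 0, .ofNat 0, .ofNat 0, .ofNat 0, .ofNat 0, .ofNat 0, .ofNat 0,
  .negSucc 3, .ofNat 0, .ofNat 4, .negSucc 3, .ofNat 0, .ofNat 0, .ofNat 0, .negSucc 3, .ofNat 0, .ofNat 0,
  .ofNat 0, .ofNat 0, .ofNat 0, .ofNat 0, .ofNat 4, .ofNat 0, .negSucc 3]

/-- the values at the type 154 -/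
def cY154 : List ℤ :=
  [.ofNat 2, .negSucc 1, .ofNat 2, .negSucc 1, .ofNat 0, .ofNat 0, .negSucc 1, .ofNat 0, .ofNat 0, .ofNat 0,
  .ofNat 2, .ofNat 0, .ofNat 0, .negSucc 1, .ofNat 0, .ofNat 0, .ofNat 0, .negSucc 1, .ofNat 0, .ofNat 0,
  .ofNat 0, .negSucc 1, .ofNat 0, .negSucc 1, .ofNat 0, .ofNat 2, .ofNat 0, .negSucc 1, .ofNat 0, .ofNat 2,
  .ofNat 0, .ofNat 0, .ofNat 0, .ofNat 0, .ofNat 0, .ofNat 2, .ofNat 0, .ofNat 2, .ofNat 0, .ofNat 0,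
  .ofNat 0, .ofNat 0, .ofNat 0, .ofNat 0, .ofNat 0, .ofNat 0, .ofNat 0, .ofNat 0, .ofNat 0, .ofNat 0,
  .ofNat 2, .ofNat 0, .negSucc 1, .ofNat 2, .ofNat 0, .ofNat 0, .ofNat 0, .ofNat 2, .ofNat 0, .ofNat 0,
  .ofNat 0, .ofNat 0, .ofNat 0, .ofNat 0, .negSucc 1, .ofNat 0, .ofNat 2]

/-- the values at the type 155 -/
def cY155 : List ℤ :=
  [.ofNat 1, .negSucc 0, .ofNat 0, .ofNat 0, .ofNat 0, .ofNat 0, .negSucc 0, .ofNat 0, .negSucc 0, .ofNat 0,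
  .ofNat 0, .ofNat 0, .ofNat 0, .ofNat 0, .negSucc 0, .ofNat 1, .ofNat 0, .ofNat 2, .ofNat 0, .ofNat 0,
  .ofNat 0, .ofNat 1, .ofNat 0, .ofNat 0, .ofNat 0, .negSucc 0, .ofNat 0, .ofNat 0, .ofNat 0, .ofNat 0,
  .ofNat 0, .ofNat 0, .ofNat 0, .ofNat 0, .negSucc 0, .negSucc 0, .ofNat 0, .ofNat 0, .ofNat 0, .ofNat 0,
  .ofNat 0, .ofNat 0, .negSucc 0, .ofNat 0, .ofNat 0, .ofNat 0, .ofNat 0, .negSucc 0, .ofNat 0, .negSucc 0,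
  .ofNat 1, .ofNat 0, .ofNat 0, .ofNat 0, .negSucc 0, .ofNat 0, .ofNat 0, .ofNat 1, .ofNat 0, .ofNat 0,
  .ofNat 0, .ofNat 0, .ofNat 0, .ofNat 0, .ofNat 1, .ofNat 0, .ofNat 1]

/-- the values at the type 156 -/
def cY156 : List ℤ :=
  [.negSucc 1, .ofNat 2, .ofNat 0, .ofNat 0, .ofNat 0, .ofNat 0, .ofNat 2, .ofNat 0, .ofNat 2, .ofNat 0,
  .ofNat 0, .ofNat 0, .ofNat 0, .ofNat 0, .ofNat 2, .negSucc 1, .ofNat 0, .negSucc 3, .ofNat 0, .ofNat 0,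
  .ofNat 0, .negSucc 1, .ofNat 0, .ofNat 0, .ofNat 0, .ofNat 2, .ofNat 0, .ofNat 0, .ofNat 0, .ofNat 0,
  .ofNat 0, .ofNat 0, .ofNat 0, .ofNat 0, .ofNat 2, .ofNat 2, .ofNat 0, .ofNat 0, .ofNat 0, .ofNat 0,
  .ofNat 0, .ofNat 0, .ofNat 2, .ofNat 0, .ofNat 0, .ofNat 0, .ofNat 0, .ofNat 2, .ofNat 0, .ofNat 2,
  .negSucc 1, .ofNat 0, .ofNat 0, .ofNat 0, .ofNat 2, .ofNat 0, .ofNat 0, .negSucc 1, .ofNat 0, .ofNat 0,
  .ofNat 0, .ofNat 0, .ofNat 0, .ofNat 0, .negSucc 1, .ofNat 0, .negSucc 1]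

/-- the values at the type 157 -/
def cY157 : List ℤ :=
  [.ofNat 2, .ofNat 2, .negSucc 1, .ofNat 0, .negSucc 1, .ofNat 2, .ofNat 2, .ofNat 2, .ofNat 0, .ofNat 0,
  .ofNat 2, .ofNat 0, .ofNat 0, .ofNat 0, .ofNat 0, .ofNat 0, .negSucc 1, .ofNat 0, .negSucc 1, .ofNat 0,
  .negSucc 1, .ofNat 0, .ofNat 0, .ofNat 0, .ofNat 0, .ofNat 0, .ofNat 0, .ofNat 2, .ofNat 2, .ofNat 0,
  .ofNat 0, .ofNat 0, .ofNat 0, .ofNat 0, .ofNat 0, .ofNat 0, .ofNat 0, .ofNat 2, .ofNat 0, .ofNat 0,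
  .ofNat 0, .ofNat 0, .ofNat 0, .ofNat 2, .ofNat 0, .ofNat 0, .ofNat 0, .ofNat 0, .ofNat 0, .negSucc 1,
  .negSucc 1, .ofNat 0, .ofNat 0, .ofNat 2, .ofNat 0, .negSucc 1, .ofNat 2, .ofNat 0, .ofNat 0, .ofNat 0,
  .ofNat 0, .ofNat 2, .ofNat 0, .ofNat 2, .ofNat 0, .ofNat 0, .ofNat 2]

/-- the values at the type 158 -/
def cY158 : List ℤ :=
  [.negSucc 0, .negSucc 0, .ofNat 1, .ofNat 0, .ofNat 1, .negSucc 0, .negSucc 0, .negSucc 0, .ofNat 0,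
  .ofNat 0, .negSucc 0, .ofNat 0, .ofNat 0, .ofNat 0, .ofNat 0, .ofNat 0, .ofNat 1, .ofNat 0, .ofNat 1,
  .ofNat 0, .ofNat 1, .ofNat 0, .ofNat 0, .ofNat 0, .ofNat 0, .ofNat 0, .ofNat 0, .negSucc 0, .negSucc 0,
  .ofNat 0, .ofNat 0, .ofNat 0, .ofNat 0, .ofNat 0, .ofNat 0, .ofNat 0, .ofNat 0, .negSucc 0, .ofNat 0,
  .ofNat 0, .ofNat 0, .ofNat 0, .ofNat 0, .negSucc 0, .ofNat 0, .ofNat 0, .ofNat 0, .ofNat 0, .ofNat 0,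
  .ofNat 1, .ofNat 1, .ofNat 0, .ofNat 0, .negSucc 0, .ofNat 0, .ofNat 1, .negSucc 0, .ofNat 0, .ofNat 0,
  .ofNat 0, .ofNat 0, .negSucc 0, .ofNat 0, .negSucc 0, .ofNat 0, .ofNat 0, .negSucc 0]

/-- the values at the type 159 -/
def cY159 : List ℤ :=
  [.ofNat 2, .ofNat 0, .ofNat 0, .negSucc 1, .negSucc 3, .ofNat 2, .ofNat 2, .negSucc 1, .ofNat 0, .ofNat 0,
  .negSucc 3, .ofNat 2, .ofNat 0, .ofNat 0, .ofNat 2, .ofNat 0, .ofNat 0, .ofNat 0, .ofNat 2, .ofNat 0,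
  .negSucc 1, .negSucc 1, .negSucc 1, .ofNat 2, .negSucc 1, .negSucc 1, .ofNat 0, .negSucc 1, .ofNat 2,
  .ofNat 2, .ofNat 2, .ofNat 0, .ofNat 0, .ofNat 0, .ofNat 0, .ofNat 0, .ofNat 0, .ofNat 0, .ofNat 0,
  .ofNat 0, .ofNat 0, .ofNat 0, .ofNat 0, .negSucc 3, .ofNat 0, .ofNat 0, .ofNat 0, .ofNat 0, .ofNat 0,
  .negSucc 3, .negSucc 1, .ofNat 6, .ofNat 2, .ofNat 2, .ofNat 2, .ofNat 4, .negSucc 3, .ofNat 0, .negSucc 1,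
  .ofNat 0, .ofNat 0, .negSucc 3, .ofNat 2, .ofNat 0, .ofNat 0, .ofNat 0, .ofNat 2]

/-- the values at the type 160 -/
def cY160 : List ℤ :=
  [.negSucc 0, .ofNat 0, .ofNat 0, .ofNat 1, .ofNat 2, .negSucc 0, .negSucc 0, .ofNat 1, .ofNat 0, .ofNat 0,
  .ofNat 2, .negSucc 0, .ofNat 0, .ofNat 0, .negSucc 0, .ofNat 0, .ofNat 0, .ofNat 0, .negSucc 0, .ofNat 0,
  .ofNat 1, .ofNat 1, .ofNat 1, .negSucc 0, .ofNat 1, .ofNat 1, .ofNat 0, .ofNat 1, .negSucc 0, .negSucc 0,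
  .negSucc 0, .ofNat 0, .ofNat 0, .ofNat 0, .ofNat 0, .ofNat 0, .ofNat 0, .ofNat 0, .ofNat 0, .ofNat 0,
  .ofNat 0, .ofNat 0, .ofNat 0, .ofNat 2, .ofNat 0, .ofNat 0, .ofNat 0, .ofNat 0, .ofNat 0, .ofNat 2,
  .ofNat 1, .negSucc 2, .negSucc 0, .negSucc 0, .negSucc 0, .negSucc 1, .ofNat 2, .ofNat 0, .ofNat 1,
  .ofNat 0, .ofNat 0, .ofNat 2, .negSucc 0, .ofNat 0, .ofNat 0, .ofNat 0, .negSucc 0]

/-- the columns -/
def colsY : List (List ℤ) :=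
  [cY0, cY1, cY2, cY3, cY4, cY5, cY6, cY7, cY8, cY9, cY10, cY11, cY12, cY13, cY14, cY15, cY16, cY17, cY18,
  cY19, cY20, cY21, cY22, cY23, cY24, cY25, cY26, cY27, cY28, cY29, cY30, cY31, cY32, cY33, cY34, cY35, cY36,
  cY37, cY38, cY39, cY40, cY41, cY42, cY43, cY44, cY45, cY46, cY47, cY48, cY49, cY50, cY51, cY52, cY53, cY54,
  cY55, cY56, cY57, cY58, cY59, cY60, cY61, cY62, cY63, cY64, cY65, cY66, cY67, cY68, cY69, cY70, cY71, cY72,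
  cY73, cY74, cY75, cY76, cY77, cY78, cY79, cY80, cY81, cY82, cY83, cY84, cY85, cY86, cY87, cY88, cY89, cY90,
  cY91, cY92, cY93, cY94, cY95, cY96, cY97, cY98, cY99, cY100, cY101, cY102, cY103, cY104, cY105, cY106,
  cY107, cY108, cY109, cY110, cY111, cY112, cY113, cY114, cY115, cY116, cY117, cY118, cY119, cY120, cY121,
  cY122, cY123, cY124, cY125, cY126, cY127, cY128, cY129, cY130, cY131, cY132, cY133, cY134, cY135, cY136,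
  cY137, cY138, cY139, cY140, cY141, cY142, cY143, cY144, cY145, cY146, cY147, cY148, cY149, cY150, cY151,
  cY152, cY153, cY154, cY155, cY156, cY157, cY158, cY159, cY160]

/-- the norms -/
def nmY : List ℕ :=
  [2, 2, 2, 2, 2, 2, 2, 2, 2, 2, 2, 2, 2, 2, 2, 2, 2, 2, 2, 2, 2, 2, 2, 2, 2, 2, 2, 2, 2, 2, 2, 2, 2, 2, 2,
  2, 2, 2, 2, 2, 2, 2, 4, 4, 4, 4, 4, 4, 4, 2, 2, 2, 2, 2, 2, 2, 2, 2, 2, 2, 2, 2, 2, 2, 2, 2, 2]

/-- the signs -/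
def sgY : List ℤ :=
  [.ofNat 1, .ofNat 1, .ofNat 1, .ofNat 1, .ofNat 1, .ofNat 1, .ofNat 1, .ofNat 1, .ofNat 1, .ofNat 1,
  .ofNat 1, .ofNat 1, .ofNat 1, .ofNat 1, .ofNat 1, .ofNat 1, .ofNat 1, .ofNat 1, .ofNat 1, .ofNat 1,
  .ofNat 1, .ofNat 1, .ofNat 1, .ofNat 1, .ofNat 1, .ofNat 1, .ofNat 1, .ofNat 1, .ofNat 1, .ofNat 1,
  .ofNat 1, .ofNat 1, .ofNat 1, .ofNat 1, .ofNat 1, .ofNat 1, .ofNat 1, .ofNat 1, .ofNat 1, .ofNat 1,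
  .ofNat 1, .ofNat 1, .ofNat 1, .ofNat 1, .ofNat 1, .ofNat 1, .ofNat 1, .ofNat 1, .ofNat 1, .negSucc 0,
  .ofNat 1, .ofNat 1, .negSucc 0, .negSucc 0, .ofNat 1, .negSucc 0, .negSucc 0, .ofNat 1, .ofNat 1, .ofNat 1,
  .negSucc 0, .negSucc 0, .negSucc 0, .negSucc 0, .ofNat 1, .ofNat 1]

/-- the inflated part of the seed `sX0` -/
def cU : List (ℤ × ℕ) :=
  [(.ofNat 2, 0), (.ofNat 966, 1), (.ofNat 6418, 2), (.ofNat 27784, 3), (.ofNat 61742, 4),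
  (.ofNat 185230, 5), (.ofNat 540370, 6), (.ofNat 3634794, 7), (.ofNat 3986414, 8), (.ofNat 4504450, 9),
  (.ofNat 5432768, 10), (.ofNat 8828722, 11), (.ofNat 12463920, 12), (.ofNat 17711480, 13),
  (.ofNat 31265572, 14), (.ofNat 46121744, 15), (.ofNat 70624600, 16), (.ofNat 118840726, 17),
  (.ofNat 123591332, 18), (.ofNat 140448410, 19), (.ofNat 148585188, 20), (.ofNat 171128748, 21),
  (.ofNat 260766524, 22), (.ofNat 353120504, 23), (.ofNat 356520918, 24), (.ofNat 364835490, 25),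
  (.ofNat 556164210, 26), (.ofNat 641703208, 27), (.ofNat 719079580, 28), (.ofNat 794521780, 29),
  (.ofNat 947737644, 30), (.ofNat 1011213860, 31), (.ofNat 1049062260, 32), (.ofNat 1129988496, 33),
  (.ofNat 1544908470, 34), (.ofNat 1544911538, 35), (.ofNat 1611894258, 36), (.ofNat 1896490548, 37),
  (.ofNat 1906862484, 38), (.ofNat 2780835178, 39), (.ofNat 3089813808, 40), (.ofNat 3271565140, 41),
  (.ofNat 3954965404, 42), (.ofNat 4095413130, 43), (.ofNat 4148556408, 44), (.ofNat 4293539768, 45),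
  (.ofNat 4449339216, 46), (.ofNat 4943698512, 47), (.ofNat 5005503642, 48), (.ofNat 5178102072, 49),
  (.ofNat 6026019894, 50), (.ofNat 6179617644, 51), (.ofNat 7092344412, 52), (.ofNat 7481314380, 53),
  (.ofNat 7909922020, 54), (.ofNat 8320831632, 55), (.ofNat 8567652432, 56), (.ofNat 8597736028, 57),
  (.ofNat 11376142890, 58), (.ofNat 12359261168, 59), (.ofNat 12359255224, 60), (.ofNat 13176536436, 61),
  (.ofNat 15479719524, 62), (.ofNat 15796583082, 63), (.ofNat 15819844736, 64), (.ofNat 16183343672, 65),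
  (.ofNat 16689079464, 66), (.ofNat 17369090550, 67), (.ofNat 17369090550, 68), (.ofNat 17812630652, 69),
  (.ofNat 18844239384, 70), (.ofNat 19834986294, 71), (.ofNat 20457456336, 72), (.ofNat 21187289364, 73),
  (.ofNat 22882288872, 74), (.ofNat 24750996104, 75), (.ofNat 25027498050, 76), (.ofNat 27808324276, 77),
  (.ofNat 31338769368, 78), (.ofNat 37337057632, 79), (.ofNat 178150, 80), (.ofNat 8314866, 81),
  (.ofNat 1197403360, 82), (.ofNat 2053542220, 83), (.ofNat 6053518120, 84), (.ofNat 7265990940, 85),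
  (.ofNat 8556407108, 86), (.ofNat 14710042896, 87), (.ofNat 15566183232, 88), (.ofNat 16821916650, 89),
  (.ofNat 18285823440, 90), (.ofNat 21979318360, 91), (.ofNat 22246662872, 92), (.ofNat 22817085064, 93)]

/-- the levels -/
def lvY : List Lv :=
  [⟨31, 2, 1, [], true⟩, ⟨32, 2, 1, [], true⟩, ⟨33, 2, 1, [], true⟩, ⟨36, 2, 1, [], true⟩,
  ⟨39, 2, 1, [], true⟩, ⟨40, 2, 1, [], true⟩, ⟨46, 1, 1, [], true⟩, ⟨48, 1, 1, [], true⟩,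
  ⟨18, 2, 144, [], true⟩, ⟨2, 2, 1, [8], true⟩, ⟨7, 2, 1, [46], true⟩, ⟨11, 2, 1, [63], true⟩,
  ⟨12, 2, 1, [96], true⟩, ⟨13, 2, 1, [132], true⟩, ⟨16, 2, 1, [44], true⟩, ⟨19, 2, 1, [63], true⟩,
  ⟨22, 2, 1, [132], true⟩, ⟨26, 2, 1, [81], true⟩, ⟨29, 2, 1, [30], true⟩, ⟨30, 2, 1, [111], true⟩,
  ⟨37, 2, 1, [112], true⟩, ⟨41, 2, 1, [96], true⟩, ⟨43, 1, 1, [34], true⟩, ⟨44, 1, 1, [126], true⟩,
  ⟨45, 1, 1, [96], true⟩, ⟨3, 2, 2, [66], true⟩, ⟨5, 2, 1, [1, 40], true⟩, ⟨9, 2, 1, [1, 90], true⟩,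
  ⟨10, 2, 1, [1, 58], true⟩, ⟨20, 2, 1, [1, 41], true⟩, ⟨23, 2, 1, [1, 9], true⟩, ⟨24, 2, 1, [1, 9], true⟩,
  ⟨27, 2, 1, [1, 25], true⟩, ⟨28, 2, 1, [1, 25], true⟩, ⟨38, 2, 1, [1, 69], true⟩, ⟨0, 2, 3, [0, 129], true⟩,
  ⟨1, 2, 1, [1, 0, 35], true⟩, ⟨14, 2, 1, [1, 0, 10], true⟩, ⟨15, 2, 1, [2, 0, 38], true⟩,
  ⟨21, 2, 1, [2, 0, 8], true⟩, ⟨25, 2, 1, [1, 1, 37], true⟩, ⟨42, 1, 1, [1, 0, 43], true⟩,
  ⟨4, 2, 3, [0, 0, 15], true⟩, ⟨6, 2, 1, [1, 1, 0, 82], true⟩, ⟨8, 2, 1, [1, 1, 0, 96], true⟩,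
  ⟨17, 2, 1, [2, 1, 1, 17], true⟩, ⟨34, 2, 1, [1, 1, 0, 48], true⟩, ⟨35, 2, 1, [1, 1, 1, 117], true⟩,
  ⟨47, 1, 1, [1, 1, 0, 48], true⟩, ⟨66, 2, 18, [0, 0, 0, 54], false⟩, ⟨49, 2, 1, [1, 0, 0, 0, 0], false⟩,
  ⟨50, 2, 1, [1, 2, 1, 1, 134], false⟩, ⟨51, 2, 1, [1, 2, 2, 0, 88], false⟩,
  ⟨52, 2, 1, [1, 2, 2, 0, 25], false⟩, ⟨53, 2, 1, [1, 2, 2, 0, 86], false⟩,
  ⟨54, 2, 1, [1, 2, 0, 1, 14], false⟩, ⟨55, 2, 1, [1, 2, 2, 0, 90], false⟩,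
  ⟨56, 2, 1, [1, 2, 2, 1, 2], false⟩, ⟨57, 2, 1, [1, 1, 1, 0, 55], false⟩,
  ⟨58, 2, 1, [1, 2, 2, 0, 64], false⟩, ⟨59, 2, 1, [1, 2, 2, 1, 85], false⟩,
  ⟨60, 2, 1, [1, 2, 2, 1, 112], false⟩, ⟨61, 2, 1, [1, 2, 2, 0, 56], false⟩,
  ⟨62, 2, 1, [1, 2, 2, 0, 10], false⟩, ⟨63, 2, 1, [1, 2, 2, 0, 47], false⟩,
  ⟨64, 2, 1, [1, 1, 1, 0, 79], false⟩, ⟨65, 2, 1, [1, 2, 2, 1, 40], false⟩]

/-- the relations as combinations of the old ones -/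
def cfY : List (List (ℤ × ℕ)) :=
  [[(.ofNat 1, 2)], [(.ofNat 1, 3)], [(.ofNat 1, 4)], [(.ofNat 1, 5)], [(.ofNat 1, 6)], [(.ofNat 1, 7)],
  [(.ofNat 1, 8)], [(.ofNat 1, 9)], [(.ofNat 1, 10)], [(.ofNat 1, 11)], [(.ofNat 1, 12)], [(.ofNat 1, 13)],
  [(.ofNat 1, 14)], [(.ofNat 1, 15)], [(.ofNat 1, 16)], [(.ofNat 1, 17)], [(.ofNat 1, 18)], [(.ofNat 1, 19)],
  [(.ofNat 1, 20)], [(.ofNat 1, 21)], [(.ofNat 1, 22)], [(.ofNat 1, 23)], [(.ofNat 1, 24)], [(.ofNat 1, 25)],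
  [(.ofNat 1, 26)], [(.ofNat 1, 27)], [(.ofNat 1, 28)], [(.ofNat 1, 29)], [(.ofNat 1, 30)], [(.ofNat 1, 31)],
  [(.ofNat 1, 32)], [(.ofNat 1, 33)], [(.ofNat 1, 34)], [(.ofNat 1, 35)], [(.ofNat 1, 36)], [(.ofNat 1, 37)],
  [(.ofNat 1, 38)], [(.ofNat 1, 39)], [(.ofNat 1, 40)], [(.ofNat 1, 41)], [(.ofNat 1, 42)], [(.ofNat 1, 43)],
  [(.ofNat 1, 44)], [(.ofNat 1, 45)], [(.ofNat 1, 46)], [(.ofNat 1, 47)], [(.ofNat 1, 48)], [(.ofNat 1, 49)],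
  [(.ofNat 1, 50)], [(.ofNat 1, 0), (.negSucc 0, 1), (.negSucc 17161699193, 2), (.negSucc 17806131005, 3),
  (.negSucc 19834986293, 4), (.negSucc 23395110443, 5), (.negSucc 28877862641, 6), (.negSucc 30545626985, 7),
  (.negSucc 916732889, 8), (.negSucc 16821916649, 9), (.ofNat 99871139307, 10), (.negSucc 747129, 11),
  (.negSucc 172601417, 12), (.negSucc 513386215, 13), (.negSucc 1050722633, 14), (.negSucc 1191790837, 15),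
  (.negSucc 1668502515, 16), (.negSucc 3792038949, 17), (.negSucc 8705223185, 18),
  (.negSucc 11506892883, 19), (.negSucc 15796583081, 20), (.negSucc 16684994679, 21),
  (.negSucc 23984603135, 22), (.negSucc 45049487243, 23), (.negSucc 128017091, 24), (.negSucc 139506151, 25),
  (.negSucc 149953661, 26), (.ofNat 87694096256, 27), (.negSucc 22649543, 28), (.negSucc 266693947, 29),
  (.negSucc 476711677, 30), (.negSucc 4642779005, 31), (.negSucc 8917352449, 32), (.negSucc 8917352449, 33),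
  (.negSucc 15067250685, 34), (.negSucc 15067250685, 35), (.negSucc 28551873283, 36),
  (.ofNat 101188611860, 37), (.negSucc 33983, 38), (.negSucc 1362045131, 39), (.negSucc 1611894257, 40),
  (.negSucc 7092344411, 41), (.negSucc 9339701507, 42), (.negSucc 24017711, 43), (.ofNat 92795700468, 44),
  (.negSucc 116746445, 45), (.negSucc 202064231, 46), (.negSucc 2334926915, 47), (.negSucc 20573471993, 48),
  (.negSucc 22641725433, 49), (.negSucc 999325055, 50), (.negSucc 34069, 51), (.negSucc 2817447, 52),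
  (.negSucc 21668191, 53), (.negSucc 21669391, 54), (.negSucc 36669757, 55), (.negSucc 311327277, 56),
  (.negSucc 362716587, 57), (.negSucc 490733679, 58), (.negSucc 2344086183, 59), (.negSucc 2426916871, 60),
  (.negSucc 3792041941, 61), (.negSucc 12834625539, 62), (.negSucc 13347997411, 63),
  (.negSucc 30509714515, 64), (.negSucc 32856612693, 65), (.negSucc 39849421477, 66),
  (.negSucc 41712494151, 67)], [(.negSucc 0, 51)], [(.ofNat 1, 52)], [(.ofNat 1, 53)], [(.ofNat 1, 37),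
  (.ofNat 1, 44), (.negSucc 0, 54)], [(.ofNat 1, 37), (.ofNat 1, 44), (.negSucc 0, 55)], [(.ofNat 1, 56)],
  [(.ofNat 1, 37), (.ofNat 1, 44), (.negSucc 0, 57)], [(.negSucc 0, 10), (.ofNat 1, 27), (.ofNat 1, 37),
  (.ofNat 1, 44), (.negSucc 0, 58)], [(.ofNat 1, 59)], [(.ofNat 1, 60)], [(.ofNat 1, 61)], [(.ofNat 1, 27),
  (.ofNat 1, 37), (.ofNat 1, 44), (.negSucc 0, 62)], [(.ofNat 1, 37), (.ofNat 1, 44), (.negSucc 0, 63)],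
  [(.ofNat 1, 37), (.ofNat 1, 44), (.negSucc 0, 64)], [(.ofNat 1, 37), (.ofNat 1, 44), (.negSucc 0, 65)],
  [(.ofNat 1, 66)], [(.ofNat 1, 67)]]

theorem gramY : chkG DX (colsY.map (List.take nmY.length)) (nmY.map fun n => (n, 0)) 4 (3 ^ 57) = true := by
  decide +kernel

theorem ok_lvY : okQ nmY.length nmY lvY 4 2 = true := by decide +kernel

theorem okJ_lvY : okJ 49 lvY = true := by decide +kernel

/-- the known generalized characters -/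
noncomputable def gY (t : ℕ) : List ℤ :=
  nth sX0 t :: cmb colsT cU (proj.getD t 0) :: cmbs colsX (rels lvX [] ++ exX) t

theorem ok_cfY : okL DX.n colsY gY ((rels lvY []).zip cfY) = true := by decide +kernel

theorem lt_cfY : (∀ p ∈ (rels lvY []).zip cfY, ∀ q ∈ p.2, q.2 < 68) ∧ (rels lvY []).length ≤ cfY.length ∧
    (rels lvX [] ++ exX).length = 66 ∧ ∀ p ∈ cU, p.2 < nmT.length := by decide +kernel

theorem ok_XY : allL (fun t => frcLZ (ntd colsX [] t) fun c => frcLZ (ntd colsY [] t) fun c' =>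
    allL (fun j => decide (nth sgY j * nth c j = nth c' j + (if j < 49 then 0 else 1) * nth c' 66)) (List.range 66))
    (List.range 161) = true := by decide +kernel

theorem ok_fib : allL (fun s => frcL ((List.range 161).filter fun t => proj.getD t 0 == s) fun ts =>
    allL (fun j => decide ((ts.map fun t => (DX.cnt t : ℤ) * rw colsX j t).sum = 0)) (List.range 66))
    (List.range 94) = true := by decide +kernel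

end Cfsg.Agent.MK.S7
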